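import Cfsg.Prelude.Def_DStar
import Cfsg.Agent.Lib.Transfer.MaxAbelian
import Cfsg.Agent.Lib.OddLocal.Puig

/-!
# The subgroup D*
-/

set_option autoImplicit false
set_option linter.style.haveILetI false

namespace Cfsg.Agent.Tech

open Subgroup Cfsg
open scoped commutatorElement

variable {S : Type*} [Group S]

/-- `⟨V, x⟩` has class at most two if `V` is abelian, normalized by `x`, with `[V, x, x] = 1`. -/
theorem class_two_of_quadratic (V : Subgroup S) [IsMulCommutative V] {x : S}
    (hx : x ∈ normalizer (V : Set S)) (h : ∀ v ∈ V, Commute ⁅v, x⁆ x) :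
    ⁅⁅V ⊔ zpowers x, V ⊔ zpowers x⁆, V ⊔ zpowers x⁆ = ⊥ := by
  set K := V ⊔ zpowers x with hK
  rw [commutator_eq_bot_iff_le_centralizer]
  have hxK : x ∈ K := mem_sup_right (mem_zpowers x)
  have hW : ∀ v ∈ V, ⁅v, x⁆ ∈ centralizer (K : Set S) := by
    intro v hv
    have hvV : ⁅v, x⁆ ∈ V := by
      rw [commutatorElement_def, show v * x * v⁻¹ * x⁻¹ = v * (x * v⁻¹ * x⁻¹) by group]
      exact mul_mem hv ((mem_normalizer_iff.mp hx _).mp (inv_mem hv))
    have hle : K ≤ centralizer ({⁅v, x⁆} : Set S) := sup_le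
      (fun w hw => mem_centralizer_singleton_iff.mpr
        (congrArg Subtype.val (mul_comm' (⟨w, hw⟩ : V) ⟨_, hvV⟩)))
      (zpowers_le.mpr (mem_centralizer_singleton_iff.mpr (h v hv).eq.symm))
    exact mem_centralizer_iff.mpr fun u hu => mem_centralizer_singleton_iff.mp (hle hu)
  -- the elements commuting with `u` modulo the centre
  have hC : ∀ u ∈ K, ∀ w ∈ centralizer (K : Set S), u * w * u⁻¹ = w := fun u hu w hw => by
    rw [mem_centralizer_iff.mp hw u hu, mul_inv_cancel_right]
  let M : ∀ u ∈ K, Subgroup S := fun u hu =>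
    { carrier := {g | g ∈ K ∧ ⁅g, u⁆ ∈ centralizer (K : Set S)}
      one_mem' := ⟨one_mem _, by rw [commutatorElement_one_left]; exact one_mem _⟩
      mul_mem' := fun {a b} ha hb => ⟨mul_mem ha.1 hb.1, by
        rw [show ⁅a * b, u⁆ = a * ⁅b, u⁆ * a⁻¹ * ⁅a, u⁆ by
          simp only [commutatorElement_def]; group, hC a ha.1 _ hb.2]
        exact mul_mem hb.2 ha.2⟩
      inv_mem' := fun {a} ha => ⟨inv_mem ha.1, by
        rw [show ⁅a⁻¹, u⁆ = a⁻¹ * ⁅a, u⁆⁻¹ * a⁻¹⁻¹ by simp only [commutatorElement_def]; group,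
          hC _ (inv_mem ha.1) _ (inv_mem ha.2)]
        exact inv_mem ha.2⟩ }
  have hxx : ∀ g ∈ K, ⁅g, x⁆ ∈ centralizer (K : Set S) := by
    intro g hg
    have : K ≤ M x hxK := sup_le (fun v hv => ⟨mem_sup_left hv, hW v hv⟩)
      (zpowers_le.mpr ⟨hxK, by rw [commutatorElement_self]; exact one_mem _⟩)
    exact (this hg).2
  rw [commutator_le]
  intro a ha b hb
  have : K ≤ M b hb := sup_le (fun v hv => ⟨mem_sup_left hv, by
      have h2 : K ≤ M v (mem_sup_left hv) := sup_le
        (fun w hw => ⟨mem_sup_left hw, by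
          rw [commutatorElement_eq_one_iff_mul_comm.mpr
            (congrArg Subtype.val (mul_comm' (⟨w, hw⟩ : V) ⟨v, hv⟩))]
          exact one_mem _⟩)
        (zpowers_le.mpr ⟨hxK, by rw [← commutatorElement_inv]; exact inv_mem (hW v hv)⟩)
      rw [← commutatorElement_inv]
      exact inv_mem (h2 hb).2⟩)
    (zpowers_le.mpr ⟨hxK, by rw [← commutatorElement_inv]; exact inv_mem (hxx b hb)⟩)
  exact (this ha).2

theorem quadratic_of_class_two {A : Subgroup S} {x : S}
    (h : ⁅⁅A ⊔ zpowers x, A ⊔ zpowers x⁆, A ⊔ zpowers x⁆ = ⊥) {a : S} (ha : a ∈ A) :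
    Commute ⁅a, x⁆ x := by
  have h1 := commutator_mem_commutator (commutator_mem_commutator (H₁ := A ⊔ zpowers x) (H₂ := A ⊔ zpowers x)
    (mem_sup_left ha) (mem_sup_right (mem_zpowers x)))
    (show x ∈ A ⊔ zpowers x from mem_sup_right (mem_zpowers x))
  rw [h, mem_bot] at h1
  exact commutatorElement_eq_one_iff_commute.mp h1

theorem dStarFamily_map {T : Type*} [Group T] (e : S ≃* T) {A : Subgroup S}
    (hA : A ∈ dStarFamily S) : A.map e.toMonoidHom ∈ dStarFamily T := by
  obtain ⟨hc, hA⟩ := hA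
  haveI := hc
  refine ⟨Subgroup.map_isMulCommutative _ _, fun x hx => ?_⟩
  rintro _ ⟨a, ha, rfl⟩
  have hmap : (A ⊔ zpowers (e.symm x)).map e.toMonoidHom = A.map e.toMonoidHom ⊔ zpowers x := by
    rw [Subgroup.map_sup, MonoidHom.map_zpowers]; simp
  rw [← hmap, ← map_commutator, ← map_commutator,
    Subgroup.map_eq_bot_iff_of_injective _ e.injective] at hx
  have := congrArg e (hA _ hx a ha)
  simpa using this

theorem dStar_map {T : Type*} [Group T] (e : S ≃* T) :
    (dStar S).map e.toMonoidHom = dStar T := by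
  refine le_antisymm ?_ ?_
  · rw [map_le_iff_le_comap]
    exact sSup_le fun A hA => map_le_iff_le_comap.mp (le_sSup (dStarFamily_map e hA))
  · refine sSup_le fun B hB => ?_
    have h1 : B.map e.symm.toMonoidHom ≤ dStar S := le_sSup (dStarFamily_map e.symm hB)
    intro b hb
    exact ⟨e.symm b, h1 ⟨b, hb, rfl⟩, by simp⟩

instance dStar_characteristic : (dStar S).Characteristic :=
  characteristic_iff_map_eq.mpr fun φ => dStar_map φ

theorem center_mem_dStarFamily : center S ∈ dStarFamily S :=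
  ⟨inferInstance, fun x _ a ha => (mem_center_iff.mp ha x).symm⟩

variable [Finite S] {p : ℕ} [Fact p.Prime]

theorem family_le_of_maximal_abelian (hS : IsPGroup p S) {A M : Subgroup S}
    (hA : A ∈ dStarFamily S) (hMn : M.Normal) (hMc : IsMulCommutative M)
    (hMC : centralizer (M : Set S) ≤ M) : A ≤ M := by
  refine le_trans ?_ hMC
  rw [le_centralizer_iff]
  by_contra hnot
  -- a fixed point of `A` on `M` modulo `C_M(A)`
  set C := M ⊓ centralizer (A : Set S) with hC
  set K := M ⊔ A with hK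
  have hCK : K ≤ normalizer (C : Set S) := by
    refine sup_le (fun m hm => mem_normalizer_iff.mpr fun u => ?_) ?_
    · have key : ∀ m ∈ M, ∀ u ∈ C, m * u * m⁻¹ = u := fun m hm u hu => by
        have h0 : m * u = u * m :=
          congrArg Subtype.val (mul_comm' (⟨m, hm⟩ : M) ⟨u, (mem_inf.mp hu).1⟩)
        rw [h0, mul_inv_cancel_right]
      refine ⟨fun hu => by rwa [key m hm u hu], fun hu => ?_⟩
      have h1 := key m⁻¹ (inv_mem hm) _ hu
      rw [show m⁻¹ * (m * u * m⁻¹) * m⁻¹⁻¹ = u by group] at h1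
      rwa [h1]
    · intro a ha
      refine mem_normalizer_iff.mpr fun u => ?_
      have key : ∀ a ∈ A, ∀ u ∈ C, a * u * a⁻¹ = u := fun a ha u hu => by
        rw [mem_centralizer_iff.mp (mem_inf.mp hu).2 a ha, mul_inv_cancel_right]
      refine ⟨fun hu => by rwa [key a ha u hu], fun hu => ?_⟩
      have h1 := key a⁻¹ (inv_mem ha) _ hu
      rw [show a⁻¹ * (a * u * a⁻¹) * a⁻¹⁻¹ = u by group] at h1
      rwa [h1]
  haveI := normal_subgroupOf_of_le_normalizer hCK
  haveI : (M.subgroupOf K).Normal := normal_subgroupOf_of_le_normalizer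
    (by rw [normalizer_eq_top_iff.mpr hMn]; exact le_top)
  set q := QuotientGroup.mk' (C.subgroupOf K) with hq
  haveI : ((M.subgroupOf K).map q).Normal :=
    Normal.map inferInstance q (QuotientGroup.mk'_surjective _)
  obtain ⟨c, hc, hcc, hc1⟩ := OddLocal.exists_mem_center_ne_one_of_normal
    ((hS.to_subgroup K).to_quotient (C.subgroupOf K)) ((M.subgroupOf K).map q) (by
      rw [Ne, Subgroup.map_eq_bot_iff, QuotientGroup.ker_mk']
      exact fun h => hnot fun m hm => (mem_inf.mp (h (show (⟨m, mem_sup_left hm⟩ : K) ∈ M.subgroupOf K from hm))).2)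
  obtain ⟨x, hx, rfl⟩ := hc
  have hxC : (x : S) ∉ C := fun h => hc1 ((QuotientGroup.eq_one_iff x).mpr h)
  have hcom : ∀ a ∈ A, ⁅a, (x : S)⁆ ∈ C := by
    intro a ha
    have h1 : q ⁅(⟨a, mem_sup_right ha⟩ : K), x⁆ = 1 := by
      rw [map_commutatorElement, commutatorElement_eq_one_iff_mul_comm]
      exact mem_center_iff.mp hcc _
    exact (QuotientGroup.eq_one_iff (N := C.subgroupOf K) ⁅(⟨a, mem_sup_right ha⟩ : K), x⁆).mp h1
  refine hxC (mem_inf.mpr ⟨hx, mem_centralizer_iff.mpr (hA.2 x ?_)⟩)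
  rw [commutator_eq_bot_iff_le_centralizer]
  set L := A ⊔ zpowers (x : S) with hL
  have hCL : C ≤ centralizer (L : Set S) := le_centralizer_iff.mp (sup_le
    (le_centralizer_iff.mp inf_le_right)
    (zpowers_le.mpr (mem_centralizer_iff.mpr fun u hu =>
      congrArg Subtype.val (mul_comm' (⟨u, (mem_inf.mp hu).1⟩ : M) ⟨x, hx⟩))))
  refine le_trans ?_ hCL
  have hLN : L ≤ normalizer (C : Set S) := le_trans (sup_le le_sup_right
    (zpowers_le.mpr (mem_sup_left hx))) hCK
  haveI := normal_subgroupOf_of_le_normalizer hLN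
  rw [commutator_le]
  intro a ha b hb
  set r := QuotientGroup.mk' (C.subgroupOf L) with hr
  have hz : ∀ z : L, (z : S) ∈ A ∨ (z : S) = x → ∀ w : L, Commute (r z) (r w) := by
    intro z hz w
    have hle : L ≤ ((centralizer ({r z} : Set (L ⧸ C.subgroupOf L))).comap r).map L.subtype := by
      refine sup_le (fun v hv => ⟨⟨v, mem_sup_left hv⟩, ?_, rfl⟩) (zpowers_le.mpr
        ⟨⟨x, mem_sup_right (mem_zpowers _)⟩, ?_, rfl⟩)
      all_goals
        rw [SetLike.mem_coe, mem_comap, mem_centralizer_singleton_iff, ← commutatorElement_eq_one_iff_mul_comm,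
          ← map_commutatorElement]
        refine (QuotientGroup.eq_one_iff _).mpr ?_
      · show ⁅v, (z : S)⁆ ∈ C
        rcases hz with h | h
        · have := hA.1
          rw [commutatorElement_eq_one_iff_mul_comm.mpr
            (congrArg Subtype.val (mul_comm' (⟨v, hv⟩ : A) ⟨z, h⟩))]
          exact one_mem _
        · rw [h]; exact hcom v hv
      · show ⁅(x : S), (z : S)⁆ ∈ C
        rcases hz with h | h
        · rw [← commutatorElement_inv]; exact inv_mem (hcom _ h)
        · rw [h, commutatorElement_self]; exact one_mem _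
    obtain ⟨w', hw', hww⟩ := hle w.2
    rw [show w' = w from Subtype.ext hww] at hw'
    exact (mem_centralizer_singleton_iff.mp hw').symm
  have hab : Commute (r ⟨a, ha⟩) (r ⟨b, hb⟩) := by
    have hle : L ≤ ((centralizer ({r ⟨b, hb⟩} : Set (L ⧸ C.subgroupOf L))).comap r).map L.subtype :=
      sup_le (fun v hv => ⟨⟨v, mem_sup_left hv⟩, mem_centralizer_singleton_iff.mpr
          (hz ⟨v, mem_sup_left hv⟩ (Or.inl hv) _).eq, rfl⟩)
        (zpowers_le.mpr ⟨⟨x, mem_sup_right (mem_zpowers _)⟩, mem_centralizer_singleton_iff.mpr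
          (hz ⟨x, mem_sup_right (mem_zpowers _)⟩ (Or.inr rfl) _).eq, rfl⟩)
    obtain ⟨a', ha', haa⟩ := hle ha
    rw [show a' = ⟨a, ha⟩ from Subtype.ext haa] at ha'
    exact mem_centralizer_singleton_iff.mp ha'
  have h1 : r ⁅(⟨a, ha⟩ : L), ⟨b, hb⟩⁆ = 1 := by
    rw [map_commutatorElement, commutatorElement_eq_one_iff_mul_comm]; exact hab.eq
  exact (QuotientGroup.eq_one_iff (N := C.subgroupOf L) ⁅(⟨a, ha⟩ : L), ⟨b, hb⟩⁆).mp h1

theorem exists_maximal_normal_abelian (hS : IsPGroup p S) :
    ∃ M : Subgroup S, M.Normal ∧ IsMulCommutative M ∧ centralizer (M : Set S) ≤ M ∧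
      ∀ B : Subgroup S, B.Normal → IsMulCommutative B → M ≤ B → B = M := by
  obtain ⟨M, ⟨hn, hc⟩, hmax⟩ := (Set.toFinite
    {M : Subgroup S | M.Normal ∧ IsMulCommutative M}).exists_maximal ⟨⊥, inferInstance, inferInstance⟩
  have hmax' : ∀ B : Subgroup S, B.Normal → IsMulCommutative B → M ≤ B → B = M :=
    fun B hB hB' h => le_antisymm (hmax ⟨hB, hB'⟩ h) h
  exact ⟨M, hn, hc, centralizer_le_of_maximal hS hn hc hmax', hmax'⟩
where
  centralizer_le_of_maximal {M : Subgroup S} (hS : IsPGroup p S) (hn : M.Normal)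
      (hc : IsMulCommutative M)
      (hmax : ∀ B : Subgroup S, B.Normal → IsMulCommutative B → M ≤ B → B = M) :
      centralizer (M : Set S) ≤ M := by
    by_contra hnot
    haveI := hn
    set q := QuotientGroup.mk' M
    haveI : ((centralizer (M : Set S)).map q).Normal :=
      Normal.map inferInstance q (QuotientGroup.mk'_surjective _)
    obtain ⟨c, hc', hcc, hc1⟩ := OddLocal.exists_mem_center_ne_one_of_normal (hS.to_quotient M)
      ((centralizer (M : Set S)).map q)
      (by rw [Ne, Subgroup.map_eq_bot_iff, QuotientGroup.ker_mk']; exact hnot)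
    obtain ⟨x, hx, rfl⟩ := hc'
    set B := M ⊔ zpowers x with hB
    have hBn : B.Normal := by
      refine ⟨fun b hb g => ?_⟩
      have h1 : (⁅g, b⁆) ∈ M := by
        rw [← QuotientGroup.eq_one_iff]
        show q ⁅g, b⁆ = 1
        rw [map_commutatorElement, commutatorElement_eq_one_iff_mul_comm]
        have hb' : q b ∈ center (S ⧸ M) := by
          have : B ≤ (center (S ⧸ M)).comap q := sup_le (fun m hm => by
            rw [mem_comap, show q m = 1 from (QuotientGroup.eq_one_iff m).mpr hm]; exact one_mem _)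
            (zpowers_le.mpr hcc)
          exact this hb
        exact mem_center_iff.mp hb' (q g)
      rw [show g * b * g⁻¹ = ⁅g, b⁆ * b by rw [commutatorElement_def]; group]
      exact mul_mem (mem_sup_left h1) hb
    have hBc : IsMulCommutative B := by
      refine le_centralizer_iff_isMulCommutative.mp (sup_le ?_ ?_)
      · exact le_centralizer_iff.mp (sup_le (le_centralizer_iff_isMulCommutative.mpr hc) (zpowers_le.mpr hx))
      · exact zpowers_le.mpr (mem_centralizer_iff.mpr fun b hb => by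
          have : B ≤ centralizer ({x} : Set S) := sup_le
            (fun m hm => mem_centralizer_singleton_iff.mpr (mem_centralizer_iff.mp hx m hm))
            (zpowers_le.mpr (mem_centralizer_singleton_iff.mpr rfl))
          exact mem_centralizer_singleton_iff.mp (this hb))
    have := hmax B hBn hBc le_sup_left
    exact hc1 ((QuotientGroup.eq_one_iff x).mpr (this ▸ mem_sup_right (mem_zpowers x)))

theorem dStar_le_maximal (hS : IsPGroup p S) {M : Subgroup S} (hn : M.Normal)
    (hc : IsMulCommutative M)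
    (hmax : ∀ B : Subgroup S, B.Normal → IsMulCommutative B → M ≤ B → B = M) : dStar S ≤ M :=
  sSup_le fun _ hA => family_le_of_maximal_abelian hS hA hn hc
    (exists_maximal_normal_abelian.centralizer_le_of_maximal hS hn hc hmax)

theorem dStar_mem (hS : IsPGroup p S) : dStar S ∈ dStarFamily S := by
  obtain ⟨M, hn, hc, hC, hmax⟩ := exists_maximal_normal_abelian hS
  have hle := dStar_le_maximal hS hn hc hmax
  refine ⟨⟨⟨fun a b => Subtype.ext
    (congrArg Subtype.val (mul_comm' (⟨a, hle a.2⟩ : M) ⟨b, hle b.2⟩) :)⟩⟩, fun x hx a ha => ?_⟩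
  have h2 : dStar S ≤ centralizer ({x} : Set S) := sSup_le fun A hA a ha =>
    mem_centralizer_singleton_iff.mpr (hA.2 x (le_bot_iff.mp (hx ▸ commutator_mono
      (commutator_mono (sup_le_sup_right (le_sSup hA) _) (sup_le_sup_right (le_sSup hA) _))
      (sup_le_sup_right (le_sSup hA) _))) a ha)
  exact mem_centralizer_singleton_iff.mp (h2 ha)

theorem dStar_le_of_maxAb (hS : IsPGroup p S) {U : Subgroup S}
    (hU : Transfer.IsMaxAbIn 0 ⊤ U) : dStar S ≤ U := by
  by_contra hnot
  haveI hDc := (dStar_mem hS).1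
  have hbot : ⁅dStar S, dStar S⁆ = ⊥ := commutator_eq_bot_iff_le_centralizer.mpr
    (le_centralizer_iff_isMulCommutative.mpr hDc)
  obtain ⟨A, hA, -, hnA, hN⟩ := Transfer.exists_normalized_maxAb hS (e := 0) ⊤ (dStar S)
    (fun _ => hDc) (Or.inl (Or.inl rfl)) ⟨U, hU, by rw [hbot]; exact bot_le, hnot⟩
  haveI := hA.2.1.1
  have hcx : ∀ x ∈ A, ∀ a ∈ dStar S, a * x = x * a := fun x hx =>
    (dStar_mem hS).2 x (class_two_of_quadratic _ (le_normalizer_of_normal (mem_top x))
      fun v hv => by
        have h1 : ⁅v, x⁆ ∈ A := by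
          rw [commutatorElement_def]
          exact mul_mem ((mem_normalizer_iff.mp (hN hv) x).mp hx) (inv_mem hx)
        exact congrArg Subtype.val (mul_comm' (⟨_, h1⟩ : A) ⟨x, hx⟩))
  have hab : IsMulCommutative ↥(A ⊔ dStar S) := by
    refine le_centralizer_iff_isMulCommutative.mp (sup_le ?_ ?_)
    · exact le_centralizer_iff.mp (sup_le (le_centralizer_iff_isMulCommutative.mpr hA.2.1.1)
        fun a ha => mem_centralizer_iff.mpr fun x hx => (hcx x hx a ha).symm)
    · exact le_centralizer_iff.mp (sup_le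
        (fun x hx => mem_centralizer_iff.mpr fun a ha => hcx x hx a ha)
        (le_centralizer_iff_isMulCommutative.mpr hDc))
  have := hA.2.2 (A ⊔ dStar S) le_top ⟨hab, fun a _ => pow_zero a⟩
  exact hnA ((eq_of_le_of_card_ge le_sup_left this).symm ▸ le_sup_right)

end Cfsg.Agent.Tech
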