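import Mathlib

/-!
Data for `PSL(2,7) ⊆ PSU(3,3)`: the graph of a homomorphism `SL(2,7) → SU(3,3)`.
A `2 × 2` matrix mod `7` is the list of its entries; a `3 × 3` matrix over `F₉` is the list of the codes
`3 a + b` of its entries `a + b i`.
-/

set_option autoImplicit false

namespace Cfsg.Agent.U3L27

def eadd (n m : ℕ) : ℕ := (n / 3 + m / 3) % 3 * 3 + (n % 3 + m % 3) % 3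

def emul (n m : ℕ) : ℕ :=
  (n / 3 * (m / 3) + 2 * (n % 3 * (m % 3))) % 3 * 3 + (n / 3 * (m % 3) + n % 3 * (m / 3)) % 3

def econj (n : ℕ) : ℕ := n / 3 % 3 * 3 + 2 * (n % 3) % 3

def dot3 (x y : List ℕ) (i j : ℕ) : ℕ :=
  eadd (eadd (emul (x.getD (3 * i) 0) (y.getD j 0)) (emul (x.getD (3 * i + 1) 0) (y.getD (3 + j) 0)))
    (emul (x.getD (3 * i + 2) 0) (y.getD (6 + j) 0))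

def mul3 (x y : List ℕ) : List ℕ :=
  [dot3 x y 0 0, dot3 x y 0 1, dot3 x y 0 2, dot3 x y 1 0, dot3 x y 1 1, dot3 x y 1 2,
    dot3 x y 2 0, dot3 x y 2 1, dot3 x y 2 2]

def dot2 (x y : List ℕ) (i j : ℕ) : ℕ :=
  (x.getD (2 * i) 0 * y.getD j 0 + x.getD (2 * i + 1) 0 * y.getD (2 + j) 0) % 7

def mul2 (x y : List ℕ) : List ℕ := [dot2 x y 0 0, dot2 x y 0 1, dot2 x y 1 0, dot2 x y 1 1]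

def mulP (x y : List ℕ × List ℕ) : List ℕ × List ℕ := (mul2 x.1 y.1, mul3 x.2 y.2)

def one3 : List ℕ := [3,0,0,0,3,0,0,0,3]

def matA : List ℕ := [0,0,1,4,4,0,4,8,0]

def matB : List ℕ := [1,1,8,2,5,3,8,6,2]

def genA : List ℕ × List ℕ := ([1,1,0,1], matA)

def genB : List ℕ × List ℕ := ([1,0,1,1], matB)

def graph : List (List ℕ × List ℕ) :=
  [([1,0,0,1], [3,0,0,0,3,0,0,0,3]), ([1,1,0,1], [0,0,1,4,4,0,4,8,0]),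
  ([1,0,1,1], [1,1,8,2,5,3,8,6,2]), ([1,2,0,1], [7,5,0,2,2,7,1,1,7]),
  ([2,1,1,1], [5,2,3,0,4,5,5,1,6]), ([1,1,1,2], [8,6,6,1,5,3,1,3,5]),
  ([1,0,2,1], [2,5,1,7,1,2,1,1,5]), ([1,3,0,1], [6,6,8,8,2,3,1,4,6]),
  ([3,2,1,1], [4,6,2,6,4,1,6,3,7]), ([2,3,1,2], [6,1,4,8,5,0,3,2,4]),
  ([3,1,2,1], [6,6,4,8,4,0,2,2,5]), ([1,2,1,3], [4,0,5,1,5,6,1,7,6]),
  ([2,1,3,2], [7,3,6,1,4,6,2,6,4]), ([1,1,2,3], [4,2,3,0,5,8,4,1,6]),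
  ([1,0,3,1], [4,3,3,6,1,4,3,8,2]), ([1,4,0,1], [6,7,2,6,1,5,7,3,6]),
  ([4,3,1,1], [2,1,8,7,7,0,3,6,7]), ([3,5,1,2], [1,3,7,6,4,2,7,1,2]),
  ([5,2,2,1], [3,3,4,6,7,2,7,6,2]), ([2,5,1,3], [6,8,2,6,6,5,4,3,1]),
  ([5,3,3,2], [3,2,7,1,3,4,8,5,0]), ([3,4,2,3], [7,6,2,2,2,5,2,8,3]),
  ([4,1,3,1], [1,5,3,7,2,3,3,6,5]), ([1,3,1,4], [6,3,7,5,1,6,2,7,6]),
  ([3,2,4,3], [1,5,6,6,1,8,5,2,1]), ([2,3,3,5], [0,8,8,7,3,6,7,6,3]),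
  ([3,1,5,2], [2,4,1,3,6,7,5,6,6]), ([1,2,2,5], [6,1,7,7,8,0,3,2,7]),
  ([2,1,5,3], [0,0,2,7,5,0,5,5,0]), ([1,1,3,4], [8,0,7,6,8,2,3,8,1]),
  ([1,0,4,1], [5,6,3,3,2,7,3,5,1]), ([1,5,0,1], [8,1,2,4,1,2,0,8,8]),
  ([5,4,1,1], [1,2,8,8,1,1,2,4,1]), ([4,0,1,2], [8,6,3,3,3,8,2,5,1]),
  ([0,3,2,1], [8,2,3,0,7,4,8,1,6]), ([3,1,1,3], [7,1,6,4,6,2,0,5,8]),
  ([1,5,3,2], [5,4,0,2,6,5,6,1,4]), ([5,0,2,3], [3,5,1,8,1,2,1,3,8]),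
  ([0,2,3,1], [1,2,4,1,2,8,4,4,0]), ([2,0,1,4], [3,8,2,5,2,2,2,6,7]),
  ([0,5,4,3], [4,3,6,3,4,6,2,2,7]), ([5,1,3,5], [8,2,1,3,5,6,6,6,5]),
  ([1,3,5,2], [4,2,2,6,7,1,1,3,4]), ([3,0,2,5], [1,3,8,2,8,3,5,6,3]),
  ([0,4,5,3], [4,4,0,3,6,5,6,3,5]), ([4,5,3,4], [1,5,6,6,1,8,5,2,1]),
  ([5,1,4,1], [1,4,6,1,1,7,5,3,1]), ([1,4,1,5], [7,1,2,3,2,4,2,7,3]),
  ([4,3,5,4], [7,6,2,2,2,5,2,8,3]), ([3,5,4,0], [5,1,6,8,6,2,0,7,4]),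
  ([5,2,0,3], [6,1,8,4,7,0,3,2,8]), ([2,5,3,1], [2,0,0,0,8,8,0,4,8]),
  ([5,3,1,5], [6,7,3,2,4,1,5,0,5]), ([3,4,5,0], [6,4,3,2,5,1,4,0,4]),
  ([4,1,0,2], [1,2,5,8,1,6,6,5,1]), ([1,3,2,0], [1,4,2,1,1,8,8,2,1]),
  ([3,2,0,5], [2,8,6,3,2,5,4,2,2]), ([2,3,5,1], [5,7,0,6,6,8,6,6,4]),
  ([1,2,3,0], [3,6,5,3,8,2,8,3,1]), ([2,1,0,4], [2,7,3,4,3,6,1,3,7]),
  ([1,1,4,5], [0,4,4,8,2,1,4,2,1]), ([1,0,5,1], [1,8,2,4,2,2,2,1,4]),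
  ([1,6,0,1], [0,5,5,0,5,7,2,0,0]), ([6,5,1,1], [3,7,6,8,0,8,6,7,3]),
  ([5,2,1,2], [3,4,6,5,0,5,6,4,3]), ([2,4,2,1], [5,6,2,1,8,3,1,2,5]),
  ([4,4,1,3], [0,4,5,5,3,1,4,2,3]), ([4,0,3,2], [2,6,7,2,7,6,4,3,3]),
  ([0,3,2,3], [6,1,5,5,4,0,3,2,5]), ([3,3,3,1], [7,7,0,5,7,0,0,0,1]),
  ([3,4,1,4], [3,2,8,1,3,7,7,8,0]), ([4,1,4,3], [3,3,8,3,3,4,7,5,0]),
  ([1,6,3,5], [2,2,4,5,2,3,6,8,2]), ([6,5,5,2], [6,1,7,7,8,0,3,2,7]),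
  ([5,5,2,5], [4,2,1,0,5,5,5,3,6]), ([5,0,5,3], [2,1,4,3,7,6,7,3,3]),
  ([0,2,3,4], [4,3,6,3,4,6,2,2,7]), ([2,2,4,1], [4,1,6,5,6,2,0,4,5]),
  ([2,2,1,5], [3,8,1,7,0,4,2,5,3]), ([2,0,5,4], [3,5,1,8,1,2,1,3,8]),
  ([0,5,4,0], [0,8,7,7,3,1,8,2,3]), ([5,5,0,3], [1,3,5,7,1,1,6,4,1]),
  ([5,6,3,1], [0,7,5,5,1,1,5,2,2]), ([6,1,1,5], [4,0,4,1,5,2,3,4,6]),
  ([1,4,5,0], [7,0,7,1,8,2,3,5,6]), ([4,3,0,2], [2,4,6,8,0,5,6,7,1]),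
  ([3,3,2,0], [5,3,6,5,6,3,0,4,4]), ([3,0,0,5], [7,3,3,6,3,5,1,8,2]),
  ([0,4,5,1], [2,2,7,5,2,1,1,7,2]), ([4,2,3,0], [5,1,6,8,6,2,0,7,4]),
  ([2,5,0,4], [6,1,8,4,7,0,3,2,8]), ([5,6,4,5], [7,3,6,1,4,6,2,6,4]),
  ([6,1,5,1], [3,6,7,6,3,7,8,8,0]), ([1,5,1,6], [0,5,8,4,3,1,7,2,3]),
  ([5,4,6,5], [6,1,4,8,5,0,3,2,4]), ([4,0,5,2], [1,3,8,2,8,3,5,6,3]),
  ([0,3,2,4], [4,4,0,3,6,5,6,3,5]), ([3,1,4,4], [3,2,4,1,3,5,5,4,0]),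
  ([1,5,4,0], [2,2,5,1,1,5,5,7,0]), ([5,0,0,3], [8,6,2,3,3,7,3,4,1]),
  ([0,2,3,3], [4,7,0,2,6,8,6,1,5]), ([2,0,3,4], [0,0,3,2,0,0,0,1,0]),
  ([0,5,4,1], [3,3,7,6,7,3,4,1,2]), ([5,1,1,6], [7,2,2,6,4,3,6,3,4]),
  ([1,3,6,5], [2,7,1,1,2,5,7,2,2]), ([3,0,5,5], [3,7,2,4,2,3,2,1,7]),
  ([0,4,5,0], [0,5,7,4,3,3,8,3,3]), ([4,5,0,2], [2,8,6,3,2,5,4,2,2]),
  ([5,1,2,2], [6,0,0,0,0,1,0,2,0]), ([1,4,2,2], [4,6,6,8,6,6,0,7,5]),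
  ([4,3,2,0], [6,4,3,2,5,1,4,0,4]), ([3,5,0,5], [6,5,3,2,8,1,7,0,7]),
  ([5,2,5,5], [5,0,4,1,4,3,2,4,6]), ([2,5,5,6], [3,3,4,6,7,2,7,6,2]),
  ([5,3,6,1], [8,3,1,2,1,8,1,5,3]), ([1,3,3,3], [5,2,1,3,8,1,2,6,5]),
  ([3,2,3,0], [5,3,1,3,5,1,6,6,8]), ([2,3,0,4], [7,2,3,0,8,7,7,1,6]),
  ([1,2,4,2], [1,0,0,0,7,5,0,7,7]), ([2,1,2,5], [3,5,6,4,0,4,6,5,3]),
  ([1,1,5,6], [3,8,6,7,0,7,6,8,3]), ([1,0,6,1], [2,1,7,2,4,6,7,3,1]),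
  ([0,6,1,1], [2,8,1,5,3,6,3,3,7]), ([6,4,1,2], [2,7,1,1,2,5,7,2,2]),
  ([4,5,2,1], [6,3,4,4,6,6,2,7,1]), ([5,0,1,3], [7,3,1,6,3,4,3,7,2]),
  ([0,2,3,2], [7,1,1,7,2,2,0,5,7]), ([2,6,2,3], [1,3,4,5,6,6,2,8,6]),
  ([6,4,3,1], [0,0,6,0,6,0,6,0,0]), ([4,1,1,4], [8,5,0,2,6,4,6,1,7]),
  ([1,4,4,3], [8,4,0,8,8,0,0,0,2]), ([4,4,3,5], [2,5,3,2,7,3,8,0,7]),
  ([0,3,2,5], [4,1,2,2,2,4,2,8,1]), ([3,3,5,3], [8,1,1,6,1,7,1,4,3]),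
  ([3,6,3,4], [3,3,8,3,3,4,7,5,0]), ([6,3,4,1], [0,7,4,8,3,1,5,2,3]),
  ([3,0,1,5], [3,4,1,7,1,6,1,1,8]), ([0,4,5,4], [6,1,5,5,4,0,3,2,5]),
  ([4,5,4,0], [5,3,1,3,5,1,6,6,8]), ([5,1,0,3], [2,7,6,1,2,4,4,6,2]),
  ([0,6,1,5], [1,7,2,6,6,4,4,3,6]), ([6,4,5,0], [1,4,2,1,1,8,8,2,1]),
  ([5,3,2,0], [0,7,7,3,0,0,0,8,4]), ([5,5,5,1], [6,8,3,2,7,1,8,0,8]),
  ([0,2,3,0], [0,8,7,7,3,1,8,2,3]), ([2,2,0,4], [1,3,5,7,1,1,6,4,1]),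
  ([2,4,4,5], [3,2,7,1,3,4,8,5,0]), ([4,2,5,1], [5,5,0,0,0,6,8,4,0]),
  ([2,4,1,6], [8,3,1,2,1,8,1,5,3]), ([4,2,6,5], [1,3,7,6,4,2,7,1,2]),
  ([2,2,5,2], [4,2,1,0,5,5,5,3,6]), ([2,0,2,4], [2,1,4,3,7,6,7,3,3]),
  ([0,5,4,4], [4,7,0,2,6,8,6,1,5]), ([5,5,4,0], [4,8,0,0,0,3,7,7,0]),
  ([5,3,0,3], [1,7,6,5,0,8,6,4,2]), ([3,5,3,3], [2,6,4,4,2,1,6,7,2]),
  ([5,4,3,4], [0,6,0,5,0,4,7,0,4]), ([4,6,4,1], [7,6,3,0,7,7,8,1,2]),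
  ([6,0,1,6], [2,1,7,2,4,6,7,3,1]), ([0,1,6,5], [8,3,3,0,8,4,7,1,1]),
  ([1,5,5,5], [3,6,8,3,8,6,5,1,1]), ([5,4,5,0], [5,1,1,2,1,7,1,5,2]),
  ([4,0,0,2], [7,3,3,6,3,5,1,8,2]), ([0,3,2,2], [0,3,0,8,0,7,8,0,5]),
  ([3,6,2,2], [0,8,4,0,4,4,1,0,0]), ([6,3,2,0], [7,0,7,1,8,2,3,5,6]),
  ([3,3,0,5], [8,0,8,1,7,2,3,8,6]), ([0,4,5,6], [8,2,3,0,7,4,8,1,6]),
  ([4,4,6,1], [6,4,1,3,2,8,8,6,6]), ([4,6,3,3], [3,2,4,1,3,5,5,4,0]),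
  ([6,2,3,0], [2,2,5,1,1,5,5,7,0]), ([2,0,0,4], [8,6,2,3,3,7,3,4,1]),
  ([5,4,4,2], [0,8,8,7,3,6,7,6,3]), ([4,6,2,5], [2,4,1,3,6,7,5,6,6]),
  ([6,0,5,6], [2,5,1,7,1,2,1,1,5]), ([0,1,6,1], [8,1,6,7,6,2,0,8,7]),
  ([1,6,1,0], [7,8,0,2,6,7,6,1,8]), ([6,5,0,6], [7,5,0,2,2,7,1,1,7]),
  ([5,2,6,4], [6,8,2,6,6,5,4,3,1]), ([4,4,5,0], [5,3,6,5,6,3,0,4,4]),
  ([0,3,2,6], [2,2,7,5,2,1,1,7,2]), ([3,3,6,4], [0,4,5,5,3,1,4,2,3]),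
  ([3,4,4,1], [4,3,1,1,7,6,2,2,4]), ([1,6,4,4], [2,8,3,4,1,6,3,3,4]),
  ([6,5,4,0], [3,6,5,3,8,2,8,3,1]), ([5,0,3,3], [1,1,5,6,8,3,8,6,3]),
  ([0,2,3,6], [3,3,7,6,7,3,4,1,2]), ([2,2,6,3], [2,6,8,3,5,2,8,1,1]),
  ([2,2,3,0], [4,8,0,0,0,3,7,7,0]), ([0,5,4,5], [7,1,1,7,2,2,0,5,7]),
  ([5,6,1,0], [7,0,8,3,7,2,3,5,2]), ([6,1,0,6], [0,5,5,0,5,7,2,0,0]),
  ([1,4,6,4], [1,8,3,2,8,6,7,0,8]), ([4,3,4,5], [0,4,8,6,0,0,0,5,5]),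
  ([3,0,3,5], [0,1,0,0,0,2,3,0,0]), ([0,4,5,5], [0,3,0,8,0,7,8,0,5]),
  ([4,2,0,2], [6,5,3,2,8,1,7,0,7]), ([2,5,2,2], [5,0,4,1,4,3,2,4,6]),
  ([5,6,2,4], [0,0,2,7,5,0,5,5,0]), ([6,1,4,2], [2,2,4,5,2,3,6,8,2]),
  ([1,5,2,4], [4,0,7,4,0,5,0,6,0]), ([4,0,2,2], [3,7,2,4,2,3,2,1,7]),
  ([0,3,2,0], [0,5,7,4,3,3,8,3,3]), ([3,1,0,5], [1,5,2,8,3,3,3,6,8]),
  ([0,2,3,5], [5,0,8,7,0,8,0,3,0]), ([0,5,4,6], [1,2,4,1,2,8,4,4,0]),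
  ([5,1,6,0], [2,6,5,8,6,3,1,5,6]), ([1,4,3,6], [0,7,4,8,3,1,5,2,3]),
  ([4,3,6,3], [3,2,8,1,3,7,7,8,0]), ([5,2,3,0], [8,8,0,2,1,4,2,1,8]),
  ([5,3,4,4], [1,1,7,4,8,0,3,3,8]), ([1,3,4,6], [0,0,6,0,6,0,6,0,0]),
  ([3,2,6,2], [6,6,5,7,6,3,1,4,2]), ([2,3,2,0], [5,1,1,2,1,7,1,5,2]),
  ([1,2,5,4], [6,5,1,3,6,8,5,6,2]), ([2,1,4,6], [0,7,5,5,1,1,5,2,2]),
  ([1,1,6,0], [1,4,3,7,3,3,2,6,8]), ([0,6,1,2], [8,3,3,0,8,4,7,1,1]),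
  ([6,6,2,1], [3,8,6,7,0,7,6,8,3]), ([6,3,1,3], [1,8,3,2,8,6,7,0,8]),
  ([3,4,3,2], [0,4,8,6,0,0,0,5,5]), ([4,2,2,3], [3,5,2,4,0,7,1,8,3]),
  ([5,5,1,4], [2,6,8,3,5,2,8,1,1]), ([5,0,4,3], [0,0,3,2,0,0,0,1,0]),
  ([1,6,5,3], [6,7,1,6,5,1,5,0,4]), ([6,3,3,4], [8,4,0,8,8,0,0,0,2]),
  ([4,5,1,5], [6,6,5,7,6,3,1,4,2]), ([5,1,5,4], [1,3,4,5,6,6,2,8,6]),
  ([5,4,0,3], [7,2,3,0,8,7,7,1,6]), ([3,6,5,1], [5,0,5,1,4,2,3,7,6]),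
  ([2,6,0,4], [2,7,6,1,2,4,4,6,2]), ([6,2,4,5], [5,4,0,2,6,5,6,1,4]),
  ([3,3,1,6], [6,4,1,3,2,8,8,6,6]), ([3,0,6,5], [8,6,3,3,3,8,2,5,1]),
  ([0,4,5,2], [4,1,2,2,2,4,2,8,1]), ([4,4,2,4], [8,1,1,6,1,7,1,4,3]),
  ([4,2,4,4], [2,6,4,4,2,1,6,7,2]), ([2,5,4,0], [8,8,0,2,1,4,2,1,8]),
  ([5,6,0,3], [2,7,3,4,3,6,1,3,7]), ([6,1,3,3], [2,8,3,4,1,6,3,3,4]),
  ([0,6,1,6], [8,1,6,7,6,2,0,8,7]), ([6,6,6,5], [8,6,6,1,5,3,1,3,5]),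
  ([6,3,5,5], [4,6,6,8,6,6,0,7,5]), ([5,3,5,6], [5,6,2,1,8,3,1,2,5]),
  ([3,5,6,1], [5,2,2,0,4,8,4,6,6]), ([2,4,0,4], [1,7,6,5,0,8,6,4,2]),
  ([2,6,4,2], [8,2,1,3,5,6,6,6,5]), ([6,4,2,5], [4,2,2,6,7,1,1,3,4]),
  ([4,6,5,6], [6,6,4,8,4,0,2,2,5]), ([6,2,6,1], [0,5,8,4,3,1,7,2,3]),
  ([2,6,1,0], [2,6,5,8,6,3,1,5,6]), ([6,4,0,6], [6,6,8,8,2,3,1,4,6]),
  ([4,6,6,4], [7,1,6,4,6,2,0,5,8]), ([2,4,5,0], [0,7,7,3,0,0,0,8,4]),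
  ([2,2,2,6], [6,8,3,2,7,1,8,0,8]), ([2,0,6,4], [7,3,1,6,3,4,3,7,2]),
  ([3,1,3,6], [7,6,3,0,7,7,8,1,2]), ([1,5,6,3], [5,6,6,6,5,3,1,2,8]),
  ([6,6,1,0], [1,4,3,7,3,3,2,6,8]), ([6,0,0,6], [3,0,0,0,3,0,0,0,3]),
  ([0,1,6,4], [8,0,5,0,2,0,5,0,8]), ([6,5,3,5], [1,0,0,0,7,5,0,7,7]),
  ([4,4,0,2], [8,0,8,1,7,2,3,8,6]), ([3,3,4,2], [2,5,3,2,7,3,8,0,7]),
  ([3,2,2,4], [0,2,0,1,0,0,0,0,6]), ([6,2,2,2], [3,6,8,3,8,6,5,1,1]),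
  ([3,6,0,5], [1,2,5,8,1,6,6,5,1]), ([4,4,4,6], [7,7,0,5,7,0,0,0,1]),
  ([4,1,6,0], [6,4,2,3,4,1,4,0,5]), ([4,3,3,6], [4,3,1,1,7,6,2,2,4]),
  ([3,6,6,3], [8,5,0,2,6,4,6,1,7]), ([2,0,4,4], [1,1,5,6,8,3,8,6,3]),
  ([5,2,4,6], [2,0,0,0,8,8,0,4,8]), ([2,4,6,2], [6,7,3,2,4,1,5,0,5]),
  ([6,6,5,4], [4,2,3,0,5,8,4,1,6]), ([6,0,4,6], [4,3,3,6,1,4,3,8,2]),
  ([0,1,6,0], [3,2,5,1,3,8,4,7,0]), ([0,6,1,0], [3,2,5,1,3,8,4,7,0]),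
  ([4,5,6,6], [4,6,2,6,4,1,6,3,7]), ([5,0,6,3], [3,8,2,5,2,2,2,6,7]),
  ([4,1,5,5], [0,8,4,0,4,4,1,0,0]), ([3,0,4,5], [2,6,7,2,7,6,4,3,3]),
  ([0,6,1,4], [6,3,5,5,5,0,1,2,4]), ([6,4,4,4], [5,2,1,3,8,1,2,6,5]),
  ([5,5,3,6], [4,1,6,5,6,2,0,4,5]), ([2,4,3,3], [1,1,7,4,8,0,3,3,8]),
  ([0,5,4,2], [5,0,8,7,0,8,0,3,0]), ([4,6,1,0], [7,0,4,0,1,0,4,0,7]),
  ([0,1,6,6], [2,8,1,5,3,6,3,3,7]), ([4,0,4,2], [0,1,0,0,0,2,3,0,0]),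
  ([4,6,0,2], [1,5,2,8,3,3,3,6,8]), ([5,4,2,6], [5,7,0,6,6,8,6,6,4]),
  ([0,1,6,2], [1,7,2,6,6,4,4,3,6]), ([1,6,2,6], [3,6,7,6,3,7,8,8,0]),
  ([6,5,6,4], [4,0,5,1,5,6,1,7,6]), ([3,4,0,5], [2,4,6,8,0,5,6,7,1]),
  ([5,6,6,6], [5,2,3,0,4,5,5,1,6]), ([6,1,6,0], [7,8,0,2,6,7,6,1,8]),
  ([4,0,6,2], [3,4,1,7,1,6,1,1,8]), ([2,3,4,3], [0,6,0,5,0,4,7,0,4]),
  ([1,2,6,6], [3,7,6,8,0,8,6,7,3]), ([2,1,6,0], [7,0,8,3,7,2,3,5,2]),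
  ([0,6,1,3], [8,0,5,0,2,0,5,0,8]), ([6,6,3,2], [0,4,4,8,2,1,4,2,1]),
  ([6,5,2,3], [6,5,1,3,6,8,5,6,2]), ([6,2,1,4], [5,6,6,6,5,3,1,2,8]),
  ([6,2,5,3], [4,0,7,4,0,5,0,6,0]), ([3,5,5,4], [3,5,2,4,0,7,1,8,3]),
  ([4,2,1,6], [5,2,2,0,4,8,4,6,6]), ([2,5,6,5], [3,4,6,5,0,5,6,4,3]),
  ([5,6,5,2], [3,5,6,4,0,4,6,5,3]), ([6,1,2,4], [6,7,1,6,5,1,5,0,4]),
  ([3,2,5,6], [6,3,4,4,6,6,2,7,1]), ([2,6,6,1], [7,2,2,6,4,3,6,3,4]),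
  ([3,6,1,0], [6,4,2,3,4,1,4,0,5]), ([6,3,0,6], [6,7,2,6,1,5,7,3,6]),
  ([4,1,2,6], [5,0,5,1,4,2,3,7,6]), ([6,0,3,6], [5,6,3,3,2,7,3,5,1]),
  ([0,1,6,3], [6,3,5,5,5,0,1,2,4]), ([6,6,0,6], [0,0,1,4,4,0,4,8,0]),
  ([3,1,6,0], [7,0,4,0,1,0,4,0,7]), ([1,6,6,2], [4,0,4,1,5,2,3,4,6]),
  ([3,6,4,6], [1,5,3,7,2,3,3,6,5]), ([3,4,6,6], [2,1,8,7,7,0,3,6,7]),
  ([2,6,5,5], [6,0,0,0,0,1,0,2,0]), ([6,0,6,6], [1,1,8,2,5,3,8,6,2]),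
  ([6,3,6,2], [7,1,2,3,2,4,2,7,3]), ([3,5,2,6], [5,5,0,0,0,6,8,4,0]),
  ([6,6,4,3], [8,0,7,6,8,2,3,8,1]), ([5,5,6,2], [3,8,1,7,0,4,2,5,3]),
  ([4,5,5,3], [0,2,0,1,0,0,0,0,6]), ([2,6,3,6], [1,4,6,1,1,7,5,3,1]),
  ([6,4,6,3], [6,3,7,5,1,6,2,7,6]), ([2,3,6,6], [1,2,8,8,1,1,2,4,1]),
  ([6,2,0,6], [8,1,2,4,1,2,0,8,8]), ([6,0,2,6], [1,8,2,4,2,2,2,1,4])]

def nextA : List ℕ :=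
  [1, 3, 5, 7, 9, 11, 13, 15, 17, 19, 21, 23, 25, 27, 29, 31, 33, 35, 37, 39,
  41, 43, 45, 47, 49, 51, 53, 55, 57, 58, 60, 62, 64, 66, 68, 70, 72, 74, 76, 78,
  80, 82, 84, 86, 88, 89, 91, 93, 95, 97, 99, 101, 103, 105, 107, 109, 111, 113, 115, 117,
  118, 120, 0, 123, 125, 127, 129, 131, 132, 134, 136, 138, 14, 141, 142, 143, 144, 146, 148, 150,
  152, 154, 156, 158, 160, 162, 164, 166, 167, 169, 171, 172, 174, 176, 178, 179, 180, 182, 183, 81,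
  186, 188, 189, 190, 192, 133, 195, 196, 198, 200, 201, 203, 75, 79, 206, 207, 155, 90, 211, 213,
  214, 216, 217, 219, 221, 222, 204, 119, 225, 226, 98, 22, 202, 229, 116, 231, 232, 234, 236, 238,
  240, 242, 108, 243, 100, 245, 246, 248, 250, 252, 253, 254, 102, 210, 139, 256, 209, 193, 258, 260,
  224, 112, 262, 96, 264, 265, 266, 137, 268, 269, 239, 145, 272, 110, 274, 276, 2, 251, 279, 280,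
  34, 270, 281, 30, 283, 284, 126, 273, 285, 286, 32, 259, 257, 289, 69, 44, 290, 151, 291, 275,
  293, 235, 163, 295, 38, 40, 296, 36, 298, 185, 46, 130, 244, 197, 42, 299, 300, 302, 304, 305,
  194, 173, 52, 153, 61, 170, 308, 310, 50, 312, 59, 199, 314, 181, 106, 316, 157, 271, 228, 317,
  277, 294, 306, 227, 320, 230, 215, 165, 48, 297, 4, 315, 208, 324, 65, 187, 220, 321, 63, 319,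
  318, 128, 54, 322, 327, 311, 56, 71, 278, 67, 212, 77, 223, 313, 73, 328, 288, 122, 149, 329,
  330, 263, 140, 135, 20, 331, 205, 16, 159, 267, 85, 18, 175, 6, 332, 87, 94, 325, 168, 237,
  104, 333, 282, 261, 247, 83, 92, 26, 287, 255, 161, 335, 307, 301, 8, 334, 124, 303, 292, 177,
  323, 121, 24, 233, 28, 241, 249, 10, 184, 114, 147, 12, 326, 309, 191, 218]

def nextB : List ℕ :=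
  [2, 4, 6, 8, 10, 12, 14, 16, 18, 20, 22, 24, 26, 28, 30, 32, 34, 36, 38, 40,
  42, 44, 46, 48, 50, 52, 54, 56, 35, 59, 61, 63, 65, 67, 69, 71, 73, 75, 77, 79,
  81, 83, 85, 87, 66, 90, 92, 94, 96, 98, 100, 102, 104, 106, 108, 110, 112, 114, 116, 97,
  119, 121, 122, 124, 126, 128, 130, 95, 133, 135, 137, 139, 140, 107, 111, 125, 145, 147, 149, 151,
  153, 155, 157, 159, 161, 163, 165, 105, 168, 170, 152, 173, 175, 177, 146, 162, 181, 129, 184, 185,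
  187, 171, 143, 191, 193, 194, 179, 197, 199, 172, 202, 160, 204, 205, 7, 208, 209, 210, 212, 203,
  215, 0, 218, 220, 51, 223, 150, 224, 182, 227, 228, 47, 166, 219, 230, 57, 233, 235, 237, 239,
  241, 53, 55, 244, 188, 236, 247, 249, 251, 231, 196, 255, 222, 49, 115, 257, 245, 229, 259, 60,
  261, 253, 201, 263, 246, 213, 242, 267, 15, 270, 58, 271, 273, 266, 275, 1, 277, 278, 76, 84,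
  232, 225, 88, 282, 138, 279, 254, 221, 89, 74, 287, 288, 156, 132, 136, 131, 265, 286, 252, 292,
  294, 289, 86, 280, 78, 284, 297, 291, 68, 144, 23, 269, 64, 142, 264, 256, 301, 303, 82, 299,
  234, 306, 307, 99, 302, 117, 309, 311, 285, 313, 183, 27, 315, 281, 262, 192, 305, 80, 169, 318,
  319, 91, 25, 211, 31, 283, 321, 295, 322, 3, 176, 323, 134, 141, 308, 101, 316, 304, 190, 325,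
  29, 226, 109, 326, 178, 118, 324, 207, 206, 180, 127, 39, 186, 123, 198, 317, 216, 258, 113, 37,
  41, 43, 274, 70, 327, 332, 329, 314, 120, 298, 164, 148, 5, 240, 45, 195, 248, 276, 33, 154,
  312, 320, 328, 310, 330, 214, 11, 200, 334, 189, 290, 260, 272, 62, 250, 333, 103, 335, 13, 296,
  268, 217, 331, 167, 72, 174, 9, 93, 238, 17, 19, 293, 21, 243, 300, 158]

set_option maxRecDepth 100000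

theorem closedA : graph.map (fun x => mulP x genA) = nextA.map (fun i => graph.getD i ([], [])) := by
  decide +kernel

theorem closedB : graph.map (fun x => mulP x genB) = nextB.map (fun i => graph.getD i ([], [])) := by
  decide +kernel

theorem nextA_lt : ∀ i ∈ nextA, i < graph.length := by decide +kernel

theorem nextB_lt : ∀ i ∈ nextB, i < graph.length := by decide +kernel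

theorem one_mem : ([1,0,0,1], one3) ∈ graph := by decide +kernel

theorem entries2 : ∀ x ∈ graph, x.1.length = 4 ∧ x.1.all (fun n => decide (n < 7)) = true := by
  decide +kernel

theorem entries3 : ∀ x ∈ graph, x.2.length = 9 ∧ x.2.all (fun n => decide (n < 9)) = true := by
  decide +kernel

theorem snd_of_scalar : ∀ x ∈ graph, (x.1 = [1,0,0,1] ∨ x.1 = [6,0,0,6]) → x.2 = one3 := by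
  decide +kernel

theorem fst_of_central : ∀ x ∈ graph, mul3 x.2 matA = mul3 matA x.2 →
    mul3 x.2 matB = mul3 matB x.2 → (x.1 = [1,0,0,1] ∨ x.1 = [6,0,0,6]) := by
  decide +kernel

end Cfsg.Agent.U3L27
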