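import Mathlib
import Cfsg.Prelude.Def_Classical
import Cfsg.Agent.Lib.Transfer.NatPair
import Cfsg.Agent.Lib.Tech.U3L27Data

/-!
`PSU(3,3)` contains a subgroup isomorphic to `PSL(2,7)`.
-/

set_option autoImplicit false

namespace Cfsg.Agent.U3L27

open Matrix
open scoped MatrixGroups

instance fact_seven : Fact (Nat.Prime 7) := ⟨by norm_num⟩

variable {F : Type*} [Field F]

/-- The element of `F` with a given code. -/
def em (ι : F) (n : ℕ) : F := ((n / 3 : ℕ) : F) + ((n % 3 : ℕ) : F) * ι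

def toMat3 (ι : F) (x : List ℕ) : Matrix (Fin 3) (Fin 3) F :=
  !![em ι (x.getD 0 0), em ι (x.getD 1 0), em ι (x.getD 2 0);
    em ι (x.getD 3 0), em ι (x.getD 4 0), em ι (x.getD 5 0);
    em ι (x.getD 6 0), em ι (x.getD 7 0), em ι (x.getD 8 0)]

def toMat2 (x : List ℕ) : Matrix (Fin 2) (Fin 2) (ZMod 7) :=
  !![(x.getD 0 0 : ZMod 7), (x.getD 1 0 : ZMod 7); (x.getD 2 0 : ZMod 7), (x.getD 3 0 : ZMod 7)]

def trans3 (x : List ℕ) : List ℕ :=
  [x.getD 0 0, x.getD 3 0, x.getD 6 0, x.getD 1 0, x.getD 4 0, x.getD 7 0,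
    x.getD 2 0, x.getD 5 0, x.getD 8 0]

def conj3 (x : List ℕ) : List ℕ :=
  [econj (x.getD 0 0), econj (x.getD 1 0), econj (x.getD 2 0), econj (x.getD 3 0), econj (x.getD 4 0),
    econj (x.getD 5 0), econj (x.getD 6 0), econj (x.getD 7 0), econj (x.getD 8 0)]

def eneg (n : ℕ) : ℕ := emul 6 n

def det3 (x : List ℕ) : ℕ :=
  let a := fun i => x.getD i 0
  eadd (eadd (eadd (eadd (eadd (emul (emul (a 0) (a 4)) (a 8)) (eneg (emul (emul (a 0) (a 5)) (a 7))))
    (eneg (emul (emul (a 1) (a 3)) (a 8)))) (emul (emul (a 1) (a 5)) (a 6)))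
    (emul (emul (a 2) (a 3)) (a 7))) (eneg (emul (emul (a 2) (a 4)) (a 6)))

theorem code_split (x y : ℕ) :
    (x % 3 * 3 + y % 3) / 3 = x % 3 ∧ (x % 3 * 3 + y % 3) % 3 = y % 3 := by
  omega

variable [CharP F 3] {ι : F}

theorem cast_mod (n : ℕ) : ((n % 3 : ℕ) : F) = (n : F) := by
  rw [CharP.cast_eq_mod F 3 n]

theorem em_add (ι : F) (n m : ℕ) : em ι (eadd n m) = em ι n + em ι m := by
  have h := code_split (n / 3 + m / 3) (n % 3 + m % 3)
  unfold em eadd
  rw [h.1, h.2, cast_mod, cast_mod (n % 3 + m % 3)]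
  push_cast
  ring

theorem em_mul (hι : ι * ι = -1) (n m : ℕ) : em ι (emul n m) = em ι n * em ι m := by
  have h := code_split (n / 3 * (m / 3) + 2 * (n % 3 * (m % 3)))
    (n / 3 * (m % 3) + n % 3 * (m / 3))
  have h3 : (3 : F) = 0 := by exact_mod_cast CharP.cast_eq_zero F 3
  unfold em emul
  rw [h.1, h.2, cast_mod, cast_mod (n / 3 * (m % 3) + n % 3 * (m / 3))]
  push_cast
  linear_combination (-((n % 3 : ℕ) : F) * ((m % 3 : ℕ) : F)) * hι +
    (((n % 3 : ℕ) : F) * ((m % 3 : ℕ) : F)) * h3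

theorem em_neg (hι : ι * ι = -1) (n : ℕ) : em ι (eneg n) = -em ι n := by
  have h3 : (3 : F) = 0 := by exact_mod_cast CharP.cast_eq_zero F 3
  rw [eneg, em_mul hι]
  simp only [em, Nat.reduceDiv, Nat.reduceMod, Nat.cast_ofNat, Nat.cast_zero, zero_mul, add_zero]
  linear_combination (((n / 3 : ℕ) : F) + ((n % 3 : ℕ) : F) * ι) * h3

theorem em_conj (hι : ι * ι = -1) (n : ℕ) : em ι n ^ 3 = em ι (econj n) := by
  haveI : Fact (Nat.Prime 3) := ⟨Nat.prime_three⟩
  have h3 : (3 : F) = 0 := by exact_mod_cast CharP.cast_eq_zero F 3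
  have hfr : ∀ k : ℕ, (k : F) ^ 3 = k := fun k => by
    rw [← frobenius_def]; exact map_natCast (frobenius F 3) k
  have h := code_split (n / 3) (2 * (n % 3))
  unfold em econj
  rw [h.1, h.2, cast_mod (n / 3), cast_mod (2 * (n % 3)), add_pow_char, mul_pow, hfr, hfr]
  push_cast
  linear_combination (((n % 3 : ℕ) : F) * ι) * hι - (((n % 3 : ℕ) : F) * ι) * h3

theorem em_zero (ι : F) : em ι 0 = 0 := by simp [em]

theorem em_three (ι : F) : em ι 3 = 1 := by simp [em]

theorem em_injOn (hι : ι * ι = -1) {n m : ℕ} (hn : n < 9) (hm : m < 9)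
    (h : em ι n = em ι m) : n = m := by
  have h0 : ∀ k < 9, em ι k = 0 → k = 0 := by
    intro k hk hk0
    have h1 : ((k / 3 * (k / 3) + k % 3 * (k % 3) : ℕ) : F) = 0 := by
      unfold em at hk0
      push_cast
      linear_combination (((k / 3 : ℕ) : F) - ((k % 3 : ℕ) : F) * ι) * hk0 +
        (((k % 3 : ℕ) : F) * ((k % 3 : ℕ) : F)) * hι
    rw [CharP.cast_eq_zero_iff F 3, Nat.dvd_iff_mod_eq_zero] at h1
    interval_cases k <;> simp_all
  have h1 : em ι (eadd n (eneg m)) = 0 := by rw [em_add, em_neg hι, h, add_neg_cancel]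
  have key : ∀ a < 9, ∀ b < 9, eadd a (eneg b) = 0 → a = b := by decide +kernel
  refine key n hn m hm (h0 _ ?_ h1)
  unfold eadd
  omega

theorem toMat3_mul (hι : ι * ι = -1) (x y : List ℕ) :
    toMat3 ι (mul3 x y) = toMat3 ι x * toMat3 ι y := by
  ext i j
  fin_cases i <;> fin_cases j <;>
    simp [toMat3, mul3, dot3, Matrix.mul_apply, Fin.sum_univ_three, em_add, em_mul hι]

theorem toMat3_one (ι : F) : toMat3 ι one3 = 1 := by
  ext i j
  fin_cases i <;> fin_cases j <;> simp [toMat3, one3, em_zero, em_three]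

theorem toMat3_inj (hι : ι * ι = -1) {x y : List ℕ} (hx : x.length = 9) (hy : y.length = 9)
    (hx' : ∀ n ∈ x, n < 9) (hy' : ∀ n ∈ y, n < 9) (h : toMat3 ι x = toMat3 ι y) : x = y := by
  match x, hx, y, hy with
  | [a0, a1, a2, a3, a4, a5, a6, a7, a8], _, [b0, b1, b2, b3, b4, b5, b6, b7, b8], _ =>
    simp only [List.mem_cons, List.not_mem_nil, or_false, forall_eq_or_imp, forall_eq] at hx' hy'
    have e : ∀ i j, toMat3 ι _ i j = toMat3 ι _ i j := fun i j => congrFun (congrFun h i) j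
    have e00 := e 0 0
    have e01 := e 0 1
    have e02 := e 0 2
    have e10 := e 1 0
    have e11 := e 1 1
    have e12 := e 1 2
    have e20 := e 2 0
    have e21 := e 2 1
    have e22 := e 2 2
    simp [toMat3] at e00 e01 e02 e10 e11 e12 e20 e21 e22
    obtain ⟨p0, p1, p2, p3, p4, p5, p6, p7, p8⟩ := hx'
    obtain ⟨q0, q1, q2, q3, q4, q5, q6, q7, q8⟩ := hy'
    simp [em_injOn hι p0 q0 e00, em_injOn hι p1 q1 e01, em_injOn hι p2 q2 e02,
      em_injOn hι p3 q3 e10, em_injOn hι p4 q4 e11, em_injOn hι p5 q5 e12,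
      em_injOn hι p6 q6 e20, em_injOn hι p7 q7 e21, em_injOn hι p8 q8 e22]

theorem toMat3_trans (ι : F) (x : List ℕ) : toMat3 ι (trans3 x) = (toMat3 ι x)ᵀ := by
  ext i j
  fin_cases i <;> fin_cases j <;> simp [toMat3, trans3]

theorem toMat3_conj (hι : ι * ι = -1) (x : List ℕ) :
    toMat3 ι (conj3 x) = (toMat3 ι x).map (fun a => a ^ 3) := by
  ext i j
  fin_cases i <;> fin_cases j <;> simp [toMat3, conj3, em_conj hι]

theorem toMat3_det (hι : ι * ι = -1) (x : List ℕ) : (toMat3 ι x).det = em ι (det3 x) := by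
  rw [Matrix.det_fin_three]
  simp [toMat3, det3, em_add, em_mul hι, em_neg hι]
  ring

theorem toMat2_mul (x y : List ℕ) : toMat2 (mul2 x y) = toMat2 x * toMat2 y := by
  ext i j
  fin_cases i <;> fin_cases j <;>
    simp [toMat2, mul2, dot2, Matrix.mul_apply, Fin.sum_univ_two]

theorem toMat2_inj {x y : List ℕ} (hx : x.length = 4) (hy : y.length = 4)
    (hx' : ∀ n ∈ x, n < 7) (hy' : ∀ n ∈ y, n < 7) (h : toMat2 x = toMat2 y) : x = y := by
  match x, hx, y, hy with
  | [a0, a1, a2, a3], _, [b0, b1, b2, b3], _ =>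
    simp only [List.mem_cons, List.not_mem_nil, or_false, forall_eq_or_imp, forall_eq] at hx' hy'
    have key : ∀ {a b : ℕ}, a < 7 → b < 7 → (a : ZMod 7) = b → a = b := by
      intro a b ha hb hab
      have := congrArg ZMod.val hab
      rwa [ZMod.val_natCast, ZMod.val_natCast, Nat.mod_eq_of_lt ha, Nat.mod_eq_of_lt hb] at this
    have e00 := congrFun (congrFun h 0) 0
    have e01 := congrFun (congrFun h 0) 1
    have e10 := congrFun (congrFun h 1) 0
    have e11 := congrFun (congrFun h 1) 1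
    simp [toMat2] at e00 e01 e10 e11
    obtain ⟨p0, p1, p2, p3⟩ := hx'
    obtain ⟨q0, q1, q2, q3⟩ := hy'
    simp [key p0 q0 e00, key p1 q1 e01, key p2 q2 e10, key p3 q3 e11]

/-- A code list which is unitary gives an element of `SU(3,3)`. -/
theorem exists_su (hι : ι * ι = -1) (x : List ℕ) (hd : det3 x = 3)
    (hu : mul3 (trans3 x) (conj3 x) = one3) :
    ∃ M : Cfsg.SU 3 F 3, ((M : SL(3, F)) : Matrix (Fin 3) (Fin 3) F) = toMat3 ι x := by
  haveI : Fact (Nat.Prime 3) := ⟨Nat.prime_three⟩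
  have hdet : (toMat3 ι x).det = 1 := by rw [toMat3_det hι, hd, em_three]
  refine ⟨⟨⟨toMat3 ι x, hdet⟩, fun u v => ?_⟩, rfl⟩
  have hun : (toMat3 ι x)ᵀ * (toMat3 ι x).map (fun a => a ^ 3) = 1 := by
    rw [← toMat3_trans, ← toMat3_conj hι, ← toMat3_mul hι, hu, toMat3_one]
  have hf : ∀ a b : Fin 3 → F, Cfsg.hermForm 3 F 3 a b = a ⬝ᵥ fun i => b i ^ 3 := fun _ _ => rfl
  show Cfsg.hermForm 3 F 3 (toMat3 ι x *ᵥ u) (toMat3 ι x *ᵥ v) = Cfsg.hermForm 3 F 3 u v
  rw [hf, hf]
  have hmv : (fun i => (toMat3 ι x *ᵥ v) i ^ 3) =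
      (toMat3 ι x).map (fun a => a ^ 3) *ᵥ fun i => v i ^ 3 := by
    funext i
    exact RingHom.map_mulVec (frobenius F 3) (toMat3 ι x) v i
  rw [hmv, dotProduct_mulVec, ← vecMul_transpose, vecMul_vecMul, hun, vecMul_one]

variable [Fintype F]

/-- `PSU(3,3)` has a subgroup isomorphic to `PSL(2,7)`. -/
theorem exists_psl (hι : ι * ι = -1) :
    ∃ H : Subgroup (Cfsg.PSU 3 F 3),
      Nonempty (H ≃* Matrix.ProjectiveSpecialLinearGroup (Fin 2) (ZMod 7)) := by
  classical
  obtain ⟨MA, hMA⟩ := exists_su hι matA (by decide) (by decide)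
  obtain ⟨MB, hMB⟩ := exists_su hι matB (by decide) (by decide)
  let val : Cfsg.SU 3 F 3 → Matrix (Fin 3) (Fin 3) F :=
    fun M => ((M : SL(3, F)) : Matrix (Fin 3) (Fin 3) F)
  have hval : Function.Injective val := fun a b h => Subtype.ext (Subtype.ext h)
  let Rel : List ℕ × List ℕ → SL(2, ZMod 7) × Cfsg.SU 3 F 3 → Prop :=
    fun x p => toMat2 x.1 = (p.1 : Matrix (Fin 2) (Fin 2) (ZMod 7)) ∧ toMat3 ι x.2 = val p.2
  let gA : SL(2, ZMod 7) × Cfsg.SU 3 F 3 := (Transfer.tU 7, MA)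
  let gB : SL(2, ZMod 7) × Cfsg.SU 3 F 3 := (Transfer.tL 7, MB)
  have hA : Rel genA gA := by
    refine ⟨?_, hMA.symm⟩
    simp [genA, toMat2, gA, Transfer.tU, LinGrp.uSL_val]
  have hB : Rel genB gB := by
    refine ⟨?_, hMB.symm⟩
    simp [genB, toMat2, gB, Transfer.tL, LinGrp.lSL_val]
  have hmul : ∀ {x y p q}, Rel x p → Rel y q → Rel (mulP x y) (p * q) := by
    intro x y p q hp hq
    refine ⟨?_, ?_⟩
    · simp only [mulP, toMat2_mul, hp.1, hq.1]; rfl
    · simp only [mulP, toMat3_mul hι, hp.2, hq.2]; rfl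
  have hone : Rel ([1, 0, 0, 1], one3) 1 := by
    refine ⟨?_, toMat3_one ι⟩
    simp [toMat2, Matrix.one_fin_two]
  -- the generated group lies in the table
  set Γ := Subgroup.closure ({gA, gB} : Set (SL(2, ZMod 7) × Cfsg.SU 3 F 3)) with hΓ
  have hstep : ∀ (g : List ℕ × List ℕ) (next : List ℕ) (q : SL(2, ZMod 7) × Cfsg.SU 3 F 3),
      graph.map (fun x => mulP x g) = next.map (fun i => graph.getD i ([], [])) →
      (∀ i ∈ next, i < graph.length) → Rel g q →
      ∀ p, (∃ x ∈ graph, Rel x p) → ∃ x ∈ graph, Rel x (p * q) := by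
    rintro g next q hc hlt hg p ⟨x, hx, hxp⟩
    refine ⟨mulP x g, ?_, hmul hxp hg⟩
    have h1 : mulP x g ∈ graph.map (fun x => mulP x g) := List.mem_map.mpr ⟨x, hx, rfl⟩
    rw [hc] at h1
    obtain ⟨i, hi, he⟩ := List.mem_map.mp h1
    rw [← he, List.getD_eq_getElem _ _ (hlt i hi)]
    exact List.getElem_mem _
  have htab : ∀ p ∈ Γ, ∃ x ∈ graph, Rel x p := by
    intro p hp
    rw [hΓ, ← Subgroup.mem_toSubmonoid, Subgroup.closure_toSubmonoid_of_finite] at hp
    induction hp using Submonoid.closure_induction_right with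
    | one => exact ⟨_, one_mem, hone⟩
    | mul_right a _ b hb ih =>
      rcases hb with rfl | rfl
      · exact hstep genA nextA _ closedA nextA_lt hA a ih
      · exact hstep genB nextB _ closedB nextB_lt hB a ih
  have h2lt : ∀ x ∈ graph, x.1.length = 4 ∧ ∀ n ∈ x.1, n < 7 := fun x hx =>
    ⟨(entries2 x hx).1, fun n hn => by
      simpa using List.all_eq_true.mp (entries2 x hx).2 n hn⟩
  have h3lt : ∀ x ∈ graph, x.2.length = 9 ∧ ∀ n ∈ x.2, n < 9 := fun x hx =>
    ⟨(entries3 x hx).1, fun n hn => by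
      simpa using List.all_eq_true.mp (entries3 x hx).2 n hn⟩
  have hscal : ∀ x ∈ graph, (toMat2 x.1 = 1 → x.1 = [1, 0, 0, 1]) ∧
      (toMat2 x.1 = -1 → x.1 = [6, 0, 0, 6]) := by
    intro x hx
    refine ⟨fun h => toMat2_inj (h2lt x hx).1 rfl (h2lt x hx).2 (by simp) ?_,
      fun h => toMat2_inj (h2lt x hx).1 rfl (h2lt x hx).2 (by simp) ?_⟩
    · rw [h]; simp [toMat2, Matrix.one_fin_two]
    · rw [h]
      ext i j
      fin_cases i <;> fin_cases j <;> simp [toMat2] <;> decide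
  -- the first projection is bijective
  let π₁ : Γ →* SL(2, ZMod 7) := (MonoidHom.fst _ _).comp Γ.subtype
  have hinj : Function.Injective π₁ := by
    rw [injective_iff_map_eq_one]
    rintro ⟨p, hp⟩ h1
    obtain ⟨x, hx, hr1, hr2⟩ := htab p hp
    have hp1 : p.1 = 1 := h1
    rw [hp1] at hr1
    have h2 := snd_of_scalar x hx (Or.inl ((hscal x hx).1 hr1))
    rw [h2, toMat3_one] at hr2
    exact Subtype.ext (Prod.ext hp1 (hval hr2.symm))
  have hsur : Function.Surjective π₁ := by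
    rw [← MonoidHom.range_eq_top, eq_top_iff, ← Transfer.closure_tU_tL (p := 7), Subgroup.closure_le]
    rintro _ (rfl | rfl)
    · exact ⟨⟨gA, Subgroup.subset_closure (Set.mem_insert _ _)⟩, rfl⟩
    · exact ⟨⟨gB, Subgroup.subset_closure (Set.mem_insert_of_mem _ rfl)⟩, rfl⟩
  let e := MulEquiv.ofBijective π₁ ⟨hinj, hsur⟩
  let φ : SL(2, ZMod 7) →* Cfsg.SU 3 F 3 :=
    ((MonoidHom.snd _ _).comp Γ.subtype).comp e.symm.toMonoidHom
  have hφ : ∀ g : SL(2, ZMod 7), ∃ x ∈ graph, toMat2 x.1 = (g : Matrix (Fin 2) (Fin 2) (ZMod 7)) ∧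
      toMat3 ι x.2 = val (φ g) := by
    intro g
    obtain ⟨x, hx, hr1, hr2⟩ := htab _ (e.symm g).2
    refine ⟨x, hx, ?_, hr2⟩
    rw [hr1]
    exact congrArg Subtype.val (e.apply_symm_apply g)
  have hφgen : φ (Transfer.tU 7) = MA ∧ φ (Transfer.tL 7) = MB := by
    constructor
    · have : e.symm (Transfer.tU 7) = ⟨gA, Subgroup.subset_closure (Set.mem_insert _ _)⟩ :=
        (MulEquiv.symm_apply_eq e).mpr rfl
      show ((e.symm (Transfer.tU 7) : Γ) : SL(2, ZMod 7) × Cfsg.SU 3 F 3).2 = MA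
      rw [this]
    · have : e.symm (Transfer.tL 7) =
          ⟨gB, Subgroup.subset_closure (Set.mem_insert_of_mem _ rfl)⟩ :=
        (MulEquiv.symm_apply_eq e).mpr rfl
      show ((e.symm (Transfer.tL 7) : Γ) : SL(2, ZMod 7) × Cfsg.SU 3 F 3).2 = MB
      rw [this]
  let ψ : SL(2, ZMod 7) →* Cfsg.PSU 3 F 3 := (QuotientGroup.mk' _).comp φ
  have hcen : ∀ g : SL(2, ZMod 7), g ∈ Subgroup.center SL(2, ZMod 7) ↔
      ((g : Matrix (Fin 2) (Fin 2) (ZMod 7)) = 1 ∨ (g : Matrix (Fin 2) (Fin 2) (ZMod 7)) = -1) := by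
    intro g
    rw [Matrix.SpecialLinearGroup.mem_center_iff]
    constructor
    · rintro ⟨r, hr, hg⟩
      simp only [Fintype.card_fin] at hr
      rcases sq_eq_one_iff.mp hr with rfl | rfl
      · left; rw [← hg]; simp
      · right; rw [← hg, map_neg, map_one]
    · rintro (h | h)
      · exact ⟨1, by simp, by rw [h]; simp⟩
      · exact ⟨-1, by simp, by rw [h, map_neg, map_one]⟩
  have hker : ψ.ker = Subgroup.center SL(2, ZMod 7) := by
    ext g
    obtain ⟨x, hx, hr1, hr2⟩ := hφ g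
    rw [hcen]
    show QuotientGroup.mk' _ (φ g) = 1 ↔ _
    rw [QuotientGroup.mk'_apply, QuotientGroup.eq_one_iff]
    constructor
    · intro hc
      have hcomm : ∀ (M : Cfsg.SU 3 F 3) (l : List ℕ), toMat3 ι l = val M →
          mul3 x.2 l = mul3 l x.2 := by
        intro M l hl
        have key : ∀ a b, (mul3 a b).length = 9 ∧ ∀ n ∈ mul3 a b, n < 9 := by
          intro a b
          refine ⟨rfl, ?_⟩
          simp only [mul3, List.mem_cons, List.not_mem_nil, or_false, forall_eq_or_imp, forall_eq,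
            dot3, eadd]
          omega
        refine toMat3_inj hι (key _ _).1 (key _ _).1 (key _ _).2 (key _ _).2 ?_
        rw [toMat3_mul hι, toMat3_mul hι, hr2, hl]
        exact congrArg val (Subgroup.mem_center_iff.mp hc M).symm
      rcases fst_of_central x hx (hcomm MA matA hMA.symm) (hcomm MB matB hMB.symm) with h | h
      · left; rw [← hr1, h]; simp [toMat2, Matrix.one_fin_two]
      · right; rw [← hr1, h]
        ext i j
        fin_cases i <;> fin_cases j <;> simp [toMat2] <;> decide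
    · intro h
      have h2 : x.2 = one3 := by
        rcases h with h | h
        · exact snd_of_scalar x hx (Or.inl ((hscal x hx).1 (hr1.trans h)))
        · exact snd_of_scalar x hx (Or.inr ((hscal x hx).2 (hr1.trans h)))
      rw [h2, toMat3_one] at hr2
      have h1 : φ g = 1 := hval hr2.symm
      rw [h1]
      exact Subgroup.one_mem _
  exact ⟨ψ.range, ⟨(QuotientGroup.quotientKerEquivRange ψ).symm.trans
    (QuotientGroup.quotientMulEquivOfEq hker)⟩⟩

end Cfsg.Agent.U3L27
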