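import Cfsg.Agent.Lib.Tech.TameInter

/-!
Alperin's fusion theorem with `p`-elements as factors.
-/

set_option autoImplicit false

namespace Cfsg.Agent.Tech

open Fusion
open Cfsg.FusionSystem (normalizerIn)

variable {G : Type*} [Group G] {p : ℕ}

/-- The image of a set under right conjugation by `g`. -/
def rconj (g : G) (A : Set G) : Set G := (fun a => g⁻¹ * a * g) '' A

theorem rconj_rconj (g h : G) (A : Set G) : rconj h (rconj g A) = rconj (g * h) A := by
  rw [rconj, rconj, rconj, Set.image_image]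
  refine Set.image_congr fun a _ => ?_
  group

theorem rconj_one (A : Set G) : rconj (1 : G) A = A := by simp [rconj]

/-- One factor in Alperin's theorem. -/
def Step (P : Sylow p G) (A : Set G) (s : Sylow p G × G) : Prop :=
  (s.2 ∈ Subgroup.normalizer ((((P : Subgroup G) ⊓ (s.1 : Subgroup G)) : Subgroup G) : Set G) ∧
    ¬ p ∣ ((P : Subgroup G) ⊓ Subgroup.normalizer
      ((((P : Subgroup G) ⊓ (s.1 : Subgroup G)) : Subgroup G) : Set G)).relIndex
      (Subgroup.normalizer ((((P : Subgroup G) ⊓ (s.1 : Subgroup G)) : Subgroup G) : Set G)) ∧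
    ¬ p ∣ ((s.1 : Subgroup G) ⊓ Subgroup.normalizer
      ((((P : Subgroup G) ⊓ (s.1 : Subgroup G)) : Subgroup G) : Set G)).relIndex
      (Subgroup.normalizer ((((P : Subgroup G) ⊓ (s.1 : Subgroup G)) : Subgroup G) : Set G)) ∧
    ((s.1 : Subgroup G) = (P : Subgroup G) ∨ ∃ k : ℕ, orderOf s.2 = p ^ k)) ∧
  A ⊆ (((P : Subgroup G) ⊓ (s.1 : Subgroup G) : Subgroup G) : Set G)

/-- A sequence of factors moving `A` inside `P`. -/
def Chain (P : Sylow p G) : Set G → List (Sylow p G × G) → Prop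
  | _, [] => True
  | A, s :: l => Step P A s ∧ Chain P (rconj s.2 A) l

/-- `g` is a product of factors moving `A` inside `P`. -/
def Reach (P : Sylow p G) (A : Set G) (g : G) : Prop :=
  ∃ l : List (Sylow p G × G), (l.map Prod.snd).prod = g ∧ Chain P A l

theorem Chain.mono (P : Sylow p G) : ∀ (l : List (Sylow p G × G)) {A B : Set G},
    A ⊆ B → Chain P B l → Chain P A l
  | [], _, _, _, _ => trivial
  | _ :: l, _, _, hAB, h =>
    ⟨⟨h.1.1, hAB.trans h.1.2⟩, Chain.mono P l (Set.image_mono hAB) h.2⟩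

theorem Chain.append (P : Sylow p G) : ∀ (l l' : List (Sylow p G × G)) {A : Set G},
    Chain P A l → Chain P (rconj (l.map Prod.snd).prod A) l' → Chain P A (l ++ l')
  | [], l', A, _, h => by simpa [rconj_one] using h
  | s :: l, l', A, h, h' =>
    ⟨h.1, Chain.append P l l' h.2 (by simpa [rconj_rconj] using h')⟩

theorem Reach.mono {P : Sylow p G} {A B : Set G} {g : G} (hAB : A ⊆ B) (h : Reach P B g) :
    Reach P A g :=
  let ⟨l, hl, hc⟩ := h; ⟨l, hl, Chain.mono P l hAB hc⟩

theorem Reach.mul {P : Sylow p G} {A : Set G} {g h : G} (hg : Reach P A g)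
    (hh : Reach P (rconj g A) h) : Reach P A (g * h) := by
  obtain ⟨l, hl, hc⟩ := hg
  obtain ⟨l', hl', hc'⟩ := hh
  exact ⟨l ++ l', by simp [hl, hl'], Chain.append P l l' hc (by rw [hl]; exact hc')⟩

theorem Reach.one {P : Sylow p G} {A : Set G} : Reach P A 1 := ⟨[], rfl, trivial⟩

theorem Chain.spec (P : Sylow p G) : ∀ (l : List (Sylow p G × G)) {A : Set G}, Chain P A l →
    ∀ (i : ℕ) (hi : i < l.length), Step P (rconj ((l.map Prod.snd).take i).prod A) l[i]
  | s :: l, A, h, 0, _ => by simpa [rconj_one] using h.1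
  | s :: l, A, h, i + 1, hi => by
    have := Chain.spec P l h.2 i (by simpa using hi)
    simpa [rconj_rconj] using this

variable [Finite G] [Fact p.Prime]

theorem reach_of_mem_normalizer (P : Sylow p G) {A : Set G} (hA : A ⊆ (P : Set G)) {g : G}
    (hg : g ∈ Subgroup.normalizer ((P : Subgroup G) : Set G)) : Reach P A g := by
  have hs : IsSylowIn p ((P : Subgroup G) ⊓ Subgroup.normalizer ((P : Subgroup G) : Set G))
      (Subgroup.normalizer ((P : Subgroup G) : Set G)) := by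
    rw [inf_eq_left.mpr Subgroup.le_normalizer]
    obtain ⟨H, hPH, hH⟩ := exists_isSylowIn (p := p) Subgroup.le_normalizer P.2
    rwa [P.is_maximal' hH.2.1 hPH] at hH
  refine ⟨[(P, g)], by simp, ⟨⟨?_, ?_, ?_, Or.inl rfl⟩, ?_⟩, trivial⟩
  · simpa using hg
  · rw [inf_idem]; exact not_dvd_relIndex_of_isSylowIn hs
  · rw [inf_idem]; exact not_dvd_relIndex_of_isSylowIn hs
  · simpa using hA

/-- Alperin's fusion theorem with `p`-elements as factors. -/
theorem reach_of_conj_mem (P : Sylow p G) : ∀ (k : ℕ) (D : Subgroup G), D ≤ (P : Subgroup G) →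
    Nat.card (P : Subgroup G) - Nat.card D = k →
    ∀ g : G, (∀ a ∈ D, g⁻¹ * a * g ∈ (P : Subgroup G)) → Reach P (D : Set G) g := by
  intro k
  induction k using Nat.strong_induction_on with
  | h k ih =>
  intro D hDP hk g hg
  rcases eq_or_lt_of_le hDP with rfl | hlt
  · refine reach_of_mem_normalizer P Set.Subset.rfl ?_
    refine inv_mem_iff.mp (mem_normalizer_of_forall fun a ha => ?_)
    simpa using hg a ha
  -- maps moving strictly larger subgroups inside `P`
  have big : ∀ (D' : Subgroup G) (g' : G), D' ≤ (P : Subgroup G) → Nat.card D < Nat.card D' →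
      (∀ a ∈ D', g'⁻¹ * a * g' ∈ (P : Subgroup G)) → Reach P (D' : Set G) g' :=
    fun D' g' hD' hlt' hg' => ih _ (by
      have := Subgroup.card_le_of_le hD'
      omega) D' hD' rfl g' hg'
  obtain ⟨g₀, hRP, hS⟩ := exists_conj_isSylowIn P hDP
  set R := D.map (MulAut.conj g₀).toMonoidHom with hR
  set M := Subgroup.normalizer (R : Set G) with hM
  set S := normalizerIn (P : Subgroup G) R with hSdef
  set E := D.map (MulAut.conj g⁻¹).toMonoidHom with hE
  have hEP : E ≤ (P : Subgroup G) := (map_conj_le_iff _).mpr fun a ha => by simpa using hg a ha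
  have grow : ∀ {X : Subgroup G}, X ≤ (P : Subgroup G) → Nat.card X = Nat.card D →
      Nat.card D < Nat.card (normalizerIn (P : Subgroup G) X) := by
    intro X hXP hX
    have hne : X < (P : Subgroup G) := lt_of_le_of_ne hXP fun h => by
      rw [h] at hX
      exact hlt.ne (Subgroup.eq_of_le_of_card_ge hDP hX.le)
    obtain ⟨y, hy, hyX, hyN⟩ := exists_mem_not_mem_normalizer P.2 hne
    have hle : X ≤ normalizerIn (P : Subgroup G) X := le_inf hXP Subgroup.le_normalizer
    rw [← hX]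
    refine lt_of_le_of_ne (Subgroup.card_le_of_le hle) fun h => hyX ?_
    rw [Subgroup.eq_of_le_of_card_ge hle h.ge]
    exact Subgroup.mem_inf.mpr ⟨hy, hyN⟩
  have hcardR : Nat.card R = Nat.card D := card_map_conj D g₀
  have hcardE : Nat.card E = Nat.card D := card_map_conj D g⁻¹
  have hmapE : E.map (MulAut.conj (g₀ * g)).toMonoidHom = R := by
    rw [hE, hR, Subgroup.map_map]
    congr 1
    ext x
    simp [mul_assoc]
  have hpush : ∀ (X : Subgroup G) (a : G), X.map (MulAut.conj a).toMonoidHom = R →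
      X ≤ (P : Subgroup G) →
      ∃ x ∈ M, ∀ u ∈ normalizerIn (P : Subgroup G) X, x * a * u * (x * a)⁻¹ ∈ S := by
    intro X a hXR hXP
    have hle : (normalizerIn (P : Subgroup G) X).map (MulAut.conj a).toMonoidHom ≤ M := by
      rw [hM, ← hXR, ← Subgroup.map_equiv_normalizer_eq]
      exact Subgroup.map_mono inf_le_right
    obtain ⟨x, hx, hxK⟩ := hS.2.2 _ hle (isPGroup_img_cj (P.2.to_le inf_le_left) a)
    refine ⟨x, hx, fun u hu => ?_⟩
    have := hxK _ ⟨u, hu, rfl⟩
    simpa [mul_assoc] using this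
  obtain ⟨x, hx, hxD⟩ := hpush D g₀ rfl hDP
  obtain ⟨x', hx', hxE⟩ := hpush E (g₀ * g) hmapE hEP
  have hRS : R ≤ S := le_inf hRP Subgroup.le_normalizer
  have hRR : ∀ z ∈ M, rconj z (R : Set G) ⊆ (R : Set G) := fun z hz => by
    rintro _ ⟨r, hr, rfl⟩
    have := (Subgroup.mem_normalizer_iff.mp (inv_mem hz) r).mp hr
    rwa [inv_inv] at this
  have mulM : ∀ {u v : G}, u ∈ M → Reach P (R : Set G) u → Reach P (R : Set G) v →
      Reach P (R : Set G) (u * v) :=
    fun hu hu' hv => hu'.mul (hv.mono (hRR _ hu))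
  -- every element of `M` is reached from `R`
  have inner : ∀ m ∈ M, Reach P (R : Set G) m := by
    by_contra hcon
    push Not at hcon
    obtain ⟨z₀, hz₀, hz₀r⟩ := hcon
    have hsep : ∀ z ∈ M, ¬ Reach P (R : Set G) z → ∀ a ∈ S, z⁻¹ * a * z ∈ S → a ∈ R := by
      intro z hz hzr a ha haz
      by_contra haR
      refine hzr ((big ((P : Subgroup G) ⊓ (P : Subgroup G).map (MulAut.conj z).toMonoidHom) z
        inf_le_left ?_ ?_).mono ?_)
      · rw [← hcardR]
        have hle : R ≤ (P : Subgroup G) ⊓ (P : Subgroup G).map (MulAut.conj z).toMonoidHom :=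
          le_inf hRP fun r hr => ⟨z⁻¹ * r * z, hRP (hRR z hz ⟨r, hr, rfl⟩), by simp [mul_assoc]⟩
        refine lt_of_le_of_ne (Subgroup.card_le_of_le hle) fun h => haR ?_
        rw [Subgroup.eq_of_le_of_card_ge hle h.ge]
        exact Subgroup.mem_inf.mpr
          ⟨(Subgroup.mem_inf.mp ha).1,
            ⟨z⁻¹ * a * z, (Subgroup.mem_inf.mp haz).1, by simp [mul_assoc]⟩⟩
      · intro b hb
        obtain ⟨c, hc, rfl⟩ := (Subgroup.mem_inf.mp hb).2
        have e : z⁻¹ * (z * c * z⁻¹) * z = c := by group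
        exact e.symm ▸ hc
      · exact fun r hr => Subgroup.mem_inf.mpr
          ⟨hRP hr, ⟨z⁻¹ * r * z, hRP (hRR z hz ⟨r, hr, rfl⟩), by simp [mul_assoc]⟩⟩
    obtain ⟨y, hyS, hyR⟩ : ∃ y ∈ S, y ∉ R := by
      by_contra h
      push Not at h
      have h1 := grow hRP hcardR
      have h2 := Subgroup.card_le_of_le (show S ≤ R from h)
      rw [hcardR] at h2
      rw [← hSdef] at h1
      omega
    have normS : ∀ z ∈ M, (∀ a ∈ S, z⁻¹ * a * z ∈ S) → Reach P (R : Set G) z := by
      intro z hz hzS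
      by_contra hzr
      exact hyR (hsep z hz hzr y hyS (hzS y hyS))
    have hU : IsPGroup p (S.map (MulAut.conj z₀).toMonoidHom) := isPGroup_img_cj hS.2.1 z₀
    have hUM : S.map (MulAut.conj z₀).toMonoidHom ≤ M := (map_conj_le_iff _).mpr fun s hs =>
      mul_mem (mul_mem hz₀ (hS.1 hs)) (inv_mem hz₀)
    have hUsyl : IsSylowIn p (S.map (MulAut.conj z₀).toMonoidHom) M :=
      isSylowIn_of_card_ge hUM hU hS (card_map_conj S z₀).ge
    obtain ⟨T, hT⟩ := hU.exists_le_sylow
    have hTM : (T : Subgroup G) ⊓ M = S.map (MulAut.conj z₀).toMonoidHom :=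
      (hUsyl.eq_of_le (le_inf hT hUM) inf_le_right (T.2.to_le inf_le_left)).symm
    have hRT : R ≤ (T : Subgroup G) := fun r hr =>
      hT ⟨z₀⁻¹ * r * z₀, hRS (hRR z₀ hz₀ ⟨r, hr, rfl⟩), by simp [mul_assoc]⟩
    have hPT : (P : Subgroup G) ⊓ (T : Subgroup G) = R := by
      refine le_antisymm ?_ (le_inf hRP hRT)
      by_contra hnle
      obtain ⟨u, hu, huR, huN⟩ := exists_mem_not_mem_normalizer (P.2.to_le inf_le_left)
        (lt_of_le_not_ge (le_inf hRP hRT) hnle : R < (P : Subgroup G) ⊓ (T : Subgroup G))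
      obtain ⟨huP, huT⟩ := Subgroup.mem_inf.mp hu
      obtain ⟨s, hs, hsu⟩ : u ∈ S.map (MulAut.conj z₀).toMonoidHom :=
        hTM ▸ Subgroup.mem_inf.mpr ⟨huT, huN⟩
      refine huR (hsep z₀ hz₀ hz₀r u (Subgroup.mem_inf.mpr ⟨huP, huN⟩) ?_)
      rw [← hsu]
      simpa [mul_assoc] using hs
    have hpel : ∀ u ∈ M, (∃ j : ℕ, orderOf u = p ^ j) → Reach P (R : Set G) u := by
      intro u hu huo
      refine ⟨[(T, u)], by simp, ⟨⟨?_, ?_, ?_, Or.inr huo⟩, ?_⟩, trivial⟩
      · show u ∈ Subgroup.normalizer (((P : Subgroup G) ⊓ (T : Subgroup G) : Subgroup G) : Set G)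
        rw [hPT]; exact hu
      · show ¬ p ∣ _
        rw [hPT]; exact not_dvd_relIndex_of_isSylowIn hS
      · show ¬ p ∣ _
        rw [hPT, ← hM, hTM]; exact not_dvd_relIndex_of_isSylowIn hUsyl
      · show (R : Set G) ⊆ (((P : Subgroup G) ⊓ (T : Subgroup G) : Subgroup G) : Set G)
        rw [hPT]
    let O := Subgroup.closure {u : G | u ∈ M ∧ ∃ j : ℕ, orderOf u = p ^ j}
    have hOM : O ≤ M := (Subgroup.closure_le M).mpr fun u hu => hu.1
    have hpO : ∀ {X : Subgroup G}, IsPGroup p X → X ≤ M → X ≤ O := by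
      intro X hX hXM u hu
      obtain ⟨j, hj⟩ := (IsPGroup.iff_orderOf).mp hX ⟨u, hu⟩
      exact Subgroup.subset_closure ⟨hXM hu, j, by rwa [Subgroup.orderOf_mk] at hj⟩
    have hOreach : ∀ o ∈ O, Reach P (R : Set G) o := by
      intro o ho
      have hpow : ∀ (u : G), u ∈ M → Reach P (R : Set G) u → ∀ j : ℕ, Reach P (R : Set G) (u ^ j) := by
        intro u hu hr j
        induction j with
        | zero => simpa using Reach.one
        | succ j ihj => rw [pow_succ']; exact mulM hu hr ihj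
      suffices o ∈ M ∧ Reach P (R : Set G) o from this.2
      refine Subgroup.closure_induction (fun u hu => ⟨hu.1, hpel u hu.1 hu.2⟩)
        ⟨one_mem M, Reach.one⟩ (fun u v _ _ hu hv => ⟨mul_mem hu.1 hv.1, mulM hu.1 hu.2 hv.2⟩)
        (fun u _ hu => ⟨inv_mem hu.1, ?_⟩) ho
      obtain ⟨j, hj, hj'⟩ := (isOfFinOrder_iff_pow_eq_one).mp (isOfFinOrder_of_finite u)
      have e : u⁻¹ = u ^ (j - 1) := by
        refine inv_eq_of_mul_eq_one_right ?_
        rw [← pow_succ', Nat.sub_add_cancel hj, hj']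
      rw [e]; exact hpow u hu.1 hu.2 _
    refine hz₀r ?_
    have hSO : S ≤ O := hpO hS.2.1 hS.1
    have hSsylO : IsSylowIn p S O := by
      obtain ⟨H, hSH, hH⟩ := exists_isSylowIn (p := p) hSO hS.2.1
      rwa [← hS.eq_of_le hSH (hH.1.trans hOM) hH.2.1] at hH
    obtain ⟨o, ho, hoS⟩ := hSsylO.2.2 _ (hpO hU hUM) hU
    have hoz : o * z₀ ∈ M := mul_mem (hOM ho) hz₀
    have hn : o * z₀ ∈ Subgroup.normalizer (S : Set G) := mem_normalizer_of_forall fun a ha => by
      have := hoS _ ⟨a, ha, rfl⟩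
      simpa [mul_assoc] using this
    have h1 : Reach P (R : Set G) (o * z₀) := normS _ hoz fun a ha => by
      have := (Subgroup.mem_normalizer_iff.mp (inv_mem hn) a).mp ha
      simpa [mul_assoc] using this
    have h2 := mulM (inv_mem (hOM ho)) (hOreach _ (inv_mem ho)) h1
    rwa [inv_mul_cancel_left] at h2
  -- assemble
  have hz : x * x'⁻¹ ∈ M := mul_mem hx (inv_mem hx')
  have r1 : Reach P (D : Set G) (x * g₀)⁻¹ :=
    (big _ _ inf_le_left (grow hDP rfl) fun a ha => by
      rw [inv_inv]; exact (Subgroup.mem_inf.mp (hxD a ha)).1).mono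
      (fun a ha => Subgroup.mem_inf.mpr ⟨hDP ha, Subgroup.le_normalizer ha⟩)
  have hsub1 : rconj (x * g₀)⁻¹ (D : Set G) ⊆ (R : Set G) := by
    rintro _ ⟨a, ha, rfl⟩
    have h1 : g₀ * a * g₀⁻¹ ∈ R := ⟨a, ha, rfl⟩
    have := (Subgroup.mem_normalizer_iff.mp hx _).mp h1
    simpa [mul_assoc] using this
  have r3 : Reach P (R : Set G) (x' * (g₀ * g)) := by
    let N' := (normalizerIn (P : Subgroup G) E).map (MulAut.conj (x' * (g₀ * g))).toMonoidHom
    refine (big N' _ ?_ ?_ ?_).mono ?_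
    · exact (map_conj_le_iff _).mpr fun a ha => (Subgroup.mem_inf.mp (hxE a ha)).1
    · rw [card_map_conj]
      exact grow hEP hcardE
    · rintro _ ⟨a, ha, rfl⟩
      simpa [mul_assoc] using (Subgroup.mem_inf.mp ha).1
    · intro r hr
      have hr' : x'⁻¹ * r * x' ∈ R := hRR x' hx' ⟨r, hr, rfl⟩
      rw [← hmapE] at hr'
      obtain ⟨e, he, hee⟩ := hr'
      refine ⟨e, Subgroup.mem_inf.mpr ⟨hEP he, Subgroup.le_normalizer he⟩, ?_⟩
      have hee' : g₀ * g * e * (g₀ * g)⁻¹ = x'⁻¹ * r * x' := hee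
      show x' * (g₀ * g) * e * (x' * (g₀ * g))⁻¹ = r
      rw [show x' * (g₀ * g) * e * (x' * (g₀ * g))⁻¹ = x' * (g₀ * g * e * (g₀ * g)⁻¹) * x'⁻¹ by group,
        hee']
      group
  have hfin := r1.mul ((mulM hz (inner _ hz) r3).mono hsub1)
  rwa [show (x * g₀)⁻¹ * (x * x'⁻¹ * (x' * (g₀ * g))) = g by group] at hfin

end Cfsg.Agent.Tech
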