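import Cfsg.Agent.Lib.ConjFunctor.CentralFactor

/-!
# The smallest centric radical subgroup when a centric normal subgroup controls fusion
-/

set_option autoImplicit false
set_option linter.style.haveILetI false
set_option linter.unusedSectionVars false

namespace Cfsg.Agent.CentricRadical

open Subgroup Cfsg.Agent.ConjFunctor
open scoped commutatorElement

universe u

variable {G : Type u} [Group G] [Finite G] {p : ℕ} [hp : Fact p.Prime]

/-- A Sylow subgroup meets a normalised subgroup in a Sylow subgroup. -/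
theorem sylIn_inf {S H M : Subgroup G} (hS : IsSylIn p S H) (hMH : M ≤ H)
    (hn : H ≤ normalizer (M : Set G)) : IsSylIn p (S ⊓ M) M := by
  obtain ⟨T, hT, hle⟩ := exists_isSylIn_ge (p := p) (inf_le_right : S ⊓ M ≤ M) hS.2.1.to_inf_left
  obtain ⟨k, hk, hkle⟩ := exists_conj_le_of_isSylIn hS (hT.1.trans hMH) hT.2.1
  have hk' : cj k T ≤ S ⊓ M := le_inf hkle (by
    rw [← cj_eq_iff.mpr (hn hk)]
    exact cj_le_cj.mpr hT.1)
  have : T = S ⊓ M := (eq_of_le_of_card_ge hle (by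
    have := card_le_of_le hk'
    rwa [cj_card] at this)).symm
  exact this ▸ hT

theorem centralizer_normalized (Q : Subgroup G) :
    normalizer (Q : Set G) ≤ normalizer ((centralizer (Q : Set G) : Subgroup G) : Set G) := by
  have key : ∀ n ∈ normalizer (Q : Set G), ∀ c ∈ centralizer (Q : Set G),
      n * c * n⁻¹ ∈ centralizer (Q : Set G) := by
    intro n hn c hc
    refine mem_centralizer_iff.mpr fun z hz => ?_
    have h1 := mem_centralizer_iff.mp hc _ ((mem_normalizer_iff''.mp hn z).mp hz)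
    calc z * (n * c * n⁻¹) = n * ((n⁻¹ * z * n) * c) * n⁻¹ := by group
      _ = n * (c * (n⁻¹ * z * n)) * n⁻¹ := by rw [h1]
      _ = n * c * n⁻¹ * z := by group
  intro n hn
  refine mem_normalizer_iff.mpr fun c => ⟨key n hn c, fun hc => ?_⟩
  simpa [mul_assoc] using key n⁻¹ (inv_mem hn) _ hc

/-- If the normalizer of a centric subgroup `K₀` controls strong fusion, there is a centric,
radical subgroup whose normalizer controls strong fusion. -/
theorem exists_model (S : Sylow p G) (K₀ : Subgroup G) (hK₀S : K₀ ≤ (S : Subgroup G))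
    (hSK : (S : Subgroup G) ≤ normalizer (K₀ : Set G))
    (hcen : (S : Subgroup G) ⊓ centralizer (K₀ : Set G) ≤ K₀)
    (hctl : ∀ (A : Set G) (g : G), A ⊆ (S : Subgroup G) →
      (fun a => g * a * g⁻¹) '' A ⊆ (S : Subgroup G) →
      ∃ x ∈ normalizer (K₀ : Set G), ∀ a ∈ A, g * a * g⁻¹ = x * a * x⁻¹) :
    ∃ Q : Subgroup G, Q ≤ (S : Subgroup G) ∧ (S : Subgroup G) ≤ normalizer (Q : Set G) ∧
      (S : Subgroup G) ⊓ centralizer (Q : Set G) ≤ Q ∧
      (∀ X : Subgroup G, X ≤ normalizer (Q : Set G) → normalizer (Q : Set G) ≤ normalizer (X : Set G) →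
        Q ⊔ centralizer (Q : Set G) ≤ X →
        (∃ k : ℕ, (Q ⊔ centralizer (Q : Set G)).relIndex X = p ^ k) →
        X = Q ⊔ centralizer (Q : Set G)) ∧
      ∀ (A : Set G) (g : G), A ⊆ (S : Subgroup G) →
        (fun a => g * a * g⁻¹) '' A ⊆ (S : Subgroup G) →
        ∃ h ∈ normalizer (Q : Set G), ∀ a ∈ A, g * a * g⁻¹ = h * a * h⁻¹ := by
  set L := normalizer (K₀ : Set G) with hL
  set S' : Sylow p ↥L := S.subtype hSK with hS'
  have hS'mem : ∀ s : ↥L, s ∈ (S' : Subgroup ↥L) ↔ (s : G) ∈ (S : Subgroup G) := fun s => Iff.rfl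
  set Qp := Cfsg.pCore p ↥L with hQp
  haveI : Qp.Normal := LocalEvenA.pCore_normal' p ↥L
  have hK₀L : K₀ ≤ L := le_normalizer
  have hK₀Q : K₀.subgroupOf L ≤ Qp :=
    LocalEvenA.le_pCore_of_normal normal_in_normalizer
      ((S.2.to_le hK₀S).comap_of_injective _ L.subtype_injective)
  have hnorm : normalizer ((((S' : Subgroup ↥L) ⊓ (Qp ⊔
      centralizer ((Qp : Subgroup ↥L) : Set ↥L)) : Subgroup ↥L)) : Set ↥L) = ⊤ := by
    have e : (S' : Subgroup ↥L) ⊓ (Qp ⊔ centralizer ((Qp : Subgroup ↥L) : Set ↥L)) = Qp := by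
      refine le_antisymm ?_ (le_inf (pCore_le_sylow S') le_sup_left)
      intro s hs
      obtain ⟨hsS, hs'⟩ := Subgroup.mem_inf.mp hs
      obtain ⟨a, ha, c, hc, rfl⟩ := mem_sup_of_normal_left.mp hs'
      refine Qp.mul_mem ha (hK₀Q (mem_subgroupOf.mpr (hcen ?_)))
      have hcS : c ∈ (S' : Subgroup ↥L) := by
        have := (S' : Subgroup ↥L).mul_mem
          ((S' : Subgroup ↥L).inv_mem (pCore_le_sylow S' ha)) hsS
        rwa [inv_mul_cancel_left] at this
      exact Subgroup.mem_inf.mpr ⟨hcS, mem_centralizer_iff.mpr fun z hz => congrArg Subtype.val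
        (mem_centralizer_iff.mp hc (⟨z, hK₀L hz⟩ : ↥L) (hK₀Q hz))⟩
    rw [e]
    exact normalizer_eq_top _
  obtain ⟨R, hRn, hR, hcon⟩ := exists_constrained_quotient S' hnorm
  set q := QuotientGroup.mk' R with hq
  set P₀ := Cfsg.pCore p (↥L ⧸ R) with hP₀
  haveI : P₀.Normal := LocalEvenA.pCore_normal' p (↥L ⧸ R)
  set Q' := (S' : Subgroup ↥L) ⊓ P₀.comap q with hQ'
  set Q := Q'.map L.subtype with hQ
  have hQ'p : IsPGroup p ↥Q' := S'.2.to_inf_left
  have hQq : Q'.map q = P₀ := by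
    refine le_antisymm (map_le_iff_le_comap.mpr inf_le_right) fun y hy => ?_
    have h1 := pCore_le_sylow (S'.mapSurjective (QuotientGroup.mk'_surjective R)) hy
    rw [Sylow.coe_mapSurjective] at h1
    obtain ⟨s, hs, rfl⟩ := h1
    exact mem_map_of_mem q (Subgroup.mem_inf.mpr ⟨hs, hy⟩)
  have hQS : Q ≤ (S : Subgroup G) := by
    rintro _ ⟨s, hs, rfl⟩
    exact (Subgroup.mem_inf.mp hs).1
  have hSnQ' : (S' : Subgroup ↥L) ≤ normalizer (Q' : Set ↥L) := by
    intro s hs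
    rw [← cj_eq_iff, hQ', cj_inf, cj_eq_of_mem hs]
    congr 1
    exact cj_eq_iff.mpr (by rw [normalizer_eq_top (P₀.comap q)]; exact mem_top s)
  have hSQ : (S : Subgroup G) ≤ normalizer (Q : Set G) := fun s hs =>
    le_normalizer_map L.subtype
      (mem_map_of_mem L.subtype (hSnQ' (show (⟨s, hSK hs⟩ : ↥L) ∈ (S' : Subgroup ↥L) from hs)))
  -- the Frattini argument
  have hfrat : ∀ x : ↥L, ∃ n ∈ normalizer (Q' : Set ↥L), q n = q x := by
    intro x
    have h1 : q x ∈ normalizer ((Q'.map q : Subgroup (↥L ⧸ R)) : Set (↥L ⧸ R)) := by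
      rw [hQq, normalizer_eq_top P₀]; exact mem_top _
    rw [← map_normalizer_mk' hR hQ'p] at h1
    obtain ⟨n, hn, hne⟩ := h1
    exact ⟨n, hn, hne⟩
  have hinj : ∀ a ∈ (S' : Subgroup ↥L), ∀ b ∈ (S' : Subgroup ↥L), q a = q b → a = b :=
    fun a ha b hb h => injOn_mk'_of_coprime hR S'.2 ha hb h
  have hfusion : ∀ (A : Set G) (g : G), A ⊆ (S : Subgroup G) →
      (fun a => g * a * g⁻¹) '' A ⊆ (S : Subgroup G) →
      ∃ h ∈ normalizer (Q : Set G), ∀ a ∈ A, g * a * g⁻¹ = h * a * h⁻¹ := by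
    intro A g hA hgA
    obtain ⟨x₀, hx₀, hx⟩ := hctl A g hA hgA
    set x : ↥L := ⟨x₀, hx₀⟩
    obtain ⟨n, hn, hnx⟩ := hfrat x
    set U := normalizer (Q' : Set ↥L) ⊓ ((S' : Subgroup ↥L) ⊔ R) with hU
    set A' : Subgroup ↥L := closure {y | ∃ a, ∃ ha : a ∈ A, y = n * ⟨a, hSK (hA ha)⟩ * n⁻¹}
    have hA'U : A' ≤ U := by
      rw [closure_le]
      rintro _ ⟨a, ha, rfl⟩
      set a' : ↥L := ⟨a, hSK (hA ha)⟩
      have hxa : x * a' * x⁻¹ ∈ (S' : Subgroup ↥L) :=
        show (x₀ * a * x₀⁻¹ : G) ∈ (S : Subgroup G) from hx a ha ▸ hgA ⟨a, ha, rfl⟩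
      refine Subgroup.mem_inf.mpr ⟨mul_mem (mul_mem hn (hSnQ' (hA ha))) (inv_mem hn), ?_⟩
      have h1 : q (n * a' * n⁻¹) ∈ ((S' : Subgroup ↥L)).map q :=
        ⟨_, hxa, by simp only [map_mul, map_inv, hnx]⟩
      rw [← mem_comap, comap_map_eq, hq, QuotientGroup.ker_mk'] at h1
      exact h1
    have hA'p : IsPGroup p ↥A' := by
      refine (cj_isPGroup n S'.2).to_le ((closure_le _).mpr ?_)
      rintro _ ⟨a, ha, rfl⟩
      exact conj_mem_cj (hA ha)
    have hSylU : IsSylIn p (S' : Subgroup ↥L) U :=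
      isSylIn_of_le (isSylIn_top S') (le_inf hSnQ' le_sup_left) le_top
    obtain ⟨u, hu, hle⟩ := exists_conj_le_of_isSylIn hSylU hA'U hA'p
    obtain ⟨huN, huS⟩ := Subgroup.mem_inf.mp hu
    obtain ⟨s, hs, d, hd, hsd⟩ := mem_sup_of_normal_right.mp huS
    have hdN : d ∈ normalizer (Q' : Set ↥L) := by
      have e : d = s⁻¹ * u := by rw [← hsd]; group
      rw [e]
      exact mul_mem (inv_mem (hSnQ' hs)) huN
    refine ⟨((d * n : ↥L) : G), le_normalizer_map L.subtype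
      (mem_map_of_mem L.subtype (mul_mem hdN hn)), fun a ha => ?_⟩
    set a' : ↥L := ⟨a, hSK (hA ha)⟩
    have hxa : x * a' * x⁻¹ ∈ (S' : Subgroup ↥L) :=
      show (x₀ * a * x₀⁻¹ : G) ∈ (S : Subgroup G) from hx a ha ▸ hgA ⟨a, ha, rfl⟩
    have hh : (d * n) * a' * (d * n)⁻¹ ∈ (S' : Subgroup ↥L) := by
      have h1 := hle (conj_mem_cj (g := u) (subset_closure ⟨a, ha, rfl⟩ : n * a' * n⁻¹ ∈ A'))
      have h2 := (S' : Subgroup ↥L).mul_mem
        ((S' : Subgroup ↥L).mul_mem ((S' : Subgroup ↥L).inv_mem hs) h1) hs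
      have e : s⁻¹ * (u * (n * a' * n⁻¹) * u⁻¹) * s = (d * n) * a' * (d * n)⁻¹ := by
        rw [← hsd]; group
      rwa [e] at h2
    have he : (d * n) * a' * (d * n)⁻¹ = x * a' * x⁻¹ := by
      refine hinj _ hh _ hxa ?_
      simp only [map_mul, map_inv, hnx, show q d = 1 from (QuotientGroup.eq_one_iff d).mpr hd, one_mul]
    rw [hx a ha]
    exact (congrArg Subtype.val he).symm
  have hcent : (S : Subgroup G) ⊓ centralizer (Q : Set G) ≤ Q := by
    intro s hs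
    obtain ⟨hsS, hsc⟩ := Subgroup.mem_inf.mp hs
    refine ⟨⟨s, hSK hsS⟩, Subgroup.mem_inf.mpr ⟨hsS, hcon (mem_centralizer_iff.mpr ?_)⟩, rfl⟩
    intro y hy
    rw [← hQq] at hy
    obtain ⟨t, ht, rfl⟩ := hy
    rw [← map_mul, ← map_mul,
      show t * ⟨s, hSK hsS⟩ = ⟨s, hSK hsS⟩ * t from
        Subtype.ext (mem_centralizer_iff.mp hsc (t : G) (mem_map_of_mem L.subtype ht))]
  refine ⟨Q, hQS, hSQ, hcent, fun X hXN hXn hQX hk => ?_, hfusion⟩
  obtain ⟨k, hk⟩ := hk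
  set QC := Q ⊔ centralizer (Q : Set G) with hQC
  have hQCn : normalizer (Q : Set G) ≤ normalizer (QC : Set G) :=
    fun n hn => cj_eq_iff.mp ((Subgroup.map_sup _ _ _).trans (congrArg₂ (· ⊔ ·) (cj_eq_iff.mpr hn)
      (cj_eq_iff.mpr (centralizer_normalized Q hn))))
  haveI hQCX : (QC.subgroupOf X).Normal :=
    normal_subgroupOf_of_le_normalizer (hXN.trans hQCn)
  set XL := X.subgroupOf L with hXL
  have hXLp : IsPGroup p ↥(XL.map q) := by
    rintro ⟨_, y, hy, rfl⟩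
    have h1 : (⟨(y : G), hy⟩ : ↥X) ^ (p ^ k) ∈ QC.subgroupOf X := by
      rw [← hk]; exact Subgroup.pow_index_mem _ _
    have h2 : (y : G) ^ (p ^ k) ∈ QC := h1
    rw [← SetLike.mem_coe, hQC, sup_comm, Subgroup.coe_mul_of_left_le_normalizer_right _ _
      (centralizer_le_normalizer (Q : Set G))] at h2
    obtain ⟨c, hc, a, ha, hca⟩ := h2
    change c * a = (y : G) ^ (p ^ k) at hca
    obtain ⟨a', ha', rfl⟩ := ha
    have hcL : c ∈ L := by
      have e : c = ((y ^ (p ^ k) * a'⁻¹ : ↥L) : G) := by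
        push_cast; rw [← hca]; simp
      rw [e]; exact SetLike.coe_mem _
    have hqc : q ⟨c, hcL⟩ ∈ P₀ := hcon (mem_centralizer_iff.mpr fun z hz => by
      rw [← hQq] at hz
      obtain ⟨t, ht, rfl⟩ := hz
      rw [← map_mul, ← map_mul, show t * ⟨c, hcL⟩ = ⟨c, hcL⟩ * t from
        Subtype.ext (mem_centralizer_iff.mp hc (t : G) (mem_map_of_mem L.subtype ht))])
    have hqa : q a' ∈ P₀ := hQq ▸ mem_map_of_mem q ha'
    have e : y ^ (p ^ k) = ⟨c, hcL⟩ * a' := Subtype.ext hca.symm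
    have hm : q (y ^ (p ^ k)) ∈ P₀ := by
      rw [e, map_mul]; exact P₀.mul_mem hqc hqa
    obtain ⟨j, hj⟩ := LocalEvenA.pCore_isPGroup' p (↥L ⧸ R) ⟨_, hm⟩
    refine ⟨k + j, Subtype.ext ?_⟩
    rw [SubgroupClass.coe_pow, OneMemClass.coe_one, pow_add, pow_mul, ← map_pow]
    exact congrArg Subtype.val hj
  have hXLn : (XL.map q).Normal := by
    refine ⟨fun z hz w => ?_⟩
    obtain ⟨y, hy, rfl⟩ := hz
    obtain ⟨w', rfl⟩ := QuotientGroup.mk'_surjective R w
    obtain ⟨n, hn, hne⟩ := hfrat w'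
    refine ⟨n * y * n⁻¹, ?_, by simp only [map_mul, map_inv, hne]; rfl⟩
    exact (mem_normalizer_iff.mp (hXn (le_normalizer_map L.subtype
      (mem_map_of_mem L.subtype hn))) (y : G)).mp hy
  have hXLP : XL.map q ≤ P₀ := LocalEvenA.le_pCore_of_normal hXLn hXLp
  have hUQ : (S : Subgroup G) ⊓ X ≤ Q := by
    intro s hs
    obtain ⟨hsS, hsX⟩ := Subgroup.mem_inf.mp hs
    exact ⟨⟨s, hSK hsS⟩,
      Subgroup.mem_inf.mpr ⟨hsS, hXLP (mem_map_of_mem q (show (⟨s, hSK hsS⟩ : ↥L) ∈ XL from hsX))⟩,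
      rfl⟩
  have hsyl : IsSylIn p ((S : Subgroup G) ⊓ X) X :=
    sylIn_inf (isSylIn_of_le (isSylIn_top S) hSQ le_top) hXN hXn
  refine le_antisymm (relIndex_eq_one.mp ?_) hQX
  refine Nat.eq_one_of_dvd_coprimes ((hp.out.coprime_iff_not_dvd.mpr hsyl.2.2).pow_left k) ?_ ?_
  · exact hk ▸ dvd_rfl
  · exact relIndex_dvd_of_le_left X (hUQ.trans le_sup_left)

end Cfsg.Agent.CentricRadical
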