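import Cfsg.Agent.Lib.ConjFunctor.Chief
import Mathlib.GroupTheory.Index
import Mathlib.Algebra.CharP.Lemmas

/-!
# Invariant alternating pairings on a single block

An element `β` of order dividing `p` with at most `p` fixed vectors, normalizing a `p'`-group `Q`
without fixed vectors on which it acts without fixed points: every alternating pairing invariant
under both is zero.
-/

set_option autoImplicit false
set_option linter.style.haveILetI false
set_option linter.unusedSectionVars false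
set_option linter.unusedVariables false

namespace Cfsg.Agent.Tech

open Finset

variable {M C : Type*} [AddCommGroup M] [Finite M] [AddCommGroup C] {p : ℕ} [hp : Fact p.Prime]
  {Q : Type*} [Group Q] [Finite Q]

theorem p_cast_eq_zero (hM : ∀ x : M, p • x = 0) : (p : AddMonoid.End M) = 0 := by
  ext x
  rw [AddMonoid.End.natCast_apply, hM]
  rfl

theorem end_mul_apply (a b : AddMonoid.End M) (x : M) : (a * b) x = a (b x) := rfl

theorem end_sum_apply {ι : Type*} (s : Finset ι) (g : ι → AddMonoid.End M) (x : M) :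
    (∑ i ∈ s, g i : AddMonoid.End M) x = ∑ i ∈ s, g i x :=
  AddMonoidHom.finsetSum_apply g s x

theorem delta_pow_eq_zero (hM : ∀ x : M, p • x = 0) (β : AddMonoid.End M) (hβ : β ^ p = 1) :
    (β - 1) ^ p = 0 := by
  rcases subsingleton_or_nontrivial (AddMonoid.End M) with hA | hA
  · exact Subsingleton.elim _ _
  haveI : CharP (AddMonoid.End M) p :=
    ringChar.of_eq (CharP.ringChar_of_prime_eq_zero hp.out (p_cast_eq_zero hM))
  rw [sub_pow_char_of_commute (p := p) (Commute.one_right β), one_pow, hβ, sub_self]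

variable (β : AddMonoid.End M) (ρ : Q →* AddMonoid.End M) (σ : Q → Q)

/-- On a nonzero invariant subgroup the top power of `β - 1` does not vanish. -/
theorem exists_top_ne_zero (hM : ∀ x : M, p • x = 0) (hβ : β ^ p = 1)
    (hQ : (Nat.card Q).Coprime p) (hσ : ∀ y, β * ρ y = ρ (σ y) * β)
    (hbij : ∀ i, 0 < i → i < p → Function.Bijective fun y => y⁻¹ * σ^[i] y)
    (hfix0 : ∀ x : M, (∀ y, ρ y x = x) → x = 0) (R : AddSubgroup M) (hRne : R ≠ ⊥)
    (hRρ : ∀ y, ∀ x ∈ R, ρ y x ∈ R) (hRβ : ∀ x ∈ R, β x ∈ R) :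
    ∃ x ∈ R, ((β - 1) ^ (p - 1)) x ≠ 0 := by
  classical
  haveI := Fintype.ofFinite Q
  obtain ⟨r, hr, hr0⟩ := (AddSubgroup.bot_or_exists_ne_zero R).resolve_left hRne
  have hδR : ∀ n : ℕ, ∀ x ∈ R, ((β - 1) ^ n) x ∈ R := by
    intro n
    induction n with
    | zero => exact fun x hx => hx
    | succ n ih =>
      intro x hx
      rw [pow_succ', end_mul_apply]
      exact sub_mem (hRβ _ (ih x hx)) (ih x hx)
  -- a nonzero fixed vector in `R`
  have hex : ∃ n : ℕ, ((β - 1) ^ n) r = 0 := ⟨p, by rw [delta_pow_eq_zero hM β hβ]; rfl⟩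
  obtain ⟨k, hk⟩ : ∃ k, Nat.find hex = k + 1 := by
    refine ⟨Nat.find hex - 1, (Nat.sub_add_cancel (Nat.one_le_iff_ne_zero.mpr fun h0 => hr0 ?_)).symm⟩
    have := Nat.find_spec hex
    rw [h0, pow_zero] at this
    exact this
  set u := ((β - 1) ^ k) r with hu
  have hu0 : u ≠ 0 := Nat.find_min hex (by omega)
  have hβu : β u = u := by
    have h1 := Nat.find_spec hex
    rw [hk, pow_succ', end_mul_apply] at h1
    exact sub_eq_zero.mp h1
  by_contra hcon
  push Not at hcon
  have hiter : ∀ (i : ℕ) (y : Q), β ^ i * ρ y = ρ (σ^[i] y) * β ^ i := by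
    intro i y
    induction i with
    | zero => simp
    | succ i ih =>
      rw [pow_succ', Function.iterate_succ_apply', mul_assoc, ih, ← mul_assoc, hσ, mul_assoc]
  have hu_iter : ∀ i : ℕ, (β ^ i) u = u := by
    intro i
    induction i with
    | zero => rfl
    | succ i ih => rw [pow_succ', end_mul_apply, ih, hβu]
  have hkey : ∀ y : Q, ∑ i ∈ range p, ρ (y⁻¹ * σ^[i] y) u = 0 := by
    intro y
    have h0 := hcon (ρ y u) (hRρ y u (hδR k r hr))
    rw [← ConjFunctor.sum_pow_add_one hp.out (p_cast_eq_zero hM), sub_add_cancel,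
      end_sum_apply] at h0
    have h1 : ∑ i ∈ range p, ρ (σ^[i] y) u = 0 := by
      refine Eq.trans (sum_congr rfl fun i _ => ?_) h0
      exact (show ρ (σ^[i] y) u = (β ^ i) (ρ y u) by
        rw [← end_mul_apply (β ^ i) (ρ y) u, hiter, end_mul_apply, hu_iter])
    have h2 := congrArg (ρ y⁻¹) h1
    rw [map_sum, map_zero] at h2
    refine Eq.trans (sum_congr rfl fun i _ => ?_) h2
    rw [map_mul, end_mul_apply]
  have hS : ∑ y : Q, ρ y u = 0 := hfix0 _ fun z => by
    rw [map_sum]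
    refine Eq.trans (sum_congr rfl fun y _ => ?_) (Equiv.sum_comp (Equiv.mulLeft z) fun y => ρ y u)
    rw [Equiv.coe_mulLeft, map_mul, end_mul_apply]
  have h3 : ∑ i ∈ range p, ∑ y : Q, ρ (y⁻¹ * σ^[i] y) u = 0 := by
    rw [sum_comm]
    exact sum_eq_zero fun y _ => hkey y
  rw [sum_eq_single 0 (fun i hi hi0 => by
    exact ((hbij i (Nat.pos_of_ne_zero hi0) (mem_range.mp hi)).sum_comp fun y => ρ y u).trans hS)
    (fun h => absurd (mem_range.mpr hp.out.pos) h)] at h3
  simp only [Function.iterate_zero, id_eq, inv_mul_cancel, map_one, AddMonoid.End.coe_one,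
    sum_const, card_univ, ← Nat.card_eq_fintype_card] at h3
  refine hu0 ?_
  have hadd : addOrderOf u ∣ p := addOrderOf_dvd_of_nsmul_eq_zero (hM u)
  have hadd' : addOrderOf u ∣ Nat.card Q := addOrderOf_dvd_of_nsmul_eq_zero h3
  exact AddMonoid.addOrderOf_eq_one_iff.mp (Nat.eq_one_of_dvd_coprimes hQ hadd' hadd)

/-- Nonzero invariant subgroups have order `p ^ p`. -/
theorem card_eq_pow_self (hM : ∀ x : M, p • x = 0) (hβ : β ^ p = 1)
    (hQ : (Nat.card Q).Coprime p) (hσ : ∀ y, β * ρ y = ρ (σ y) * β)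
    (hbij : ∀ i, 0 < i → i < p → Function.Bijective fun y => y⁻¹ * σ^[i] y)
    (hfix0 : ∀ x : M, (∀ y, ρ y x = x) → x = 0) (hker : Nat.card {x : M // β x = x} ≤ p)
    (R : AddSubgroup M) (hRne : R ≠ ⊥)
    (hRρ : ∀ y, ∀ x ∈ R, ρ y x ∈ R) (hRβ : ∀ x ∈ R, β x ∈ R) :
    Nat.card R = p ^ p ∧ Nat.card (R.map (β - 1)) * p = p ^ p := by
  obtain ⟨x₀, hx₀, htop⟩ := exists_top_ne_zero β ρ σ hM hβ hQ hσ hbij hfix0 R hRne hRρ hRβ
  have hδ := delta_pow_eq_zero hM β hβ
  set δ := β - 1
  let T : ℕ → AddSubgroup M := fun k => R.map (δ ^ k)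
  have hstep : ∀ k < p, Nat.card (T k) = p * Nat.card (T (k + 1)) := by
    intro k hk
    let f : T k →+ M := (δ : M →+ M).comp (T k).subtype
    have hrange : f.range = T (k + 1) := by
      ext z
      constructor
      · rintro ⟨⟨_, r, hr, rfl⟩, rfl⟩
        exact ⟨r, hr, DFunLike.congr_fun (pow_succ' δ k) r⟩
      · rintro ⟨r, hr, rfl⟩
        exact ⟨⟨_, r, hr, rfl⟩, (DFunLike.congr_fun (pow_succ' δ k) r).symm⟩
    have hle : Nat.card f.ker ≤ p := by
      refine le_trans (Nat.card_le_card_of_injective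
        (fun z => (⟨(z.1 : M), sub_eq_zero.mp z.2⟩ : {x : M // β x = x}))
        fun a b h => Subtype.ext (Subtype.ext (by simpa using congrArg Subtype.val h))) hker
    have hne : ∃ z : f.ker, z ≠ 0 := by
      -- the chain ends at a nonzero element
      refine ⟨⟨⟨(δ ^ (p - 1)) x₀, (δ ^ (p - 1 - k)) x₀, ?_, ?_⟩, ?_⟩, ?_⟩
      · generalize p - 1 - k = n
        induction n with
        | zero => exact hx₀
        | succ n ih =>
          rw [pow_succ', end_mul_apply]
          exact sub_mem (hRβ _ ih) ih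
      · exact (DFunLike.congr_fun (pow_add δ k (p - 1 - k)) x₀).symm.trans
          (by rw [show k + (p - 1 - k) = p - 1 by omega])
      · have h2 : δ * δ ^ (p - 1) = 0 := by
          rw [← pow_succ', Nat.sub_add_cancel hp.out.one_lt.le, hδ]
        exact DFunLike.congr_fun h2 x₀
      · exact fun h => htop (congrArg (fun z : f.ker => ((z : T k) : M)) h)
    obtain ⟨z, hz⟩ := hne
    have hdvd : p ∣ Nat.card f.ker := by
      have h1 : addOrderOf z = p := addOrderOf_eq_prime (Subtype.ext (Subtype.ext (hM _))) hz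
      exact h1 ▸ addOrderOf_dvd_natCard z
    have hcard : Nat.card f.ker = p := le_antisymm hle (Nat.le_of_dvd Nat.card_pos hdvd)
    rw [← f.ker.card_mul_index, AddSubgroup.index_ker, hrange, hcard]
  have hall : ∀ j, j ≤ p → Nat.card (T (p - j)) = p ^ j := by
    intro j
    induction j with
    | zero =>
      intro _
      rw [Nat.sub_zero, pow_zero, show T p = ⊥ from ?_, AddSubgroup.card_bot]
      rw [eq_bot_iff]
      rintro _ ⟨r, -, rfl⟩
      exact AddSubgroup.mem_bot.mpr (DFunLike.congr_fun hδ r)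
    | succ j ih =>
      intro hj
      rw [hstep _ (by omega), show p - (j + 1) + 1 = p - j by omega, ih (by omega), pow_succ']
  have h0 := hall p le_rfl
  have h1 := hstep 0 hp.out.pos
  have e0 : T 0 = R := by
    ext z
    exact ⟨fun ⟨r, hr, e⟩ => e ▸ hr, fun hz => ⟨z, hz, rfl⟩⟩
  have e1 : T 1 = R.map δ := congrArg (fun d : AddMonoid.End M => R.map d) (pow_one δ)
  rw [Nat.sub_self, e0] at h0
  rw [e0, zero_add, e1, h0, mul_comm] at h1
  exact ⟨h0, h1.symm⟩

/-- An invariant alternating pairing is zero. -/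
theorem pairing_eq_zero (hM : ∀ x : M, p • x = 0) (hC : ∀ c : C, c + c = 0 → c = 0)
    (hβ : β ^ p = 1) (hQ : (Nat.card Q).Coprime p) (hσ : ∀ y, β * ρ y = ρ (σ y) * β)
    (hbij : ∀ i, 0 < i → i < p → Function.Bijective fun y => y⁻¹ * σ^[i] y)
    (hfix0 : ∀ x : M, (∀ y, ρ y x = x) → x = 0) (hker : Nat.card {x : M // β x = x} ≤ p)
    (f : M →+ M →+ C) (halt : ∀ x, f x x = 0) (hfβ : ∀ x y, f (β x) (β y) = f x y)
    (hfρ : ∀ z x y, f (ρ z x) (ρ z y) = f x y) : f = 0 := by
  rcases subsingleton_or_nontrivial M with hM' | hM'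
  · ext x y
    rw [Subsingleton.elim x 0, map_zero]
    rfl
  have hkey := fun R h1 h2 h3 => card_eq_pow_self β ρ σ hM hβ hQ hσ hbij hfix0 hker R h1 h2 h3
  obtain ⟨v, -, hv⟩ := exists_top_ne_zero β ρ σ hM hβ hQ hσ hbij hfix0 ⊤
    (Ne.symm bot_ne_top) (fun _ _ _ => trivial) (fun _ _ => trivial)
  have hδ := delta_pow_eq_zero hM β hβ
  obtain ⟨hcM, hcδ⟩ := hkey ⊤ (Ne.symm bot_ne_top) (fun _ _ _ => trivial) (fun _ _ => trivial)
  rw [AddSubgroup.card_top] at hcM
  set δ := β - 1 with hδdef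
  set N := δ ^ (p - 1) with hN
  have hNδ : ∀ x, N (δ x) = 0 := fun x => by
    rw [hN, ← end_mul_apply, ← pow_succ,
      Nat.sub_add_cancel hp.out.one_lt.le, hδ]
    rfl
  have hβN : β * N = N := by
    have h1 : δ * N = 0 := by rw [hN, ← pow_succ', Nat.sub_add_cancel hp.out.one_lt.le, hδ]
    calc β * N = (δ + 1) * N := by rw [hδdef, sub_add_cancel]
      _ = N := by rw [add_mul, h1, one_mul, zero_add]
  have hfpow : ∀ (i : ℕ) (x y : M), f ((β ^ i) x) ((β ^ i) y) = f x y := by
    intro i x y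
    induction i with
    | zero => rfl
    | succ i ih => rw [pow_succ', end_mul_apply, end_mul_apply, hfβ, ih]
  have hNsum : N = ∑ i ∈ range p, β ^ i := by
    rw [hN, ← ConjFunctor.sum_pow_add_one hp.out (p_cast_eq_zero hM), hδdef, sub_add_cancel]
  have hadj : ∀ x y, f (N x) y = f x (N y) := by
    intro x y
    conv_rhs => rw [← hβN, hNsum, mul_sum, ← sum_range_reflect]
    rw [hNsum, end_sum_apply, map_sum, AddMonoidHom.finsetSum_apply, end_sum_apply, map_sum]
    refine sum_congr rfl fun i hi => ?_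
    have hip := mem_range.mp hi
    conv_rhs =>
      rw [← pow_succ', ← hfpow i, ← end_mul_apply,
        ← pow_add, show i + (p - 1 - i + 1) = p by omega, hβ, AddMonoid.End.coe_one, id_eq]
  have hanti : ∀ x y, f x y = - f y x := fun x y => by
    have h := halt (x + y)
    rw [map_add (f (x + y)), map_add f, AddMonoidHom.add_apply, AddMonoidHom.add_apply, halt, halt,
      zero_add, add_zero] at h
    exact eq_neg_of_add_eq_zero_right h
  have hdiag : ∀ x, f (N x) x = 0 := fun x => hC _ (by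
    nth_rewrite 1 [hadj]
    rw [hanti x (N x), neg_add_cancel])
  have hgen : ∀ T : AddSubgroup M, (∀ x, δ x ∈ T) → v ∈ T → T = ⊤ := by
    intro T hT hvT
    have hsub : (⊤ : AddSubgroup M).map δ ≤ T := by rintro _ ⟨x, -, rfl⟩; exact hT x
    have hvn : v ∉ (⊤ : AddSubgroup M).map δ := by
      rintro ⟨x, -, hx⟩
      exact hv (hx ▸ hNδ x)
    have hlt : (⊤ : AddSubgroup M).map δ < T :=
      lt_of_le_of_ne hsub fun e => hvn (e ▸ hvT)
    have h1 : Nat.card ((⊤ : AddSubgroup M).map δ) ∣ Nat.card T := AddSubgroup.card_dvd_of_le hsub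
    have h2 : Nat.card T ∣ p ^ p := hcM ▸ AddSubgroup.card_addSubgroup_dvd_card T
    obtain ⟨j, hj, hjT⟩ := (Nat.dvd_prime_pow hp.out).mp h2
    rcases eq_or_lt_of_le hj with rfl | hj'
    · exact AddSubgroup.eq_top_of_card_eq T (hjT.trans hcM.symm)
    exfalso
    refine hlt.ne (AddSubgroup.eq_of_le_of_card_ge hsub ?_)
    rw [hjT]
    refine Nat.le_of_mul_le_mul_right ?_ hp.out.pos
    refine le_of_le_of_eq ?_ hcδ.symm
    rw [← pow_succ]
    exact Nat.pow_le_pow_right hp.out.pos hj'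
  have hg : ∀ x y, f (N x) y = 0 := by
    have hv' : ∀ y, f (N v) y = 0 := by
      intro y
      have : (f (N v)).ker = ⊤ := hgen _ (fun x => by
        show f (N v) (δ x) = 0
        rw [hadj, hNδ, map_zero]) (hdiag v)
      exact (this.ge (trivial : y ∈ (⊤ : AddSubgroup M)) : _)
    intro x
    have : (f.comp N).ker = ⊤ := hgen _ (fun x => by
      show f (N (δ x)) = 0
      rw [hNδ, map_zero]) (AddMonoidHom.ext hv')
    intro y
    exact DFunLike.congr_fun (this.ge (trivial : x ∈ (⊤ : AddSubgroup M)) : _) y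
  have hsurj : ∀ (a : AddMonoid.End M), (∃ b, a * b = 1) → ∀ y, ∃ y', a y' = y := by
    rintro a ⟨b, hb⟩ y
    exact ⟨b y, by rw [← end_mul_apply, hb]; rfl⟩
  have hRne : f.ker ≠ ⊥ := fun h => hv (AddSubgroup.mem_bot.mp
    (h.le (show f (N v) = 0 from AddMonoidHom.ext (hg v))))
  obtain ⟨hcR, -⟩ := hkey f.ker hRne
    (fun z x hx => AddMonoidHom.ext fun y => by
      obtain ⟨y', rfl⟩ := hsurj (ρ z) ⟨ρ z⁻¹, by rw [← map_mul, mul_inv_cancel, map_one]⟩ y
      rw [hfρ, (hx : f x = 0)]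
      rfl)
    (fun x hx => AddMonoidHom.ext fun y => by
      obtain ⟨y', rfl⟩ := hsurj β ⟨β ^ (p - 1), by
        rw [← pow_succ', Nat.sub_add_cancel hp.out.one_lt.le, hβ]⟩ y
      rw [hfβ, (hx : f x = 0)]
      rfl)
  have htop : f.ker = ⊤ := AddSubgroup.eq_top_of_card_eq _ (hcR.trans hcM.symm)
  exact AddMonoidHom.ext fun x => htop.ge (trivial : x ∈ (⊤ : AddSubgroup M))

end Cfsg.Agent.Tech
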