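import Cfsg.Agent.Lib.Tech.NormalFourFree
import Cfsg.Agent.Lib.InvChar.Thompson

/-!
A four-group acting on a perfect group such that each of its involutions centralises no two commuting
involutions forces the perfect group to have 2-rank at most one.
-/

set_option autoImplicit false

namespace Cfsg.Agent.Tech.FourFree

open scoped Pointwise

variable {G : Type*} [Group G]

/-- The four-group generated by two commuting involutions. -/
def quad (a b : G) (ha : a * a = 1) (hb : b * b = 1) (hab : a * b = b * a) : Subgroup G where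
  carrier := {m | m = 1 ∨ m = a ∨ m = b ∨ m = a * b}
  one_mem' := Or.inl rfl
  mul_mem' := by
    have h1 : a * (a * b) = b := by rw [← mul_assoc, ha, one_mul]
    have h2 : b * (a * b) = a := by rw [hab, ← mul_assoc, hb, one_mul]
    have h3 : a * b * a = b := by rw [mul_assoc, ← hab, h1]
    have h4 : a * b * b = a := by rw [mul_assoc, hb, mul_one]
    have h5 : a * b * (a * b) = 1 := by rw [← mul_assoc, h3, hb]
    rintro u v (rfl | rfl | rfl | rfl) (rfl | rfl | rfl | rfl) <;>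
      simp [ha, hb, h1, h2, h3, h4, h5, ← hab]
  inv_mem' := by
    rintro u (rfl | rfl | rfl | rfl)
    · simp
    · exact Or.inr (Or.inl (inv_eq_of_mul_eq_one_left ha))
    · exact Or.inr (Or.inr (Or.inl (inv_eq_of_mul_eq_one_left hb)))
    · refine Or.inr (Or.inr (Or.inr (inv_eq_of_mul_eq_one_left ?_)))
      rw [mul_assoc, ← mul_assoc b, ← hab, mul_assoc, hb, mul_one, ha]

theorem quad_isPGroup (a b : G) (ha : a * a = 1) (hb : b * b = 1) (hab : a * b = b * a) :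
    IsPGroup 2 (quad a b ha hb hab) := by
  intro m
  refine ⟨1, Subtype.ext ?_⟩
  rw [pow_one, SubmonoidClass.coe_pow, pow_two, OneMemClass.coe_one]
  rcases m.2 with e | e | e | e <;> rw [e]
  · rw [mul_one]
  · exact ha
  · exact hb
  · rw [mul_assoc, ← mul_assoc b, ← hab, mul_assoc, hb, mul_one, ha]

theorem sylow_conj [Finite G] (H : Subgroup G) (S : Sylow 2 ↥H) (T : Subgroup G) (hTH : T ≤ H) (hT : IsPGroup 2 T) :
    ∃ h ∈ H, ∀ t ∈ T, h * t * h⁻¹ ∈ (S : Subgroup ↥H).map H.subtype := by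
  haveI : Fact (Nat.Prime 2) := ⟨Nat.prime_two⟩
  obtain ⟨Q, hQ⟩ := (hT.of_equiv (Subgroup.subgroupOfEquivOfLe hTH).symm).exists_le_sylow
  obtain ⟨g, hg⟩ := MulAction.exists_smul_eq (↥H) Q S
  refine ⟨g, g.2, fun t ht => ?_⟩
  refine ⟨g * ⟨t, hTH ht⟩ * g⁻¹, ?_, rfl⟩
  rw [← hg]
  exact ⟨⟨t, hTH ht⟩, hQ ht, rfl⟩

theorem isPGroup_zpowers_of_mem {P : Subgroup G} (hP : IsPGroup 2 P) {m : G} (hm : m ∈ P) :
    IsPGroup 2 (Subgroup.zpowers m) := hP.to_le (Subgroup.zpowers_le.2 hm)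

theorem no_index_two (A : Subgroup G) (hA : Group.IsPerfect A) : ∀ H : Subgroup ↥A, H.Normal → H.index ≠ 2 := by
  intro H _ hH
  have h : (⊤ : Subgroup ↥A) ≤ H := by
    intro a _
    by_contra ha
    have h1 : a ∈ (InvChar.indexTwoSign H hH).ker :=
      Abelianization.commutator_subset_ker _ (by rw [hA.commutator_eq_top]; trivial)
    rw [MonoidHom.mem_ker, InvChar.indexTwoSign_apply_of_notMem H hH ha] at h1
    exact absurd h1 (by decide)
  rw [top_le_iff.1 h, Subgroup.index_top] at hH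
  exact absurd hH (by norm_num)

variable [Finite G]

/-- The key case: `S` dihedral or semidihedral. -/
theorem false_of_struct (A : Subgroup G) (hAp : Group.IsPerfect A) (S0 : Sylow 2 ↥A) {S : Subgroup G}
    (hS0 : (S0 : Subgroup ↥A).map A.subtype = S) {X : Subgroup G} (D : Big G X) (hXS : X ≤ S)
    (hXn : ∀ g ∈ S, ∀ m ∈ X, g * m * g⁻¹ ∈ X) (hpair : ∀ a ∈ S, ∀ b ∈ S, a ∉ X → b ∉ X → a * b ∈ X)
    (hout : ∀ a ∈ S, a ∉ X → a * a = 1 → a * D.q * a⁻¹ ≠ D.q)
    (y : G) (hy : y ∈ S) (hyX : y ∉ X) (hy2 : y * y = 1)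
    (U : Subgroup G) (hUS : ∀ u ∈ U, ∀ s ∈ S, u * s * u⁻¹ ∈ S) (hUX : ∀ u ∈ U, ∀ m ∈ X, u * m * u⁻¹ ∈ X)
    (hUA : U ≤ Subgroup.normalizer (A : Set G)) (u₁ u₂ : G) (hu₁ : u₁ ∈ U) (hu₂ : u₂ ∈ U) (hu₁1 : u₁ ≠ 1)
    (hu₂1 : u₂ ≠ 1) (hu12 : u₁ * u₂ ≠ 1) (hUexp : ∀ u ∈ U, u * u = 1)
    (hF : ∀ u ∈ U, u ≠ 1 → ∀ a ∈ S, a * a = 1 → a ≠ 1 → u * a * u⁻¹ = a → a ∈ X) : False := by
  have hSA : S ≤ A := hS0 ▸ Subgroup.map_subtype_le _
  have hyi : y⁻¹ = y := inv_eq_of_mul_eq_one_left hy2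
  have hzS : D.z ∈ S := hXS D.z_mem
  have hzS' : ∀ s ∈ S, s * D.z = D.z * s := fun s hs => mul_inv_eq_iff_eq_mul.1 (D.z_fixed (hXn s hs))
  have hzy : D.z * y = y * D.z := (hzS' y hy).symm
  -- fixed points in `X` of an outside involution
  have hfixX : ∀ a ∈ S, a ∉ X → a * a = 1 → ∀ m ∈ X, a * m * a⁻¹ = m → m = 1 ∨ m = D.z := by
    intro a ha haX ha2 m hm hfm
    refine D.two_cases hm ?_
    by_contra h
    obtain ⟨k, hk⟩ := D.exists_pow_four hm h
    have h' : a * m ^ k * a⁻¹ = m ^ k := by rw [← conj_pow, hfm]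
    apply hout a ha haX ha2
    rcases hk with e | e <;> rw [e] at h'
    · exact h'
    · rw [← conj_inv, inv_inj] at h'; exact h'
  have hcentS : ∀ a ∈ S, a ∉ X → a * a = 1 → ∀ s ∈ S, s * a = a * s → s = 1 ∨ s = D.z ∨ s = a ∨ s = D.z * a := by
    intro a ha haX ha2 s hs hsa
    have hai : a⁻¹ = a := inv_eq_of_mul_eq_one_left ha2
    by_cases hsX : s ∈ X
    · rcases hfixX a ha haX ha2 s hsX (mul_inv_eq_iff_eq_mul.2 hsa.symm) with e | e
      · exact Or.inl e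
      · exact Or.inr (Or.inl e)
    · have h1 : s * a ∈ X := hpair s hs a ha hsX haX
      rcases hfixX a ha haX ha2 _ h1 (by rw [← mul_assoc a s a, mul_inv_cancel_right, hsa]) with e | e
      · exact Or.inr (Or.inr (Or.inl ((mul_eq_one_iff_eq_inv.1 e).trans hai)))
      · exact Or.inr (Or.inr (Or.inr (by rw [← e, mul_assoc, ha2, mul_one])))
  have hcent2 : ∀ a ∈ S, ∀ b ∈ S, a * a = 1 → b * b = 1 → a ≠ 1 → b ≠ 1 → a ≠ b → a * b = b * a → ∀ s ∈ S,
      s * a = a * s → s * b = b * s → s = 1 ∨ s = a ∨ s = b ∨ s = a * b := by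
    intro a ha b hb ha2 hb2 ha1 hb1 hab hcomm s hs hsa hsb
    by_cases haX : a ∈ X
    · have haz := (D.two_cases haX ha2).resolve_left ha1
      subst haz
      have hbX : b ∉ X := fun h => hab ((D.two_cases h hb2).resolve_left hb1).symm
      rcases hcentS b hb hbX hb2 s hs hsb with e | e | e | e <;> simp [e]
    · rcases hcentS a ha haX ha2 b hb hcomm.symm with e | e | e | e
      · exact absurd e hb1
      · subst e
        rcases hcentS a ha haX ha2 s hs hsa with e | e | e | e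
        · simp [e]
        · simp [e]
        · simp [e]
        · exact Or.inr (Or.inr (Or.inr (e.trans hcomm.symm)))
      · exact absurd e.symm hab
      · have hab' : a * b = D.z := by rw [hcomm, e, mul_assoc, ha2, mul_one]
        rcases hcentS a ha haX ha2 s hs hsa with e' | e' | e' | e'
        · simp [e']
        · exact Or.inr (Or.inr (Or.inr (e'.trans hab'.symm)))
        · simp [e']
        · exact Or.inr (Or.inr (Or.inl (e'.trans e.symm)))
  -- a 2-element of `A` centralising two commuting involutions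
  have hcentA : ∀ a ∈ A, ∀ b ∈ A, a * a = 1 → b * b = 1 → a ≠ 1 → b ≠ 1 → a ≠ b → a * b = b * a →
      ∀ T : Subgroup G, IsPGroup 2 T → T ≤ A → a ∈ T → b ∈ T → ∀ t ∈ T, t * a = a * t → t * b = b * t →
      t = 1 ∨ t = a ∨ t = b ∨ t = a * b := by
    intro a _ b _ ha2 hb2 ha1 hb1 hab hcomm T hT hTA haT hbT t htT hta htb
    obtain ⟨h, -, hh⟩ := sylow_conj A S0 T hTA hT
    rw [hS0] at hh
    let c : G →* G := (MulAut.conj h).toMonoidHom
    have hc : Function.Injective c := (MulAut.conj h).injective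
    have hne : ∀ {m : G}, m ≠ 1 → c m ≠ 1 := fun hm e => hm (hc (e.trans (map_one c).symm))
    rcases hcent2 (c a) (hh a haT) (c b) (hh b hbT) (by rw [← map_mul, ha2, map_one]) (by rw [← map_mul, hb2, map_one])
      (hne ha1) (hne hb1) (fun e => hab (hc e)) (by rw [← map_mul, ← map_mul, hcomm]) (c t) (hh t htT)
      (by rw [← map_mul, ← map_mul, hta]) (by rw [← map_mul, ← map_mul, htb]) with e | e | e | e
    · exact Or.inl (hc (e.trans (map_one c).symm))
    · exact Or.inr (Or.inl (hc e))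
    · exact Or.inr (Or.inr (Or.inl (hc e)))
    · exact Or.inr (Or.inr (Or.inr (hc (e.trans (map_mul c a b).symm))))
  -- fusion by transfer
  obtain ⟨g, hgA, hg⟩ : ∃ g ∈ A, g⁻¹ * y * g = D.z := by
    have hyA := hSA hy
    have hord : orderOf (⟨y, hyA⟩ : ↥A) = 2 ^ 1 := by
      rw [pow_one]
      refine orderOf_eq_prime (by rw [pow_two]; exact Subtype.ext hy2) fun e => hyX ?_
      have h1 : y = 1 := congrArg Subtype.val e
      rw [h1]; exact one_mem X
    have hmemS : ∀ s : ↥A, s ∈ (S0 : Subgroup ↥A) ↔ (s : G) ∈ S := by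
      intro s
      rw [← hS0, Subgroup.mem_map]
      exact ⟨fun h => ⟨s, h, rfl⟩, fun ⟨t, ht, e⟩ => Subtype.ext e ▸ ht⟩
    obtain ⟨g, hgM, -⟩ := InvChar.thompson_transfer (no_index_two A hAp) S0 (X.subgroupOf A)
      (fun s hs => (hmemS s).2 (hXS hs)) (by
        refine Subgroup.index_eq_two_iff'.2 ⟨⟨⟨y, hyA⟩, (hmemS _).2 hy⟩, fun b => ?_⟩
        have hb : ((b : ↥A) : G) ∈ S := (hmemS _).1 b.2
        simp only [Subgroup.mem_subgroupOf, Subgroup.coe_mul]
        by_cases h : ((b : ↥A) : G) ∈ X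
        · exact Or.inr ⟨h, fun h' => hyX (by have := mul_mem h' (inv_mem h); rwa [mul_inv_cancel_right] at this)⟩
        · exact Or.inl ⟨hpair y hy _ hb hyX h, h⟩)
      1 (fun s _ hsM => by
        have h0 : s ≠ 1 := fun e => hsM (e ▸ one_mem _)
        have h1 : orderOf s ≠ 1 := fun e => h0 (orderOf_eq_one_iff.1 e)
        have h2 := orderOf_pos s
        omega)
      ⟨y, hyA⟩ hord ⊥ IsPGroup.of_bot (fun r hr => by rw [Subgroup.mem_bot.1 hr, one_mul, mul_one])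
    refine ⟨g, g.2, (D.two_cases hgM ?_).resolve_left fun e => ?_⟩
    · show (g : G)⁻¹ * y * g * ((g : G)⁻¹ * y * g) = 1
      calc _ = (g : G)⁻¹ * (y * y) * g := by group
        _ = 1 := by rw [hy2]; group
    · apply hyX
      have : y = 1 := by
        have e' : (g : G)⁻¹ * y * g = 1 := e
        calc y = (g : G) * ((g : G)⁻¹ * y * g) * (g : G)⁻¹ := by group
          _ = 1 := by rw [e']; group
      rw [this]; exact one_mem _
  -- the four group
  set E := quad D.z y D.z_sq hy2 hzy with hE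
  have hEA : E ≤ A := by
    intro m hm
    rcases hm with e | e | e | e <;> rw [e]
    exacts [one_mem A, hSA hzS, hSA hy, mul_mem (hSA hzS) (hSA hy)]
  have hzE : D.z ∈ E := Or.inr (Or.inl rfl)
  have hyE : y ∈ E := Or.inr (Or.inr (Or.inl rfl))
  have hzy1 : D.z ≠ y := fun e => hyX (e ▸ D.z_mem)
  -- an element of `A` moving `z` inside `E`
  obtain ⟨t, htA, hty, htz⟩ : ∃ t ∈ A, t * y * t⁻¹ = y ∧ t * D.z * t⁻¹ = D.z * y := by
    set C := A ⊓ Subgroup.centralizer ({y} : Set G) with hC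
    have hEC : E ≤ C := fun m hm => ⟨hEA hm, Subgroup.mem_centralizer_singleton_iff.2 (by
      rcases hm with e | e | e | e <;> rw [e]
      · simp
      · exact hzy
      · rw [mul_assoc, hy2, mul_one, ← mul_assoc, ← hzy, mul_assoc, hy2, mul_one])⟩
    haveI : Fact (Nat.Prime 2) := ⟨Nat.prime_two⟩
    obtain ⟨T, hT⟩ := ((quad_isPGroup D.z y D.z_sq hy2 hzy).of_equiv (Subgroup.subgroupOfEquivOfLe hEC).symm).exists_le_sylow
    set T' := (T : Subgroup ↥C).map C.subtype with hT'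
    have hT'p : IsPGroup 2 T' := T.2.map _
    have hET : E ≤ T' := fun m hm => ⟨⟨m, hEC hm⟩, hT hm, rfl⟩
    have hT'C : T' ≤ C := Subgroup.map_subtype_le _
    have hlt : E < T' := by
      refine lt_of_le_of_ne hET fun he => ?_
      -- a conjugate of `S` is larger
      let S' := S.map (MulAut.conj g).toMonoidHom
      have hS'p : IsPGroup 2 S' := (hS0 ▸ S0.2.map A.subtype : IsPGroup 2 S).map _
      have hS'C : S' ≤ C := by
        rintro _ ⟨s, hs, rfl⟩
        refine Subgroup.mem_inf.2 ⟨mul_mem (mul_mem hgA (hSA hs)) (inv_mem hgA), Subgroup.mem_centralizer_singleton_iff.2 ?_⟩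
        show g * s * g⁻¹ * y = y * (g * s * g⁻¹)
        calc g * s * g⁻¹ * y = g * (s * (g⁻¹ * y * g)) * g⁻¹ := by group
          _ = g * ((g⁻¹ * y * g) * s) * g⁻¹ := by rw [hg, hzS' s hs]
          _ = _ := by group
      obtain ⟨c, -, hc⟩ := sylow_conj C T S' hS'C hS'p
      rw [← hT', ← he] at hc
      let ψ : G →* G := (MulAut.conj (c * g)).toMonoidHom
      have hψ : Function.Injective ψ := (MulAut.conj (c * g)).injective
      have hψE : ∀ s ∈ S, ψ s ∈ E := fun s hs => by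
        have := hc _ (Subgroup.mem_map_of_mem _ hs)
        show c * g * s * (c * g)⁻¹ ∈ E
        simp only [MulEquiv.coe_toMonoidHom, MulAut.conj_apply] at this
        rwa [mul_inv_rev, show c * g * s * (g⁻¹ * c⁻¹) = c * (g * s * g⁻¹) * c⁻¹ by group]
      have hqq := hψE D.q (hXS D.q_mem)
      apply D.z_ne
      refine hψ ?_
      rw [← D.q_sq, map_mul, map_one]
      have h4 : ∀ m ∈ E, m * m = 1 := fun m hm => by
        rcases hm with e | e | e | e <;> rw [e]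
        · rw [mul_one]
        · exact D.z_sq
        · exact hy2
        · rw [mul_assoc, ← mul_assoc y, ← hzy, mul_assoc, hy2, mul_one, D.z_sq]
      exact h4 _ hqq
    -- the normaliser condition
    haveI : Group.IsNilpotent T' := hT'p.isNilpotent
    have hlt' : E.subgroupOf T' < ⊤ := lt_top_iff_ne_top.2 fun e => hlt.not_ge (Subgroup.subgroupOf_eq_top.1 e)
    obtain ⟨t', htN, htE⟩ := SetLike.exists_of_lt (normalizerCondition_of_isNilpotent _ hlt')
    rw [Subgroup.mem_normalizer_iff] at htN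
    have hzy' := (htN ⟨D.z, hET hzE⟩).1 hzE
    have htC := hT'C t'.2
    have hty : (t' : G) * y = y * t' := Subgroup.mem_centralizer_singleton_iff.1 htC.2
    refine ⟨t', htC.1, mul_inv_eq_iff_eq_mul.2 hty, ?_⟩
    have hzy'' : (t' : G) * D.z * (t' : G)⁻¹ ∈ E := hzy'
    rcases hzy'' with e | e | e | e
    · exact absurd (conj_eq_one_iff.1 e) D.z_ne
    · exfalso
      refine htE (Subgroup.mem_subgroupOf.2 ?_)
      exact hcentA D.z (hEA hzE) y (hEA hyE) D.z_sq hy2 D.z_ne (fun e => hyX (e ▸ one_mem X)) hzy1 hzy T' hT'p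
        (hT'C.trans inf_le_left) (hET hzE) (hET hyE) t' t'.2 (mul_inv_eq_iff_eq_mul.1 e) hty
    · exfalso
      apply hzy1
      calc D.z = (t' : G)⁻¹ * ((t' : G) * D.z * (t' : G)⁻¹) * t' := by group
        _ = (t' : G)⁻¹ * (y * t') := by rw [e]; group
        _ = y := by rw [← hty]; group
    · exact e
  -- the map `δ`
  let δ : G → G := fun m => m * (y * m * y⁻¹)
  have hδdef : ∀ m, δ m = m * (y * m * y⁻¹) := fun _ => rfl
  have hconjX : ∀ m ∈ X, y * m * y⁻¹ ∈ X := hXn y hy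
  have hδX : ∀ m ∈ X, δ m = 1 ∨ δ m = D.z := by
    intro m hm
    refine hfixX y hy hyX hy2 _ (mul_mem hm (hconjX m hm)) ?_
    rw [hδdef, ← conj_mul, hyi, show y * (y * m * y) * y = (y * y) * m * (y * y) by group, hy2, one_mul, mul_one]
    exact D.comm (by have := hconjX m hm; rwa [hyi] at this) hm
  have hδmul : ∀ m ∈ X, ∀ n ∈ X, δ (m * n) = δ m * δ n := by
    intro m hm n hn
    rw [hδdef, hδdef, hδdef, ← conj_mul, mul_assoc m n, ← mul_assoc n, D.comm hn (hconjX m hm), mul_assoc (y * m * y⁻¹) n,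
      ← mul_assoc m]
  have hconjm : ∀ m ∈ X, y * m * y⁻¹ = m⁻¹ * δ m := fun m _ => by rw [hδdef, inv_mul_cancel_left]
  have hδsq : ∀ r ∈ X, δ (r * r) = 1 := fun r hr => by
    rw [hδmul r hr r hr]
    rcases hδX r hr with e | e <;> rw [e]
    · rw [mul_one]
    · exact D.z_sq
  have hδq : δ D.q = 1 := by
    rw [hδdef, (D.q_moved hconjX).resolve_left (hout y hy hyX hy2), mul_inv_cancel]
  have hxX : D.x ∈ X := (SetLike.ext_iff.1 D.hX _).2 (Subgroup.mem_zpowers _)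
  -- squares
  let Sq : G → Prop := fun m => ∃ r ∈ X, m = r * r
  have hsplit : ∀ m ∈ X, Sq m ∨ ∃ r ∈ X, m = D.x * (r * r) := by
    intro m hm
    obtain ⟨k, rfl⟩ := D.eq_zpow hm
    rcases Int.even_or_odd k with ⟨l, rfl⟩ | ⟨l, rfl⟩
    · exact Or.inl ⟨_, zpow_mem hxX l, zpow_add _ _ _⟩
    · exact Or.inr ⟨_, zpow_mem hxX l, by rw [← zpow_add, ← zpow_one_add]; congr 1; ring⟩
  have hδxz : ∀ m ∈ X, δ m = D.z → δ D.x = D.z := by
    intro m hm h
    refine (hδX _ hxX).resolve_left fun e => D.z_ne ?_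
    rcases hsplit m hm with ⟨r, hr, rfl⟩ | ⟨r, hr, rfl⟩
    · rw [hδsq r hr] at h; exact h.symm
    · rw [hδmul _ hxX _ (mul_mem hr hr), e, hδsq r hr, one_mul] at h; exact h.symm
  have hsqz : δ D.x = D.z → ∀ m ∈ X, δ m = 1 → Sq m := by
    intro he m hm h
    refine (hsplit m hm).resolve_right ?_
    rintro ⟨r, hr, rfl⟩
    rw [hδmul _ hxX _ (mul_mem hr hr), he, hδsq r hr, mul_one] at h
    exact D.z_ne h
  have hXi : ∀ u ∈ U, ∀ m ∈ X, Sq m → Sq (u * m * u⁻¹) := by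
    rintro u hu m _ ⟨r, hr, rfl⟩
    exact ⟨_, hUX u hu r hr, by rw [conj_mul]⟩
  have hns : ∀ m ∈ X, ∀ n ∈ X, ¬ Sq m → ¬ Sq n → Sq (m * n) := by
    intro m hm n hn h1 h2
    obtain ⟨r, hr, rfl⟩ := (hsplit m hm).resolve_left h1
    obtain ⟨s, hs, rfl⟩ := (hsplit n hn).resolve_left h2
    refine ⟨D.x * r * s, mul_mem (mul_mem hxX hr) hs, ?_⟩
    obtain ⟨i, rfl⟩ := D.eq_zpow hr
    obtain ⟨j, rfl⟩ := D.eq_zpow hs
    group
  -- the correction `b`
  let b : G → G := fun u => u * y * u⁻¹ * y⁻¹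
  have hbdef : ∀ u, b u = u * y * u⁻¹ * y⁻¹ := fun _ => rfl
  have huyX : ∀ u ∈ U, u * y * u⁻¹ ∉ X := fun u hu h => hyX (by
    have := hUX u⁻¹ (inv_mem hu) _ h
    rwa [show u⁻¹ * (u * y * u⁻¹) * u⁻¹⁻¹ = y by group] at this)
  have hbX : ∀ u ∈ U, b u ∈ X := fun u hu => by
    rw [hbdef, hyi]
    exact hpair _ (hUS u hu y hy) y hy (huyX u hu) hyX
  have hby : ∀ u, u * y * u⁻¹ = b u * y := fun u => by rw [hbdef, inv_mul_cancel_right]
  have hbδ : ∀ u ∈ U, δ (b u) = 1 := by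
    intro u hu
    rw [hδdef, hyi]
    calc b u * (y * b u * y) = (u * y * u⁻¹) * (u * y * u⁻¹) := by rw [hby u]; group
      _ = 1 := by rw [conj_mul, hy2, mul_one, mul_inv_cancel]
  obtain ⟨u, hu, hu1, hub, hux⟩ : ∃ u ∈ U, u ≠ 1 ∧ Sq (b u) ∧ (δ D.x = 1 ∨ u * D.x * u⁻¹ ≠ D.x⁻¹) := by
    have hxx : D.x ≠ D.x⁻¹ := fun e => by
      have h2 : D.x ^ 2 = 1 := by rw [pow_two]; nth_rewrite 2 [e]; rw [mul_inv_cancel]
      have := orderOf_dvd_of_pow_eq_one h2
      rw [D.ord, show (2 : ℕ) = 2 ^ 1 from rfl, ← pow_mul, one_mul] at this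
      exact absurd ((Nat.pow_dvd_pow_iff_le_right (by norm_num)).1 this) (by omega)
    by_cases hdx : δ D.x = 1
    · by_cases h1 : Sq (b u₁)
      · exact ⟨u₁, hu₁, hu₁1, h1, Or.inl hdx⟩
      by_cases h2 : Sq (b u₂)
      · exact ⟨u₂, hu₂, hu₂1, h2, Or.inl hdx⟩
      refine ⟨u₁ * u₂, mul_mem hu₁ hu₂, hu12, ?_, Or.inl hdx⟩
      have e : b (u₁ * u₂) = (u₁ * b u₂ * u₁⁻¹) * b u₁ := by rw [hbdef, hbdef, hbdef]; group
      rw [e]
      refine hns _ (hUX u₁ hu₁ _ (hbX u₂ hu₂)) _ (hbX u₁ hu₁) (fun h => h2 ?_) h1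
      have := hXi u₁⁻¹ (inv_mem hu₁) _ (hUX u₁ hu₁ _ (hbX u₂ hu₂)) h
      rwa [show u₁⁻¹ * (u₁ * b u₂ * u₁⁻¹) * u₁⁻¹⁻¹ = b u₂ by group] at this
    · have hdz := (hδX _ hxX).resolve_left hdx
      have hall : ∀ u ∈ U, Sq (b u) := fun u hu => hsqz hdz _ (hbX u hu) (hbδ u hu)
      by_cases h1 : u₁ * D.x * u₁⁻¹ = D.x⁻¹
      swap
      · exact ⟨u₁, hu₁, hu₁1, hall u₁ hu₁, Or.inr h1⟩
      by_cases h2 : u₂ * D.x * u₂⁻¹ = D.x⁻¹
      swap
      · exact ⟨u₂, hu₂, hu₂1, hall u₂ hu₂, Or.inr h2⟩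
      refine ⟨u₁ * u₂, mul_mem hu₁ hu₂, hu12, hall _ (mul_mem hu₁ hu₂), Or.inr ?_⟩
      rw [show u₁ * u₂ * D.x * (u₁ * u₂)⁻¹ = u₁ * (u₂ * D.x * u₂⁻¹) * u₁⁻¹ by group, h2, ← conj_inv, h1, inv_inv]
      exact hxx
  have hu2 : u * u = 1 := hUexp u hu
  have huu : u⁻¹ = u := inv_eq_of_mul_eq_one_left hu2
  obtain ⟨r, hr, hbr⟩ := hub
  obtain ⟨p, hp, hpb⟩ : ∃ p ∈ X, p * p * δ p * b u = 1 := by
    have hδi : δ r⁻¹ = δ r := by
      have h1 := hδmul r hr r⁻¹ (inv_mem hr)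
      rw [mul_inv_cancel, show δ 1 = 1 by simp [hδdef]] at h1
      rcases hδX r hr with e | e <;> rw [e] at h1 ⊢
      · rw [one_mul] at h1; exact h1.symm
      · rw [← D.z_sq] at h1; exact (mul_left_cancel h1).symm
    rcases hδX r hr with e | e
    · exact ⟨r⁻¹, inv_mem hr, by rw [hδi, e, mul_one, hbr]; group⟩
    · refine ⟨r⁻¹ * D.q, mul_mem (inv_mem hr) D.q_mem, ?_⟩
      have hc := D.comm D.q_mem (inv_mem hr)
      rw [hδmul _ (inv_mem hr) _ D.q_mem, hδi, e, hδq, mul_one, hbr]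
      calc r⁻¹ * D.q * (r⁻¹ * D.q) * D.z * (r * r) = r⁻¹ * (D.q * r⁻¹) * D.q * D.z * (r * r) := by group
        _ = r⁻¹ * r⁻¹ * ((D.q * D.q) * D.z) * (r * r) := by rw [hc]; group
        _ = 1 := by rw [D.q_sq, D.z_sq]; group
  set w := p * u with hw
  have hwy : w * y * w⁻¹ = y := by
    have h1 : y * p⁻¹ * y⁻¹ = p * δ p := by
      rw [← conj_inv, hconjm p hp, mul_inv_rev, inv_inv]
      rcases hδX p hp with e | e <;> rw [e]
      · rw [inv_one, one_mul, mul_one]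
      · rw [inv_eq_of_mul_eq_one_left D.z_sq]; exact D.comm D.z_mem hp
    calc w * y * w⁻¹ = p * (u * y * u⁻¹) * p⁻¹ := by rw [hw]; group
      _ = p * b u * (y * p⁻¹ * y⁻¹) * y := by rw [hby u]; group
      _ = (p * p * δ p * b u) * y := by
        have hm : p * δ p ∈ X := mul_mem hp (by
          rcases hδX p hp with e | e <;> rw [e]
          exacts [one_mem X, D.z_mem])
        rw [h1, show p * b u * (p * δ p) = p * p * δ p * b u by
          rw [mul_assoc p (b u), D.comm (hbX u hu) hm, ← mul_assoc p, ← mul_assoc p]]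
      _ = y := by rw [hpb, one_mul]
  have hwz : w * D.z * w⁻¹ = D.z := by
    calc w * D.z * w⁻¹ = p * (u * D.z * u⁻¹) * p⁻¹ := by rw [hw]; group
      _ = D.z := by rw [D.z_fixed (hUX u hu), D.comm hp D.z_mem, mul_inv_cancel_right]
  have hww : w * w = p * (u * p * u⁻¹) := by rw [hw, huu]; group
  have hw2 : w * w = D.z := by
    refine (hfixX y hy hyX hy2 (w * w) (hww ▸ mul_mem hp (hUX u hu p hp)) ?_).resolve_left fun h => ?_
    · have h1 : Commute y w := (mul_inv_eq_iff_eq_mul.1 hwy).symm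
      exact mul_inv_eq_iff_eq_mul.2 (h1.mul_right h1).eq
    have hup : u * p * u⁻¹ = p⁻¹ := eq_inv_of_mul_eq_one_right (hww.symm.trans h)
    rcases hδX p hp with e | e
    · -- a fixed involution
      have hb' : b u = p⁻¹ * p⁻¹ := by
        rw [e, mul_one] at hpb
        rw [eq_inv_of_mul_eq_one_right hpb, mul_inv_rev]
      have hy'S : p⁻¹ * y ∈ S := mul_mem (inv_mem (hXS hp)) hy
      have hy'X : p⁻¹ * y ∉ X := fun h => hyX (by
        have := mul_mem hp h; rwa [mul_inv_cancel_left] at this)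
      have hfix : u * (p⁻¹ * y) * u⁻¹ = p⁻¹ * y := by
        calc u * (p⁻¹ * y) * u⁻¹ = (u * p * u⁻¹)⁻¹ * (u * y * u⁻¹) := by group
          _ = p * (p⁻¹ * p⁻¹ * y) := by rw [hup, inv_inv, hby u, hb']
          _ = p⁻¹ * y := by group
      refine hy'X (hF u hu hu1 _ hy'S ?_ (fun e' => hy'X (e' ▸ one_mem X)) hfix)
      have h2 : y * p⁻¹ * y⁻¹ = p := by rw [← conj_inv, hconjm p hp, e, mul_one, inv_inv]
      calc p⁻¹ * y * (p⁻¹ * y) = p⁻¹ * (y * p⁻¹ * y⁻¹) * (y * y) := by group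
        _ = 1 := by rw [h2, hy2]; group
    · have hxe := hδxz p hp e
      refine (hux.resolve_left (fun e' => D.z_ne (hxe.symm.trans e'))) ?_
      obtain ⟨k, hk⟩ := D.eq_zpow hp
      have hkodd : ¬ (2 : ℤ) ∣ k := by
        rintro ⟨l, rfl⟩
        apply D.z_ne
        rw [← e, hk, two_mul, zpow_add]
        exact hδsq _ (zpow_mem hxX l)
      have hcop : IsCoprime k ((orderOf D.x : ℕ) : ℤ) := by
        rw [D.ord]; push_cast
        exact IsCoprime.pow_right ((Int.prime_two.coprime_iff_not_dvd).2 hkodd).symm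
      obtain ⟨i, j, hij⟩ := hcop
      have hxp : D.x = p ^ i := by
        rw [hk, ← zpow_mul]
        nth_rewrite 1 [← zpow_one D.x]
        rw [← hij, zpow_add, mul_comm j, zpow_mul D.x (orderOf D.x : ℤ), zpow_natCast, pow_orderOf_eq_one, one_zpow,
          mul_one, mul_comm i]
      rw [hxp, ← conj_zpow, hup, inv_zpow]
  -- the centraliser of `E` in `A⟨u⟩`
  haveI : Fact (Nat.Prime 2) := ⟨Nat.prime_two⟩
  set H := A ⊔ Subgroup.zpowers u with hH
  have hAH : A ≤ H := le_sup_left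
  set C := H ⊓ Subgroup.centralizer (E : Set G) with hC
  have hwC : w ∈ C := ⟨mul_mem (hAH (hSA (hXS hp))) (Subgroup.mem_sup_right (Subgroup.mem_zpowers u)),
    Subgroup.mem_centralizer_iff.2 fun m hm => by
      have h1 : D.z * w = w * D.z := (mul_inv_eq_iff_eq_mul.1 hwz).symm
      have h2 : y * w = w * y := (mul_inv_eq_iff_eq_mul.1 hwy).symm
      rcases hm with e | e | e | e <;> rw [e]
      · simp
      · exact h1
      · exact h2
      · rw [mul_assoc, h2, ← mul_assoc, h1, mul_assoc]⟩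
  have hEC : E ≤ C := fun m hm => ⟨hAH (hEA hm), Subgroup.mem_centralizer_iff.2 fun n hn => by
    rcases hm with e | e | e | e <;> rcases hn with e' | e' | e' | e' <;> subst e <;> subst e'
    all_goals first
      | simp
      | exact hzy
      | exact hzy.symm
      | (simp only [← mul_assoc]; simp [hzy, mul_assoc, D.z_sq, hy2])⟩
  set Y := E ⊔ Subgroup.zpowers w with hY
  have hYC : Y ≤ C := sup_le hEC (Subgroup.zpowers_le.2 hwC)
  have hYform : ∀ m ∈ Y, m ∈ E ∨ ∃ e ∈ E, m = e * w := by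
    let Y0 : Subgroup G :=
      { carrier := {m | m ∈ E ∨ ∃ e ∈ E, m = e * w}
        one_mem' := Or.inl (one_mem E)
        mul_mem' := by
          have hc : ∀ e ∈ E, w * e = e * w := fun e he =>
            (Subgroup.mem_centralizer_iff.1 hwC.2 e he).symm
          rintro a b (ha | ⟨a, ha, rfl⟩) (hb | ⟨b, hb, rfl⟩)
          · exact Or.inl (mul_mem ha hb)
          · exact Or.inr ⟨a * b, mul_mem ha hb, by rw [mul_assoc]⟩
          · exact Or.inr ⟨a * b, mul_mem ha hb, by rw [mul_assoc, hc b hb, mul_assoc]⟩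
          · refine Or.inl ?_
            rw [mul_assoc, ← mul_assoc w, hc b hb, mul_assoc, hw2]
            exact mul_mem ha (mul_mem hb hzE)
        inv_mem' := by
          rintro a (ha | ⟨a, ha, rfl⟩)
          · exact Or.inl (inv_mem ha)
          · refine Or.inr ⟨D.z * a⁻¹, mul_mem hzE (inv_mem ha), ?_⟩
            have hc := Subgroup.mem_centralizer_iff.1 hwC.2 a⁻¹ (inv_mem ha)
            refine inv_eq_of_mul_eq_one_right ?_
            calc a * w * (D.z * a⁻¹ * w) = a * (w * D.z) * (a⁻¹ * w) := by group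
              _ = a * (D.z * w) * (w * a⁻¹) := by rw [hc, mul_inv_eq_iff_eq_mul.1 hwz]
              _ = a * (D.z * (w * w)) * a⁻¹ := by group
              _ = 1 := by rw [hw2, D.z_sq, mul_one, mul_inv_cancel] }
    have hle : Y ≤ Y0 := sup_le (fun e he => Or.inl he) (Subgroup.zpowers_le.2 (Or.inr ⟨1, one_mem E, (one_mul w).symm⟩))
    exact fun m hm => hle hm
  have hEsq : ∀ e ∈ E, e * e = 1 := fun e he => by
    have h := quad_isPGroup D.z y D.z_sq hy2 hzy
    rcases he with e' | e' | e' | e' <;> rw [e']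
    · rw [mul_one]
    · exact D.z_sq
    · exact hy2
    · rw [mul_assoc, ← mul_assoc y, ← hzy, mul_assoc, hy2, mul_one, D.z_sq]
  have hYsq : ∀ m ∈ Y, m * m = 1 ∨ m * m = D.z := by
    intro m hm
    rcases hYform m hm with h | ⟨e, he, rfl⟩
    · exact Or.inl (hEsq m h)
    · refine Or.inr ?_
      have hc := (Subgroup.mem_centralizer_iff.1 hwC.2 e he).symm
      rw [mul_assoc, ← mul_assoc w, hc, mul_assoc, hw2, ← mul_assoc, hEsq e he, one_mul]
  have hYp : IsPGroup 2 Y := fun m => ⟨2, Subtype.ext (by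
    rw [SubmonoidClass.coe_pow, OneMemClass.coe_one, show 2 ^ 2 = 2 + 2 from rfl, pow_add, pow_two]
    rcases hYsq _ m.2 with e | e <;> rw [e]
    · rw [mul_one]
    · exact D.z_sq)⟩
  -- maximality
  have hAn : u ∈ Subgroup.normalizer (A : Set G) := hUA hu
  obtain ⟨Q, hQ⟩ := (hYp.of_equiv (Subgroup.subgroupOfEquivOfLe hYC).symm).exists_le_sylow
  have hQY : ∀ τ ∈ (Q : Subgroup ↥C), (τ : G) ∈ Y := by
    intro τ hτ
    set T := (Q : Subgroup ↥C).map C.subtype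
    have hTp : IsPGroup 2 T := Q.2.map _
    have hYT : Y ≤ T := fun m hm => ⟨⟨m, hYC hm⟩, hQ hm, rfl⟩
    have hτT : (τ : G) ∈ T := ⟨τ, hτ, rfl⟩
    have hTA : ∀ a ∈ T, a ∈ A → a ∈ E := by
      intro a haT haA
      obtain ⟨a', ha', rfl⟩ := haT
      have hc := Subgroup.mem_centralizer_iff.1 a'.2.2
      exact hcentA D.z (hEA hzE) y (hEA hyE) D.z_sq hy2 D.z_ne (fun e => hyX (e ▸ one_mem X)) hzy1 hzy (T ⊓ A)
        (hTp.to_le inf_le_left) inf_le_right ⟨hYT (Subgroup.mem_sup_left hzE), hEA hzE⟩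
        ⟨hYT (Subgroup.mem_sup_left hyE), hEA hyE⟩ _ ⟨⟨a', ha', rfl⟩, haA⟩ (hc _ hzE).symm (hc _ hyE).symm
    obtain ⟨a, ha, v, hv, hav⟩ := Set.mem_mul.1
      ((Subgroup.coe_mul_of_right_le_normalizer_left A (Subgroup.zpowers u) (Subgroup.zpowers_le.2 hAn)).symm ▸
        (τ.2.1 : (τ : G) ∈ (H : Set G)) : (τ : G) ∈ (A : Set G) * (Subgroup.zpowers u : Set G))
    obtain ⟨i, rfl⟩ := hv
    replace hav : a * u ^ i = τ := hav
    have hu2' : u ^ (2 : ℤ) = 1 := by rw [zpow_two]; exact hu2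
    rw [← Int.mul_ediv_add_emod i 2, zpow_add, zpow_mul, hu2', one_zpow, one_mul] at hav
    rcases Int.emod_two_eq_zero_or_one i with e | e <;> rw [e] at hav
    · rw [zpow_zero, mul_one] at hav
      exact Subgroup.mem_sup_left (hTA _ hτT (hav ▸ ha))
    · rw [zpow_one] at hav
      have h1 : (τ : G) * w⁻¹ = a * p⁻¹ := by rw [← hav, hw]; group
      have h2 := hTA _ (mul_mem hτT (inv_mem (hYT (Subgroup.mem_sup_right (Subgroup.mem_zpowers w)))))
        (h1 ▸ mul_mem ha (inv_mem (hSA (hXS hp))))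
      have := mul_mem (Subgroup.mem_sup_left (T := Subgroup.zpowers w) h2) (Subgroup.mem_sup_right (S := E) (Subgroup.mem_zpowers w))
      rwa [inv_mul_cancel_right] at this
  -- the conjugate of `Y`
  have htH : t ∈ H := hAH htA
  have hwtC : t * w * t⁻¹ ∈ C := Subgroup.mem_inf.2 ⟨mul_mem (mul_mem htH hwC.1) (inv_mem htH), Subgroup.mem_centralizer_iff.2 fun m hm => by
    have hm' : t⁻¹ * m * t ∈ E := by
      have htzy : t * (D.z * y) * t⁻¹ = D.z := by
        rw [← conj_mul, htz, hty, mul_assoc, hy2, mul_one]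
      rcases hm with e | e | e | e <;> rw [e]
      · rw [mul_one, inv_mul_cancel]; exact one_mem E
      · refine Or.inr (Or.inr (Or.inr ?_))
        nth_rewrite 1 [← htzy]; group
      · refine Or.inr (Or.inr (Or.inl ?_))
        nth_rewrite 1 [← hty]; group
      · refine Or.inr (Or.inl ?_)
        nth_rewrite 1 [← htz]; group
    have := Subgroup.mem_centralizer_iff.1 hwC.2 _ hm'
    calc m * (t * w * t⁻¹) = t * ((t⁻¹ * m * t) * w) * t⁻¹ := by group
      _ = t * (w * (t⁻¹ * m * t)) * t⁻¹ := by rw [this]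
      _ = t * w * t⁻¹ * m := by group⟩
  have hp2 : IsPGroup 2 (Subgroup.zpowers (t * w * t⁻¹)) :=
    isPGroup_zpowers_of_mem (hYp.map (MulAut.conj t).toMonoidHom)
      (Subgroup.mem_map_of_mem (MulAut.conj t).toMonoidHom (Subgroup.mem_sup_right (Subgroup.mem_zpowers w)))
  obtain ⟨c, hc, hcY⟩ := sylow_conj C Q _ (Subgroup.zpowers_le.2 hwtC) hp2
  obtain ⟨τ, hτ, hτe⟩ := hcY _ (Subgroup.mem_zpowers _)
  have hmem : c * (t * w * t⁻¹) * c⁻¹ ∈ Y := hτe ▸ hQY τ hτ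
  have hsq : c * (t * w * t⁻¹) * c⁻¹ * (c * (t * w * t⁻¹) * c⁻¹) = D.z * y := by
    have hczy := Subgroup.mem_centralizer_iff.1 hc.2 (D.z * y) (mul_mem hzE hyE)
    rw [conj_mul, conj_mul, hw2, htz, ← hczy, mul_inv_cancel_right]
  rcases hYsq _ hmem with e | e <;> rw [hsq] at e
  · exact hzy1 ((mul_eq_one_iff_eq_inv.1 e).trans hyi)
  · exact hyX (by rw [mul_eq_left.1 e]; exact one_mem X)

theorem eq_of_cyclic {P : Type*} [Group P] {x : P} {a b : P} (ha : a ∈ Subgroup.zpowers x) (hb : b ∈ Subgroup.zpowers x)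
    (hfin : IsOfFinOrder x) (ha2 : a * a = 1) (hb2 : b * b = 1) (ha1 : a ≠ 1) (hb1 : b ≠ 1) : a = b := by
  classical
  haveI : Finite (Subgroup.zpowers x) := hfin.finite_zpowers
  haveI := Fintype.ofFinite (Subgroup.zpowers x)
  by_contra hab
  have h2 := IsCyclic.card_pow_eq_one_le (α := Subgroup.zpowers x) (n := 2) (by norm_num)
  have hsub : ({1, ⟨a, ha⟩, ⟨b, hb⟩} : Finset (Subgroup.zpowers x)) ⊆ Finset.univ.filter fun m => m ^ 2 = 1 := by
    intro m hm
    simp only [Finset.mem_insert, Finset.mem_singleton] at hm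
    rw [Finset.mem_filter]
    refine ⟨Finset.mem_univ _, ?_⟩
    rcases hm with rfl | rfl | rfl
    · exact one_pow 2
    · exact Subtype.ext (by rw [SubmonoidClass.coe_pow, pow_two]; exact ha2)
    · exact Subtype.ext (by rw [SubmonoidClass.coe_pow, pow_two]; exact hb2)
  have h3 := Finset.card_le_card hsub
  rw [Finset.card_insert_of_notMem (by simp [Subtype.ext_iff, Ne.symm ha1, Ne.symm hb1]),
    Finset.card_insert_of_notMem (by simp [Subtype.ext_iff, hab]), Finset.card_singleton] at h3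
  omega

/-- No two commuting involutions. -/
theorem rank_one (A U : Subgroup G) (hAp : Group.IsPerfect A) (hUA : U ≤ Subgroup.normalizer (A : Set G))
    (u₁ u₂ : G) (hu₁ : u₁ ∈ U) (hu₂ : u₂ ∈ U) (hu₁1 : u₁ ≠ 1) (hu₂1 : u₂ ≠ 1) (hu12 : u₁ * u₂ ≠ 1)
    (hUexp : ∀ u ∈ U, u * u = 1) (heven : ∃ e ∈ A, e * e = 1 ∧ e ≠ 1)
    (hF : ∀ u ∈ U, u ≠ 1 → ∀ a ∈ A, ∀ b ∈ A, a * a = 1 → b * b = 1 → a ≠ 1 → b ≠ 1 → a * b = b * a →
      u * a * u⁻¹ = a → u * b * u⁻¹ = b → a = b) :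
    ∀ a ∈ A, ∀ b ∈ A, a * a = 1 → b * b = 1 → a ≠ 1 → b ≠ 1 → a * b = b * a → a = b := by
  haveI : Fact (Nat.Prime 2) := ⟨Nat.prime_two⟩
  intro a ha b hb ha2 hb2 ha1 hb1 hab
  have hUp : IsPGroup 2 U := fun u => ⟨1, Subtype.ext (by
    rw [pow_one, SubmonoidClass.coe_pow, pow_two, OneMemClass.coe_one]; exact hUexp u u.2)⟩
  -- an invariant Sylow subgroup
  let φ : U →* MulAut A := A.normalizerMonoidHom.comp (Subgroup.inclusion hUA)
  letI : MulDistribMulAction U A := MulDistribMulAction.compHom A φ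
  obtain ⟨S0, hfix⟩ := hUp.nonempty_fixed_point_of_prime_not_dvd_card (Sylow 2 ↥A) (not_dvd_card_sylow 2 ↥A)
  set S := (S0 : Subgroup ↥A).map A.subtype with hS0
  have hSA : S ≤ A := Subgroup.map_subtype_le _
  have hUS : ∀ u ∈ U, ∀ s ∈ S, u * s * u⁻¹ ∈ S := by
    intro u hu s hs
    obtain ⟨s', hs', rfl⟩ := hs
    refine ⟨(⟨u, hu⟩ : U) • s', ?_, rfl⟩
    have h := hfix ⟨u, hu⟩
    rw [← h]
    exact Subgroup.smul_mem_pointwise_smul s' ((⟨u, hu⟩ : U)) (S0 : Subgroup ↥A) hs'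
  have hSp : IsPGroup 2 S := S0.2.map _
  have hUN : U ≤ Subgroup.normalizer (S : Set G) := fun u hu => Subgroup.mem_normalizer_iff.2 fun s =>
    ⟨hUS u hu s, fun h => by
      have := hUS u⁻¹ (inv_mem hu) _ h
      rwa [show u⁻¹ * (u * s * u⁻¹) * u⁻¹⁻¹ = s by group] at this⟩
  set P := S ⊔ U with hP
  have hPp : IsPGroup 2 P := hSp.to_sup_of_normal_left' hUp hUN
  haveI hSn : (S.subgroupOf P).Normal := by
    rw [Subgroup.normal_subgroupOf_iff_le_normalizer le_sup_left]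
    exact sup_le Subgroup.le_normalizer hUN
  -- all involutions of `S` lie in a cyclic group
  have hconj : ∀ e ∈ A, e * e = 1 → e ≠ 1 → ∃ s ∈ S, s * s = 1 ∧ s ≠ 1 := by
    intro e he he2 he1
    obtain ⟨h, -, hh⟩ := sylow_conj A S0 (quad e e he2 he2 rfl)
      (by intro m hm; rcases hm with e' | e' | e' | e' <;> rw [e']
          exacts [one_mem A, he, he, mul_mem he he]) (quad_isPGroup e e he2 he2 rfl)
    exact ⟨h * e * h⁻¹, hh e (Or.inr (Or.inl rfl)), by rw [conj_mul, he2, mul_one, mul_inv_cancel],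
      fun e' => he1 (conj_eq_one_iff.1 e')⟩
  obtain ⟨e₀, he₀, he₀2, he₀1⟩ := heven
  obtain ⟨s₀, hs₀, hs₀2, hs₀1⟩ := hconj e₀ he₀ he₀2 he₀1
  obtain ⟨z, hzS', hz1, hz2, hzc⟩ := exists_central_mod hPp (⊥ : Subgroup P) (S.subgroupOf P)
    (fun h => hs₀1 (congrArg Subtype.val (Subgroup.mem_bot.1 (h (show (⟨s₀, le_sup_left (a := S) (b := U) hs₀⟩ : P) ∈ S.subgroupOf P from hs₀)))))
  replace hz1 : z ≠ 1 := fun h => hz1 (Subgroup.mem_bot.2 h)
  replace hz2 : z * z = 1 := Subgroup.mem_bot.1 hz2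
  replace hzc : ∀ g : P, g * z * g⁻¹ = z := fun g => mul_inv_eq_one.1 (Subgroup.mem_bot.1 (hzc g))
  have hzS : (z : G) ∈ S := hzS'
  have hzG1 : (z : G) ≠ 1 := fun h => hz1 (Subtype.ext h)
  have hz2G : (z : G) * z = 1 := congrArg Subtype.val hz2
  have hzcG : ∀ g ∈ P, g * (z : G) * g⁻¹ = z := fun g hg => congrArg Subtype.val (hzc ⟨g, hg⟩)
  -- involutions fixed by some element of `U`
  have hFS : ∀ u ∈ U, u ≠ 1 → ∀ s ∈ S, s * s = 1 → s ≠ 1 → u * s * u⁻¹ = s → s = z := fun u hu hu1 s hs hs2 hs1 hus =>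
    hF u hu hu1 s (hSA hs) z (hSA hzS) hs2 hz2G hs1 hzG1
      (mul_inv_eq_iff_eq_mul.1 (hzcG s (Subgroup.mem_sup_left hs)))
      hus (hzcG u (Subgroup.mem_sup_right hu))
  have hno : NoNormalFour (S.subgroupOf P) := by
    intro z' y hz' hy hz'2 hy2 hz'1 hy1 hne hcomm hz'c hyc
    have hz'G : ∀ g ∈ P, g * (z' : G) * g⁻¹ = z' := fun g hg => congrArg Subtype.val (hz'c ⟨g, hg⟩)
    have hyG : ∀ g ∈ P, g * (y : G) * g⁻¹ = y ∨ g * (y : G) * g⁻¹ = z' * y := fun g hg =>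
      (hyc ⟨g, hg⟩).imp (congrArg Subtype.val) (congrArg Subtype.val)
    obtain ⟨u, hu, hu1, huy⟩ : ∃ u ∈ U, u ≠ 1 ∧ u * (y : G) * u⁻¹ = y := by
      rcases hyG u₁ (Subgroup.mem_sup_right hu₁) with e1 | e1
      · exact ⟨u₁, hu₁, hu₁1, e1⟩
      rcases hyG u₂ (Subgroup.mem_sup_right hu₂) with e2 | e2
      · exact ⟨u₂, hu₂, hu₂1, e2⟩
      refine ⟨u₁ * u₂, mul_mem hu₁ hu₂, hu12, ?_⟩
      calc u₁ * u₂ * (y : G) * (u₁ * u₂)⁻¹ = u₁ * (u₂ * y * u₂⁻¹) * u₁⁻¹ := by group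
        _ = (u₁ * z' * u₁⁻¹) * (u₁ * y * u₁⁻¹) := by rw [e2]; group
        _ = (z' * z' : G) * y := by rw [hz'G u₁ (Subgroup.mem_sup_right hu₁), e1, mul_assoc]
        _ = y := by rw [show (z' : G) * z' = 1 from congrArg Subtype.val hz'2, one_mul]
    exact hne (Subtype.ext ((hF u hu hu1 z' (hSA hz') y (hSA hy) (congrArg Subtype.val hz'2) (congrArg Subtype.val hy2)
      (fun h => hz'1 (Subtype.ext h)) (fun h => hy1 (Subtype.ext h)) (congrArg Subtype.val hcomm)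
      (hz'G u (Subgroup.mem_sup_right hu)) huy).symm))
  obtain ⟨X, hXS, hXn, ⟨x, hx⟩, hpair, hZ, hout⟩ := structure_thm hPp _ hno
  -- all involutions of `S` lie in `X`
  have hmain : ∀ y : P, y ∈ S.subgroupOf P → y * y = 1 → y ≠ 1 → y ∈ X := by
    intro y₀ hy₀ hy₀2 hy₀1
    by_contra hy₀X
    obtain ⟨k, hk⟩ := IsPGroup.iff_orderOf.mp hPp x
    rcases Nat.lt_or_ge k 2 with hk2 | hk2
    · -- small
      have hx2 : x * x = 1 := by
        rw [← pow_two]; exact orderOf_dvd_iff_pow_eq_one.1 (hk ▸ pow_dvd_pow 2 (by omega : k ≤ 1))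
      have hX2 : ∀ m ∈ X, m = 1 ∨ m = x := by
        intro m hm
        obtain ⟨i, rfl⟩ := (hx ▸ hm : m ∈ Subgroup.zpowers x)
        show x ^ i = 1 ∨ x ^ i = x
        have h2 : x ^ (2 : ℤ) = 1 := by rw [zpow_two]; exact hx2
        rw [← Int.mul_ediv_add_emod i 2, zpow_add, zpow_mul, h2, one_zpow, one_mul]
        rcases Int.emod_two_eq_zero_or_one i with e | e <;> simp [e]
      have hzX : z ∈ X := hZ z hzS hzc
      have hxz : x = z := ((hX2 z hzX).resolve_left hz1).symm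
      refine hno z y₀ hzS hy₀ hz2 hy₀2 hz1 hy₀1 (fun e => hy₀X (e ▸ hzX))
        (mul_inv_eq_iff_eq_mul.1 (hzc y₀)).symm hzc fun g => ?_
      have hgy : g * y₀ * g⁻¹ ∈ S.subgroupOf P := hSn.conj_mem y₀ hy₀ g
      have hgX : g * y₀ * g⁻¹ ∉ X := fun h => hy₀X (by
        have := hXn g⁻¹ _ h
        rwa [show g⁻¹ * (g * y₀ * g⁻¹) * g⁻¹⁻¹ = y₀ by group] at this)
      have hyy : y₀⁻¹ = y₀ := inv_eq_of_mul_eq_one_left hy₀2
      rcases hX2 _ (hpair _ hgy _ hy₀ hgX hy₀X) with e | e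
      · exact Or.inl ((mul_eq_one_iff_eq_inv.1 e).trans hyy)
      · refine Or.inr ?_
        calc g * y₀ * g⁻¹ = g * y₀ * g⁻¹ * (y₀ * y₀) := by rw [hy₀2, mul_one]
          _ = z * y₀ := by rw [← mul_assoc, e, hxz]
    · let D : Big P X := ⟨x, hx, k - 2, by rw [hk]; congr 1; omega⟩
      set X' := X.map P.subtype with hX'
      let D' : Big G X' := ⟨(x : G), by rw [hX', hx, MonoidHom.map_zpowers]; rfl, k - 2, by
        rw [Subgroup.orderOf_coe, hk]; congr 1; omega⟩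
      have hmem : ∀ m : P, (m : G) ∈ X' ↔ m ∈ X := fun m => by
        rw [hX', Subgroup.mem_map]
        exact ⟨fun ⟨n, hn, e⟩ => Subtype.ext e ▸ hn, fun h => ⟨m, h, rfl⟩⟩
      have hq : D'.q = ((D.q : P) : G) := by
        show (x : G) ^ 2 ^ (k - 2) = ((x ^ 2 ^ (k - 2) : P) : G)
        rw [SubmonoidClass.coe_pow]
      refine false_of_struct A hAp S0 hS0.symm D' ?_ ?_ ?_ ?_ (y₀ : G) hy₀ (fun h => hy₀X ((hmem y₀).1 h))
        (congrArg Subtype.val hy₀2) U hUS ?_ hUA u₁ u₂ hu₁ hu₂ hu₁1 hu₂1 hu12 hUexp ?_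
      · rintro _ ⟨m, hm, rfl⟩; exact hXS hm
      · rintro g hg _ ⟨m, hm, rfl⟩
        exact (hmem _).2 (hXn ⟨g, Subgroup.mem_sup_left hg⟩ m hm)
      · intro a ha b hb haX hbX
        exact (hmem (⟨a, Subgroup.mem_sup_left ha⟩ * ⟨b, Subgroup.mem_sup_left hb⟩)).2
          (hpair _ ha _ hb (fun h => haX ((hmem _).2 h)) (fun h => hbX ((hmem _).2 h)))
      · intro a ha haX ha2 hq'
        rw [hq] at hq'
        exact hout ⟨a, Subgroup.mem_sup_left ha⟩ ha (fun h => haX ((hmem _).2 h)) (Subtype.ext ha2) D (Subtype.ext hq')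
      · rintro u hu _ ⟨m, hm, rfl⟩
        exact (hmem _).2 (hXn ⟨u, Subgroup.mem_sup_right hu⟩ m hm)
      · intro u hu hu1 s hs hs2 hs1 hus
        rw [hFS u hu hu1 s hs hs2 hs1 hus, hmem]
        exact hZ z hzS hzc
  obtain ⟨h, -, hh⟩ := sylow_conj A S0 (quad a b ha2 hb2 hab)
    (by intro m hm; rcases hm with e' | e' | e' | e' <;> rw [e']
        exacts [one_mem A, ha, hb, mul_mem ha hb]) (quad_isPGroup a b ha2 hb2 hab)
  have hcase : ∀ m, m * m = 1 → m ≠ 1 → m ∈ quad a b ha2 hb2 hab → ∃ n : P, n ∈ X ∧ (n : G) = h * m * h⁻¹ ∧ n * n = 1 ∧ n ≠ 1 := by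
    intro m hm2 hm1 hm
    have hS' := hh m hm
    refine ⟨⟨_, le_sup_left (a := S) (b := U) hS'⟩, hmain _ hS' ?_ ?_, rfl, ?_, ?_⟩
    all_goals first
      | exact Subtype.ext (show h * m * h⁻¹ * (h * m * h⁻¹) = 1 by rw [conj_mul, hm2, mul_one, mul_inv_cancel])
      | exact fun e => hm1 (conj_eq_one_iff.1 (congrArg Subtype.val e))
  obtain ⟨na, hnaX, hna, hna2, hna1⟩ := hcase a ha2 ha1 (Or.inr (Or.inl rfl))
  obtain ⟨nb, hnbX, hnb, hnb2, hnb1⟩ := hcase b hb2 hb1 (Or.inr (Or.inr (Or.inl rfl)))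
  have := eq_of_cyclic (hx ▸ hnaX : na ∈ Subgroup.zpowers x) (hx ▸ hnbX) (isOfFinOrder_of_finite x) hna2 hnb2 hna1 hnb1
  have h' : h * a * h⁻¹ = h * b * h⁻¹ := by rw [← hna, ← hnb, this]
  exact mul_left_cancel (mul_right_cancel h')

end Cfsg.Agent.Tech.FourFree
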