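import Mathlib

/-!
# An involution in a four-group of conjugates meeting no proper normal subgroup's centralizer
-/

set_option autoImplicit false

namespace Cfsg.Agent.Tech

open Subgroup

variable {H : Type*} [Group H] [Finite H]

theorem abelian_normal_eq_bot (z : H) (hz : orderOf z = 2)
    (hN : ∀ N : Subgroup H, N.Normal → N ≠ ⊤ → N ⊓ centralizer ({z} : Set H) = ⊥)
    (E : Subgroup H) (hE : IsKleinFour ↥E) (hzE : z ∈ E) (hc : ∀ e ∈ E, e ≠ 1 → IsConj z e)
    (N : Subgroup H) [hn : N.Normal] (hab : IsMulCommutative ↥N) : N = ⊥ := by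
  classical
  have hz1 : z ≠ 1 := fun h => by simp [h] at hz
  haveI := Fintype.ofFinite ↥E
  have hE4 : Nat.card E = 4 := hE.card_four
  obtain ⟨e, he, hez, he1⟩ : ∃ e ∈ E, e ≠ z ∧ e ≠ 1 := by
    by_contra h
    push Not at h
    have hsub : (E : Set H) ⊆ {1, z} := fun x hx => by
      by_cases hx1 : x = 1
      · exact Or.inl hx1
      · exact Or.inr (by_contra fun hxz => hx1 (h x hx hxz))
    have := Set.ncard_le_ncard hsub (Set.toFinite _)
    rw [← Nat.card_coe_set_eq, SetLike.coe_sort_coe, hE4, Set.ncard_pair hz1.symm] at this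
    omega
  by_cases hNt : N = ⊤
  · exfalso
    obtain ⟨g, hg⟩ := isConj_iff.mp (hc e he he1)
    have hcm : ∀ a b : H, a * b = b * a := fun a b => congrArg Subtype.val
      (mul_comm' (⟨a, hNt ▸ mem_top a⟩ : N) ⟨b, hNt ▸ mem_top b⟩)
    exact hez (by rw [← hg, hcm g z, mul_inv_cancel_right])
  have hfix := hN N hn hNt
  have hzz : z * z = 1 := by rw [← sq, ← hz, pow_orderOf_eq_one]
  have hzi : z⁻¹ = z := inv_eq_of_mul_eq_one_right hzz
  have hinv : ∀ g : H, ∀ n ∈ N, (g * z * g⁻¹) * n * (g * z * g⁻¹) = n⁻¹ := by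
    have h0 : ∀ n ∈ N, z * n * z = n⁻¹ := by
      intro n hnN
      have hm : z * n * z ∈ N := by simpa [hzi] using hn.conj_mem n hnN z
      have hcomm : n * (z * n * z) = z * n * z * n :=
        congrArg Subtype.val (mul_comm' (⟨n, hnN⟩ : N) ⟨_, hm⟩)
      have hmem : n * (z * n * z) ∈ N ⊓ centralizer ({z} : Set H) := by
        refine ⟨N.mul_mem hnN hm, mem_centralizer_singleton_iff.mpr ?_⟩
        calc n * (z * n * z) * z = n * (z * n) * (z * z) := by group
          _ = (z * z) * n * z * n := by rw [hzz, mul_one, one_mul, mul_assoc]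
          _ = z * (z * n * z * n) := by group
          _ = z * (n * (z * n * z)) := by rw [hcomm]
      rw [hfix, mem_bot] at hmem
      exact eq_inv_of_mul_eq_one_right hmem
    intro g n hnN
    have h1 := h0 _ (show g⁻¹ * n * g ∈ N by simpa using hn.conj_mem n hnN g⁻¹)
    calc g * z * g⁻¹ * n * (g * z * g⁻¹) = g * (z * (g⁻¹ * n * g) * z) * g⁻¹ := by group
      _ = n⁻¹ := by rw [h1]; group
  rw [Subgroup.eq_bot_iff_forall]
  intro n hnN
  have hz0 : z * n * z = n⁻¹ := by simpa using hinv 1 n hnN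
  obtain ⟨g, hg⟩ := isConj_iff.mp (hc e he he1)
  have hee : e * n * e = n⁻¹ := hg ▸ hinv g n hnN
  have hEc : e * z = z * e := congrArg Subtype.val
    ((IsKleinFour.isMulCommutative (G := ↥E)).is_comm.comm ⟨e, he⟩ ⟨z, hzE⟩)
  have hf : e * z ∈ E := E.mul_mem he hzE
  have hf1 : e * z ≠ 1 := fun h => hez ((mul_eq_one_iff_eq_inv.mp h).trans hzi)
  obtain ⟨k, hk⟩ := isConj_iff.mp (hc _ hf hf1)
  have hff : (e * z) * n * (e * z) = n⁻¹ := hk ▸ hinv k n hnN
  have hee2 : e * e = 1 := congrArg Subtype.val (IsKleinFour.mul_self (⟨e, he⟩ : E))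
  have hei : e⁻¹ = e := inv_eq_of_mul_eq_one_right hee2
  have hinv' : e * n⁻¹ * e = (e * n * e)⁻¹ := by
    rw [mul_inv_rev, mul_inv_rev, hei, mul_assoc]
  have hez' : (e * z) * n * (e * z) = n := by
    calc e * z * n * (e * z) = e * (z * n * z) * e := by nth_rewrite 2 [hEc]; group
      _ = n := by rw [hz0, hinv', hee, inv_inv]
  have hnn : z * n * z = n := by rw [hz0, ← hff, hez']
  have hmem : n ∈ N ⊓ centralizer ({z} : Set H) := by
    refine ⟨hnN, mem_centralizer_singleton_iff.mpr ?_⟩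
    calc n * z = z * n * z * z := by rw [hnn]
      _ = z * n := by rw [mul_assoc, hzz, mul_one]
  rwa [hfix, mem_bot] at hmem

theorem isSimpleGroup_of_four (z : H) (hz : orderOf z = 2)
    (hN : ∀ N : Subgroup H, N.Normal → N ≠ ⊤ → N ⊓ centralizer ({z} : Set H) = ⊥)
    (E : Subgroup H) (hE : IsKleinFour ↥E) (hzE : z ∈ E) (hc : ∀ e ∈ E, e ≠ 1 → IsConj z e) :
    IsSimpleGroup H := by
  haveI : Nontrivial H := ⟨⟨z, 1, fun h => by simp [h] at hz⟩⟩
  refine IsSimpleGroup.mk fun N hn => ?_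
  by_cases hNt : N = ⊤
  · exact Or.inr hNt
  left
  haveI := hn
  have hfix := hN N hn hNt
  have hzz : z * z = 1 := by rw [← sq, ← hz, pow_orderOf_eq_one]
  have hzi : z⁻¹ = z := inv_eq_of_mul_eq_one_right hzz
  let f : N → N := fun n => ⟨(n : H)⁻¹ * (z * n * z),
    N.mul_mem (N.inv_mem n.2) (by simpa [hzi] using hn.conj_mem (n : H) n.2 z)⟩
  have hf : Function.Injective f := by
    intro a b hab
    have h : (a : H)⁻¹ * (z * a * z) = (b : H)⁻¹ * (z * b * z) := congrArg Subtype.val hab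
    have hmem : (b : H) * (a : H)⁻¹ ∈ N ⊓ centralizer ({z} : Set H) := by
      refine ⟨N.mul_mem b.2 (N.inv_mem a.2), mem_centralizer_singleton_iff.mpr ?_⟩
      calc (b : H) * (a : H)⁻¹ * z = (b : H) * ((a : H)⁻¹ * (z * a * z)) * z⁻¹ * (a : H)⁻¹ := by group
        _ = z * ((b : H) * (a : H)⁻¹) := by rw [h]; group
    rw [hfix, mem_bot, mul_inv_eq_one] at hmem
    exact Subtype.ext hmem.symm
  have hs : ∀ n ∈ N, z * n * z = n⁻¹ := by
    intro n hnN
    obtain ⟨a, ha⟩ := (Finite.injective_iff_surjective.mp hf) ⟨n, hnN⟩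
    have ha' : (a : H)⁻¹ * (z * a * z) = n := congrArg Subtype.val ha
    rw [← ha', mul_inv_rev, inv_inv, mul_inv_rev, mul_inv_rev, hzi]
    calc z * ((a : H)⁻¹ * (z * a * z)) * z = z * (a : H)⁻¹ * z * a * (z * z) := by group
      _ = _ := by rw [hzz, mul_one]; group
  have hab : IsMulCommutative ↥N := by
    refine ⟨⟨fun a b => Subtype.ext ?_⟩⟩
    show (a : H) * b = b * a
    apply inv_injective
    rw [← hs _ (N.mul_mem a.2 b.2), mul_inv_rev, ← hs _ a.2, ← hs _ b.2]
    calc z * ((a : H) * b) * z = z * a * (z * z) * b * z := by rw [hzz]; group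
      _ = z * a * z * (z * b * z) := by group
  exact abelian_normal_eq_bot z hz hN E hE hzE hc N hab

end Cfsg.Agent.Tech
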