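import Mathlib
import Cfsg.Agent.Lib.Invol.Basic

/-!
# An involution fixing exactly one coset

`z` is an involution and `H` a proper subgroup with `g⁻¹ z g ∈ H ↔ g ∈ H`; the hypothesis `h1`
says that the products `z * t` with a commuting conjugate `t ≠ z` fix only that coset as well.
The main result `index_odd` says that then `z` centralises a Sylow 2-subgroup.
-/

set_option autoImplicit false

namespace Cfsg.Agent.IsoPointInvol

open Cfsg.Agent.Invol

universe u

variable {G : Type u} [Group G]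

theorem mem_map_conj (H : Subgroup G) (g x : G) :
    x ∈ H.map (MulAut.conj g).toMonoidHom ↔ g⁻¹ * x * g ∈ H := by
  rw [Subgroup.mem_map]
  constructor
  · rintro ⟨y, hy, rfl⟩
    simpa [mul_assoc] using hy
  · intro h
    exact ⟨_, h, by simp [mul_assoc]⟩

theorem invol_card_modEq {α : Type u} [Finite α] (f : α → α) (hf : ∀ a, f (f a) = a) :
    Nat.card α ≡ Nat.card {a // f a = a} [MOD 2] := by
  classical
  have : Fintype α := Fintype.ofFinite α
  have : Fact (Nat.Prime 2) := ⟨Nat.prime_two⟩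
  have key := Equiv.Perm.card_fixedPoints_modEq (α := α) (f := (f : Function.End α)) (p := 2)
    (n := 1) (by funext a; exact hf a)
  rw [← Nat.card_eq_fintype_card, ← Nat.card_eq_fintype_card] at key
  exact key

/-- The number of conjugates of `z` in `H`. -/
theorem class_inter_card (z : G) (H : Subgroup G) (h0 : ∀ g : G, g⁻¹ * z * g ∈ H ↔ g ∈ H) :
    Nat.card {u : G // IsConj z u ∧ u ∈ H} = (Subgroup.centralizer {z}).relIndex H := by
  have hzH : z ∈ H := by simpa using (h0 1).2 (one_mem H)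
  let f : ↥H ⧸ ((Subgroup.centralizer {z}).subgroupOf H) → {u : G // IsConj z u ∧ u ∈ H} :=
    fun q => Quotient.liftOn' q
      (fun h => ⟨(h : G) * z * (h : G)⁻¹, isConj_iff.2 ⟨h, rfl⟩,
        mul_mem (mul_mem h.2 hzH) (inv_mem h.2)⟩)
      (by
        intro a b hab
        rw [QuotientGroup.leftRel_apply, Subgroup.mem_subgroupOf,
          Subgroup.mem_centralizer_singleton_iff] at hab
        apply Subtype.ext
        push_cast at hab
        have e : (b : G) * z * (b : G)⁻¹
            = (a : G) * (((a : G)⁻¹ * b) * z) * (b : G)⁻¹ := by group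
        show (a : G) * z * (a : G)⁻¹ = (b : G) * z * (b : G)⁻¹
        rw [e, hab]; group)
  rw [Subgroup.relIndex, Subgroup.index_eq_card]
  refine (Nat.card_eq_of_bijective f ⟨?_, ?_⟩).symm
  · intro p q
    induction p using QuotientGroup.induction_on with
    | H a =>
      induction q using QuotientGroup.induction_on with
      | H b =>
        intro hpq
        have hpq' : (a : G) * z * (a : G)⁻¹ = (b : G) * z * (b : G)⁻¹ := congrArg Subtype.val hpq
        apply QuotientGroup.eq.2
        rw [Subgroup.mem_subgroupOf, Subgroup.mem_centralizer_singleton_iff]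
        push_cast
        calc (a : G)⁻¹ * b * z = (a : G)⁻¹ * ((b : G) * z * (b : G)⁻¹) * b := by group
          _ = (a : G)⁻¹ * ((a : G) * z * (a : G)⁻¹) * b := by rw [hpq']
          _ = z * ((a : G)⁻¹ * b) := by group
  · rintro ⟨u, hu, huH⟩
    obtain ⟨a, rfl⟩ := isConj_iff.1 hu
    have ha : a⁻¹ ∈ H := (h0 a⁻¹).1 (by simpa using huH)
    exact ⟨QuotientGroup.mk (⟨a, by simpa using inv_mem ha⟩ : ↥H), rfl⟩

variable [Finite G]

/-- `z` fixes only one coset of `H`, so their number is odd. -/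
theorem index_H_odd (z : G) (H : Subgroup G) (hz2 : z * z = 1)
    (h0 : ∀ g : G, g⁻¹ * z * g ∈ H ↔ g ∈ H) : ¬ 2 ∣ H.index := by
  have hk := invol_card_modEq (fun q : G ⧸ H => z • q)
    (fun q => by show z • z • q = q; rw [smul_smul, hz2, one_smul])
  have hone : Nat.card {q : G ⧸ H // z • q = q} = 1 := by
    rw [Nat.card_eq_one_iff_unique]
    have key : ∀ q : G ⧸ H, z • q = q → q = ((1 : G) : G ⧸ H) := by
      intro q
      induction q using QuotientGroup.induction_on with
      | H g =>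
        intro hq
        have hq' : ((z * g : G) : G ⧸ H) = (g : G ⧸ H) := hq
        rw [QuotientGroup.eq] at hq'
        have : g⁻¹ * z * g ∈ H := by
          have := inv_mem hq'
          simpa [mul_assoc] using this
        apply QuotientGroup.eq.2
        simpa using (h0 g).1 this
    refine ⟨⟨fun a b => Subtype.ext ((key _ a.2).trans (key _ b.2).symm)⟩,
      ⟨⟨((1 : G) : G ⧸ H), ?_⟩⟩⟩
    show ((z * 1 : G) : G ⧸ H) = ((1 : G) : G ⧸ H)
    apply QuotientGroup.eq.2
    simpa using (h0 1).2 (one_mem H)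
  rw [← Subgroup.index_eq_card, hone] at hk
  intro h
  have := Nat.modEq_zero_iff_dvd.2 h
  exact absurd (this.symm.trans hk) (by decide)

/-- The Sylow subgroup of `K` inside a Sylow subgroup of `G` is the intersection. -/
theorem sylow_inter_eq {K : Subgroup G} (S₀ : Sylow 2 ↥K) (P : Sylow 2 G)
    (hle : (S₀ : Subgroup ↥K).map K.subtype ≤ (P : Subgroup G)) {v : G} (hvK : v ∈ K)
    (hvP : v ∈ (P : Subgroup G)) : v ∈ (S₀ : Subgroup ↥K).map K.subtype := by
  have h1 : IsPGroup 2 ↥((P : Subgroup G).comap K.subtype) :=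
    P.isPGroup'.comap_of_injective _ K.subtype_injective
  have h2 : (P : Subgroup G).comap K.subtype = (S₀ : Subgroup ↥K) :=
    S₀.is_maximal' h1 (fun s hs => hle (Subgroup.mem_map_of_mem _ hs))
  exact ⟨⟨v, hvK⟩, h2 ▸ (by exact hvP : (⟨v, hvK⟩ : ↥K) ∈ (P : Subgroup G).comap K.subtype), rfl⟩

/-- An element `y` of `P` outside `S` which normalises `S`, with square in `S`. -/
theorem exists_normalizing {S P : Subgroup G} (hP : IsPGroup 2 ↥P) (hSP : S ≤ P) (hne : S ≠ P) :
    ∃ y ∈ P, y ∉ S ∧ y * y ∈ S ∧ ∀ s ∈ S, y * s * y⁻¹ ∈ S := by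
  have : Fact (Nat.Prime 2) := ⟨Nat.prime_two⟩
  have hnil : Group.IsNilpotent ↥P := hP.isNilpotent
  have hlt : S.subgroupOf P < ⊤ := lt_top_iff_ne_top.2 (fun h => hne (le_antisymm hSP
    (Subgroup.subgroupOf_eq_top.1 h)))
  obtain ⟨x, hxN, hxS⟩ := SetLike.exists_of_lt (normalizerCondition_of_isNilpotent _ hlt)
  classical
  have hex : ∃ j : ℕ, (x : G) ^ (2 ^ j) ∈ S := by
    obtain ⟨k, hk⟩ := hP x
    refine ⟨k, ?_⟩
    have : (x : G) ^ (2 ^ k) = 1 := by rw [← SubgroupClass.coe_pow, hk]; rfl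
    rw [this]; exact one_mem S
  have h0 : Nat.find hex ≠ 0 := by
    intro h
    have := Nat.find_spec hex
    rw [h, pow_zero, pow_one] at this
    exact hxS this
  obtain ⟨j, hj⟩ := Nat.exists_eq_succ_of_ne_zero h0
  refine ⟨(x : G) ^ (2 ^ j), P.pow_mem x.2 _, Nat.find_min hex (by omega), ?_, ?_⟩
  · rw [← pow_add, ← two_mul, ← pow_succ']
    have := Nat.find_spec hex
    rwa [hj] at this
  · intro s hs
    have hm := pow_mem hxN (2 ^ j)
    rw [Subgroup.mem_normalizer_iff] at hm
    exact (hm ⟨s, hSP hs⟩).1 hs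

/-- `x * k` is conjugate to `x` or to `y`, for `k` the involution of `⟨x y⟩`. -/
theorem mul_half_isConj {x y : G} (hx : x * x = 1) (hy : y * y = 1)
    (heven : Even (orderOf (x * y))) :
    IsConj x (x * (x * y) ^ (orderOf (x * y) / 2)) ∨
      IsConj (x * (x * y) ^ (orderOf (x * y) / 2)) y := by
  by_cases h4 : 4 ∣ orderOf (x * y)
  · obtain ⟨d, -, hd⟩ := (conj_pair_half_iff hx hy heven).2 h4
    exact Or.inl (isConj_iff.2 ⟨d, hd⟩)
  · obtain ⟨d, -, hd⟩ := isConj_mul_half_of_not_four_dvd hx hy heven h4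
    exact Or.inr (isConj_iff.2 ⟨d, hd⟩)

/-- Conjugates of `z` attached to different cosets have product of odd order. -/
theorem odd_mul (z : G) (H : Subgroup G) (hz2 : z * z = 1)
    (h0 : ∀ g : G, g⁻¹ * z * g ∈ H ↔ g ∈ H)
    (h1 : ∀ t : G, IsConj z t → t ≠ z → t * z = z * t → ∀ g : G,
      g⁻¹ * (z * t) * g ∈ H ↔ g ∈ H)
    {a b : G} (hab : a⁻¹ * b ∉ H) : Odd (orderOf (a * z * a⁻¹ * (b * z * b⁻¹))) := by
  rw [← Nat.not_even_iff_odd]
  intro heven
  set u := a * z * a⁻¹ with hudef
  set v := b * z * b⁻¹ with hvdef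
  have hu : u * u = 1 := by
    calc u * u = a * (z * z) * a⁻¹ := by rw [hudef]; group
      _ = 1 := by rw [hz2]; group
  have hv : v * v = 1 := by
    calc v * v = b * (z * z) * b⁻¹ := by rw [hvdef]; group
      _ = 1 := by rw [hz2]; group
  have hcase := mul_half_isConj hu hv heven
  set k := (u * v) ^ (orderOf (u * v) / 2) with hkdef
  have hk2 : orderOf k = 2 := orderOf_pow_half heven (orderOf_pos _).ne'
  have hku : Commute k u := commute_pow_half (conj_mul_eq_inv hu hv) heven
  have hkv : Commute k v := commute_pow_half (conj_mul_eq_inv' hu hv) heven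
  have huz : IsConj z u := isConj_iff.2 ⟨a, rfl⟩
  have hvz : IsConj z v := isConj_iff.2 ⟨b, rfl⟩
  have huk : IsConj z (u * k) := by
    rcases hcase with h | h
    · exact huz.trans h
    · exact hvz.trans h.symm
  set t := a⁻¹ * (u * k) * a with htdef
  have htz : IsConj z t := huk.trans (isConj_iff.2 ⟨a⁻¹, by rw [htdef, inv_inv]⟩)
  have hzt : z * t = a⁻¹ * k * a := by
    calc z * t = z * z * (a⁻¹ * k * a) := by rw [htdef, hudef]; group
      _ = a⁻¹ * k * a := by rw [hz2, one_mul]
  have htne : t ≠ z := by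
    intro h
    rw [h, hz2] at hzt
    have : k = 1 := by
      calc k = a * (a⁻¹ * k * a) * a⁻¹ := by group
        _ = 1 := by rw [← hzt]; group
    exact ne_one_of_orderOf_two hk2 this
  have hcom : t * z = z * t := by
    rw [hzt]
    calc t * z = a⁻¹ * (u * (k * u)) * a := by rw [htdef, hudef]; group
      _ = a⁻¹ * (u * (u * k)) * a := by rw [hku.eq]
      _ = a⁻¹ * k * a := by rw [← mul_assoc u u k, hu, one_mul]
  apply hab
  apply (h1 t htz htne hcom (a⁻¹ * b)).1
  rw [hzt]
  have e : (a⁻¹ * b)⁻¹ * (a⁻¹ * k * a) * (a⁻¹ * b) = b⁻¹ * k * b := by group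
  rw [e]
  apply (h0 _).1
  have hcz : Commute z (b⁻¹ * k * b) := by
    show z * (b⁻¹ * k * b) = b⁻¹ * k * b * z
    calc z * (b⁻¹ * k * b) = b⁻¹ * (v * k) * b := by rw [hvdef]; group
      _ = b⁻¹ * (k * v) * b := by rw [hkv.eq]
      _ = b⁻¹ * k * b * z := by rw [hvdef]; group
  rw [mul_assoc, hcz.eq, inv_mul_cancel_left]
  simpa using (h0 1).2 (one_mem H)

/-- Under the two hypotheses, `z` centralises a Sylow 2-subgroup. -/
theorem index_odd : ∀ (n : ℕ) (G : Type u) [Group G] [Finite G], Nat.card G = n →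
    ∀ (z : G) (H : Subgroup G), z * z = 1 → z ≠ 1 → H ≠ ⊤ →
    (∀ g : G, g⁻¹ * z * g ∈ H ↔ g ∈ H) →
    (∀ t : G, IsConj z t → t ≠ z → t * z = z * t → ∀ g : G,
      g⁻¹ * (z * t) * g ∈ H ↔ g ∈ H) →
    ¬ 2 ∣ (Subgroup.centralizer {z}).index := by
  intro n
  induction n using Nat.strong_induction_on with
  | _ n ih =>
    intro G _ _ hn z H hz2 hz1 hH h0 h1 heven
    have : Fact (Nat.Prime 2) := ⟨Nat.prime_two⟩
    have hzH : z ∈ H := by simpa using (h0 1).2 (one_mem H)
    set C := Subgroup.centralizer {z} with hC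
    have hCH : ∀ c : G, c * z = z * c → c ∈ H := fun c hc => by
      apply (h0 c).1
      rw [mul_assoc, ← hc, inv_mul_cancel_left]; exact hzH
    -- a Sylow subgroup `S` of `C` below a Sylow subgroup `P` of `G`
    obtain ⟨S₀⟩ : Nonempty (Sylow 2 ↥C) := inferInstance
    set S : Subgroup G := (S₀ : Subgroup ↥C).map C.subtype with hS
    have hSC : S ≤ C := Subgroup.map_subtype_le _
    obtain ⟨P, hSP⟩ := (S₀.isPGroup'.map C.subtype).exists_le_sylow
    have hzS : z ∈ S := by
      have hzC : z ∈ C := Subgroup.mem_centralizer_singleton_iff.2 rfl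
      let z' : ↥C := ⟨z, hzC⟩
      have hcen : ∀ c : ↥C, c * z' = z' * c := fun c =>
        Subtype.ext (Subgroup.mem_centralizer_singleton_iff.1 c.2)
      have hnorm : (Subgroup.zpowers z').Normal := by
        refine ⟨fun x hx c => ?_⟩
        obtain ⟨k, rfl⟩ := Subgroup.mem_zpowers_iff.1 hx
        rw [((show Commute c z' from hcen c).zpow_right k).eq, mul_inv_cancel_right]
        exact zpow_mem (Subgroup.mem_zpowers z') k
      have hp : IsPGroup 2 ↥(Subgroup.zpowers z') := by
        refine IsPGroup.of_card (n := 1) ?_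
        rw [Nat.card_zpowers, pow_one]
        exact orderOf_two_of_mul_self (Subtype.ext hz2) (fun h => hz1 (congrArg Subtype.val h))
      have hsup := S₀.is_maximal' (S₀.isPGroup'.to_sup_of_normal_right hp) le_sup_left
      exact ⟨z', hsup ▸ (le_sup_right : _ ≤ (S₀ : Subgroup ↥C) ⊔ _) (Subgroup.mem_zpowers z'), rfl⟩
    have hne : S ≠ (P : Subgroup G) := by
      intro h
      exact P.not_dvd_index (heven.trans (Subgroup.index_dvd_of_le (h ▸ hSC)))
    obtain ⟨y, hyP, hyS, hy2, hyN⟩ := exists_normalizing P.isPGroup' hSP hne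
    have hyC : y * z ≠ z * y := fun h => hyS
      (sylow_inter_eq S₀ P hSP (Subgroup.mem_centralizer_singleton_iff.2 h) hyP)
    set t := y * z * y⁻¹ with htdef
    have htS : t ∈ S := hyN z hzS
    have htne : t ≠ z := by
      intro h
      apply hyC
      calc y * z = t * y := by rw [htdef]; group
        _ = z * y := by rw [h]
    have htz : t * z = z * t := Subgroup.mem_centralizer_singleton_iff.1 (hSC htS)
    have htconj : IsConj z t := isConj_iff.2 ⟨y, rfl⟩
    have h1t := h1 t htconj htne htz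
    obtain ⟨w, hwdef⟩ : ∃ w, w = z * t := ⟨_, rfl⟩
    rw [← hwdef] at h1t
    have hyy : y * t * y⁻¹ = z := by
      calc y * t * y⁻¹ = (y * y * z) * (y * y)⁻¹ := by rw [htdef]; group
        _ = (z * (y * y)) * (y * y)⁻¹ := by
          rw [Subgroup.mem_centralizer_singleton_iff.1 (hSC hy2)]
        _ = z := by group
    have hyw : y * w = w * y := by
      calc y * w = (y * z * y⁻¹) * (y * t * y⁻¹) * y := by rw [hwdef]; group
        _ = w * y := by rw [hyy, ← htdef, htz, hwdef]
    have hSw : ∀ s ∈ S, s * w = w * s := by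
      intro s hs
      have e1 : s * z = z * s := Subgroup.mem_centralizer_singleton_iff.1 (hSC hs)
      have e2 : s * t = t * s := by
        have hs' : y * s * y⁻¹ ∈ S := hyN s hs
        -- `y⁻¹ s y = y (y² )⁻¹ s y² y⁻¹`
        have hs'' : y⁻¹ * s * y ∈ S := by
          have := hyN _ (mul_mem (mul_mem (inv_mem hy2) hs) hy2)
          have e : y * ((y * y)⁻¹ * s * (y * y)) * y⁻¹ = y⁻¹ * s * y := by group
          rwa [e] at this
        have e3 := Subgroup.mem_centralizer_singleton_iff.1 (hSC hs'')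
        calc s * t = y * ((y⁻¹ * s * y) * z) * y⁻¹ := by rw [htdef]; group
          _ = y * (z * (y⁻¹ * s * y)) * y⁻¹ := by rw [e3]
          _ = t * s := by rw [htdef]; group
      rw [hwdef, ← mul_assoc, e1, mul_assoc, e2, ← mul_assoc]
    -- the centraliser of `w` is too big to lie in that of a conjugate of `z`
    have hbig : ∀ d : G, ¬ ∀ c : G, c * w = w * c → c * (d * z * d⁻¹) = d * z * d⁻¹ * c := by
      intro d hd
      set R : Subgroup G := (P : Subgroup G) ⊓ Subgroup.centralizer {w}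
      have hSR : S < R := by
        refine SetLike.lt_iff_le_and_exists.2 ⟨fun s hs => Subgroup.mem_inf.2
          ⟨hSP hs, Subgroup.mem_centralizer_singleton_iff.2 (hSw s hs)⟩, y,
          Subgroup.mem_inf.2 ⟨hyP, Subgroup.mem_centralizer_singleton_iff.2 hyw⟩, hyS⟩
      set R' : Subgroup G := R.map (MulAut.conj d⁻¹).toMonoidHom
      have hR'C : R' ≤ C := by
        rintro _ ⟨r, hr, rfl⟩
        have hr' := hd r (Subgroup.mem_centralizer_singleton_iff.1 (Subgroup.mem_inf.1 hr).2)
        rw [hC, Subgroup.mem_centralizer_singleton_iff]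
        show d⁻¹ * r * d⁻¹⁻¹ * z = z * (d⁻¹ * r * d⁻¹⁻¹)
        calc d⁻¹ * r * d⁻¹⁻¹ * z = d⁻¹ * (r * (d * z * d⁻¹)) * d := by group
          _ = d⁻¹ * ((d * z * d⁻¹) * r) * d := by rw [hr']
          _ = z * (d⁻¹ * r * d⁻¹⁻¹) := by group
      have hR'p : IsPGroup 2 ↥(R'.subgroupOf C) :=
        ((P.isPGroup'.to_le inf_le_left).map _).comap_of_injective _ C.subtype_injective
      obtain ⟨Q, hQ⟩ := hR'p.exists_le_sylow
      have e1 : Nat.card ↥R ≤ Nat.card ↥S := by
        calc Nat.card ↥R = Nat.card ↥R' :=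
              (Subgroup.card_map_of_injective (MulAut.conj d⁻¹).injective).symm
          _ = Nat.card ↥(R'.subgroupOf C) :=
              (Nat.card_congr (Subgroup.subgroupOfEquivOfLe hR'C).toEquiv).symm
          _ ≤ Nat.card ↥(Q : Subgroup ↥C) :=
              Nat.le_of_dvd Nat.card_pos (Subgroup.card_dvd_of_le hQ)
          _ = Nat.card ↥(S₀ : Subgroup ↥C) := Nat.card_congr (Q.equiv S₀).toEquiv
          _ = Nat.card ↥S := (Subgroup.card_map_of_injective C.subtype_injective).symm
      exact absurd (Subgroup.eq_of_le_of_card_ge hSR.le e1) hSR.ne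
    obtain ⟨g, hg⟩ : ∃ g : G, g ∉ H := by
      by_contra h
      push Not at h
      exact hH (eq_top_iff.2 fun g _ => h g)
    set z2 := g * z * g⁻¹ with hz2def
    have hz22 : z2 * z2 = 1 := by
      calc z2 * z2 = g * (z * z) * g⁻¹ := by rw [hz2def]; group
        _ = 1 := by rw [hz2]; group
    have ht2 : t * t = 1 := by
      calc t * t = y * (z * z) * y⁻¹ := by rw [htdef]; group
        _ = 1 := by rw [hz2]; group
    have hw2 : w * w = 1 := by
      calc w * w = z * (t * z) * t := by rw [hwdef]; group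
        _ = (z * z) * (t * t) := by rw [htz]; group
        _ = 1 := by rw [hz2, ht2, one_mul]
    have hnc : ¬ IsConj z2 w := by
      intro h
      obtain ⟨d, hd⟩ := isConj_iff.1 ((isConj_iff.2 ⟨g, rfl⟩ : IsConj z z2).trans h)
      exact hbig d (fun c hc => by rwa [hd])
    have hev : Even (orderOf (z2 * w)) := even_of_not_isConj hz22 hw2 hnc
    have hcase := mul_half_isConj hz22 hw2 hev
    set i := (z2 * w) ^ (orderOf (z2 * w) / 2) with hidef
    have hi2 : orderOf i = 2 := orderOf_pow_half hev (orderOf_pos _).ne'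
    have hiz : Commute i z2 := commute_pow_half (conj_mul_eq_inv hz22 hw2) hev
    have hiw : Commute i w := commute_pow_half (conj_mul_eq_inv' hz22 hw2) hev
    have hwH : w ∈ H := by simpa using (h1t 1).2 (one_mem H)
    have hCwH : ∀ c : G, c * w = w * c → c ∈ H := fun c hc => by
      apply (h1t c).1
      rw [mul_assoc, ← hc, inv_mul_cancel_left]; exact hwH
    have hiH : i ∈ H := hCwH i hiw.eq
    set X := Subgroup.centralizer {i} with hX
    have hXne : X ≠ ⊤ := by
      intro htop
      have hc : ∀ c : G, c * i = i * c := fun c =>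
        Subgroup.mem_centralizer_singleton_iff.1 (show c ∈ X by rw [htop]; trivial)
      rcases hcase with h | h
      · -- `z * i` is conjugate to `z`
        have hzi : IsConj z (z * i) := by
          refine ((isConj_iff.2 ⟨g, rfl⟩ : IsConj z z2).trans h).trans (isConj_iff.2 ⟨g⁻¹, ?_⟩)
          calc g⁻¹ * (z2 * i) * g⁻¹⁻¹ = z * g⁻¹ * (i * g) := by rw [hz2def]; group
            _ = z * g⁻¹ * (g * i) := by rw [hc g]
            _ = z * i := by group
        have hzi_ne : z * i ≠ z := fun e => ne_one_of_orderOf_two hi2 (mul_eq_left.1 e)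
        have hh := h1 (z * i) hzi hzi_ne
          (by rw [mul_assoc, ← hc z])
        apply hg
        apply (hh g).1
        rw [← mul_assoc z z i, hz2, one_mul, mul_assoc, ← hc g, inv_mul_cancel_left]
        exact hiH
      · obtain ⟨d, hd⟩ := isConj_iff.1 h
        refine hbig (d * g) (fun c hcw => ?_)
        have e : d * g * z * (d * g)⁻¹ = w * i := by
          calc d * g * z * (d * g)⁻¹ = d * z2 * d⁻¹ := by rw [hz2def]; group
            _ = d * (z2 * i * i) * d⁻¹ := by
              rw [mul_assoc z2, mul_self_of_orderOf_two hi2, mul_one]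
            _ = d * (z2 * i) * (i * d⁻¹) := by group
            _ = d * (z2 * i) * (d⁻¹ * i) := by rw [hc d⁻¹]
            _ = (d * (z2 * i) * d⁻¹) * i := by group
            _ = w * i := by rw [hd]
        rw [e, ← mul_assoc, hcw, mul_assoc, hc c, mul_assoc]
    have hXlt : Nat.card ↥X < n := by
      rw [← hn]
      by_contra hle
      push Not at hle
      exact hXne (Subgroup.eq_top_of_le_card _ hle)
    set H' := H.subgroupOf X with hH'
    have hwX : w ∈ X := Subgroup.mem_centralizer_singleton_iff.2 hiw.symm.eq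
    have hz2X : z2 ∈ X := Subgroup.mem_centralizer_singleton_iff.2 hiz.symm.eq
    -- a Sylow subgroup of `X` inside `H`
    let w' : ↥H' := ⟨⟨w, hwX⟩, hwH⟩
    have hw'p : IsPGroup 2 ↥(Subgroup.zpowers w') := by
      intro v
      obtain ⟨k, hk⟩ := Subgroup.mem_zpowers_iff.1 v.2
      refine ⟨1, Subtype.ext ?_⟩
      rw [SubgroupClass.coe_pow, OneMemClass.coe_one, pow_one, ← hk, ← zpow_natCast, ← zpow_mul,
        mul_comm, zpow_mul, zpow_natCast, sq,
        show w' * w' = 1 from Subtype.ext (Subtype.ext hw2), one_zpow]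
    obtain ⟨T₀, hT₀⟩ := hw'p.exists_le_sylow
    obtain ⟨U, hTU⟩ := (T₀.isPGroup'.map H'.subtype).exists_le_sylow
    have hTeq : (T₀ : Subgroup ↥H').map H'.subtype = (U : Subgroup ↥X) := by
      by_contra hne'
      obtain ⟨v, hvU, hvT, hvv, hvN⟩ := exists_normalizing U.isPGroup' hTU hne'
      have hwT : (⟨w, hwX⟩ : ↥X) ∈ (T₀ : Subgroup ↥H').map H'.subtype :=
        ⟨w', hT₀ (Subgroup.mem_zpowers w'), rfl⟩
      have hm : ((v * ⟨w, hwX⟩ * v⁻¹ : ↥X) : G) ∈ H := by
        have := Subgroup.map_subtype_le _ (hvN _ hwT)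
        exact this
      have hvH : (v : G)⁻¹ ∈ H := (h1t _).1 (by simpa [hwdef] using hm)
      exact hvT (sylow_inter_eq T₀ U hTU (show (v : G) ∈ H by simpa using inv_mem hvH) hvU)
    have hUH : (U : Subgroup ↥X) ≤ H' := hTeq ▸ Subgroup.map_subtype_le _
    obtain ⟨U', hU'⟩ : ∃ U' : Sylow 2 ↥X, Subgroup.zpowers (⟨z2, hz2X⟩ : ↥X) ≤ U' := by
      refine IsPGroup.exists_le_sylow ?_
      intro v
      obtain ⟨k, hk⟩ := Subgroup.mem_zpowers_iff.1 v.2
      refine ⟨1, Subtype.ext ?_⟩
      rw [SubgroupClass.coe_pow, OneMemClass.coe_one, pow_one, ← hk, ← zpow_natCast, ← zpow_mul,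
        mul_comm, zpow_mul, zpow_natCast, sq,
        show (⟨z2, hz2X⟩ : ↥X) * ⟨z2, hz2X⟩ = 1 from Subtype.ext hz22, one_zpow]
    obtain ⟨x, hx⟩ := MulAction.exists_smul_eq ↥X U' U
    have hxz : x * ⟨z2, hz2X⟩ * x⁻¹ ∈ (U : Subgroup ↥X) := by
      rw [← hx, Sylow.coe_subgroup_smul]
      exact ⟨⟨z2, hz2X⟩, hU' (Subgroup.mem_zpowers _), by simp [MulAut.smul_def]⟩
    set z3 : ↥X := x * ⟨z2, hz2X⟩ * x⁻¹ with hz3
    set h := (x : G) * g with hh
    have hz3G : (z3 : G) = h * z * h⁻¹ := by
      rw [hz3, hh]; push_cast; rw [hz2def]; group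
    have hz3H : (z3 : G) ∈ H := hUH hxz
    have hhH : h ∈ H := by
      have : h⁻¹ ∈ H := (h0 h⁻¹).1 (by rw [inv_inv, ← hz3G]; exact hz3H)
      simpa using inv_mem this
    have hH'ne : H' ≠ ⊤ := by
      intro htop
      apply hg
      have hxH : (x : G) ∈ H := by
        have : x ∈ H' := htop ▸ Subgroup.mem_top x
        exact this
      have e : g = (x : G)⁻¹ * h := by rw [hh]; group
      rw [e]; exact mul_mem (inv_mem hxH) hhH
    have h0' : ∀ c : ↥X, c⁻¹ * z3 * c ∈ H' ↔ c ∈ H' := by
      intro c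
      show ((c⁻¹ * z3 * c : ↥X) : G) ∈ H ↔ (c : G) ∈ H
      push_cast
      rw [hz3G, show (c : G)⁻¹ * (h * z * h⁻¹) * c = (h⁻¹ * c)⁻¹ * z * (h⁻¹ * c) by group, h0]
      exact Subgroup.mul_mem_cancel_left _ (inv_mem hhH)
    have h1' : ∀ r : ↥X, IsConj z3 r → r ≠ z3 → r * z3 = z3 * r → ∀ c : ↥X,
        c⁻¹ * (z3 * r) * c ∈ H' ↔ c ∈ H' := by
      intro r hr hrne hrc c
      set r' := h⁻¹ * (r : G) * h with hr'def
      have hr' : IsConj z r' := by
        refine ((isConj_iff.2 ⟨h, hz3G.symm⟩ : IsConj z (z3 : G)).trans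
          (X.subtype.map_isConj hr)).trans (isConj_iff.2 ⟨h⁻¹, ?_⟩)
        rw [hr'def, inv_inv]; rfl
      have hr'ne : r' ≠ z := by
        intro e
        apply hrne
        apply Subtype.ext
        rw [hz3G, ← e, hr'def]; group
      have hr'c : r' * z = z * r' := by
        have := congrArg (Subtype.val : ↥X → G) hrc
        push_cast at this
        rw [hz3G] at this
        calc r' * z = h⁻¹ * ((r : G) * (h * z * h⁻¹)) * h := by rw [hr'def]; group
          _ = h⁻¹ * ((h * z * h⁻¹) * (r : G)) * h := by rw [this]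
          _ = z * r' := by rw [hr'def]; group
      show ((c⁻¹ * (z3 * r) * c : ↥X) : G) ∈ H ↔ (c : G) ∈ H
      push_cast
      rw [hz3G, show (c : G)⁻¹ * (h * z * h⁻¹ * (r : G)) * c
        = (h⁻¹ * c)⁻¹ * (z * r') * (h⁻¹ * c) by rw [hr'def]; group, h1 r' hr' hr'ne hr'c]
      exact Subgroup.mul_mem_cancel_left _ (inv_mem hhH)
    have hz32 : z3 * z3 = 1 := Subtype.ext (by
      push_cast
      rw [hz3G]
      calc h * z * h⁻¹ * (h * z * h⁻¹) = h * (z * z) * h⁻¹ := by group
        _ = 1 := by rw [hz2]; group)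
    have hz31 : z3 ≠ 1 := by
      intro e
      apply hz1
      have := congrArg (Subtype.val : ↥X → G) e
      push_cast at this
      rw [hz3G] at this
      calc z = h⁻¹ * (h * z * h⁻¹) * h := by group
        _ = 1 := by rw [this]; group
    have hodd := ih (Nat.card ↥X) hXlt ↥X rfl z3 H' hz32 hz31 hH'ne h0' h1'
    have hz3H' : z3 ∈ H' := hz3H
    have hCX : Subgroup.centralizer {z3} ≤ H' := by
      intro c hc
      apply (h0' c).1
      rw [mul_assoc, ← Subgroup.mem_centralizer_singleton_iff.1 hc, inv_mul_cancel_left]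
      exact hz3H'
    have hcard1 : ¬ 2 ∣ Nat.card {u : ↥X // IsConj z3 u ∧ u ∈ H'} := by
      rw [class_inter_card z3 H' h0']
      intro h2
      exact hodd (h2.trans ⟨_, (Subgroup.relIndex_mul_index hCX).symm⟩)
    -- the fixed points of `i` on the conjugates of `z` in `H`
    let f : {u : G // IsConj z u ∧ u ∈ H} → {u : G // IsConj z u ∧ u ∈ H} := fun u =>
      ⟨i * u.1 * i⁻¹, u.2.1.trans (isConj_iff.2 ⟨i, rfl⟩),
        mul_mem (mul_mem hiH u.2.2) (inv_mem hiH)⟩
    have hff : ∀ u, f (f u) = u := fun u => Subtype.ext (by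
      show i * (i * u.1 * i⁻¹) * i⁻¹ = u.1
      calc i * (i * u.1 * i⁻¹) * i⁻¹ = (i * i) * u.1 * (i * i)⁻¹ := by group
        _ = u.1 := by rw [mul_self_of_orderOf_two hi2]; group)
    have hmod := invol_card_modEq f hff
    let toFix : {u : ↥X // IsConj z3 u ∧ u ∈ H'} → {a // f a = a} := fun u =>
      ⟨⟨(u.1 : G), (isConj_iff.2 ⟨h, hz3G.symm⟩ : IsConj z (z3 : G)).trans
          (X.subtype.map_isConj u.2.1), u.2.2⟩,
        Subtype.ext (by
          show i * (u.1 : G) * i⁻¹ = u.1
          rw [← Subgroup.mem_centralizer_singleton_iff.1 u.1.2, mul_inv_cancel_right])⟩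
    have hbij : Function.Bijective toFix := by
      constructor
      · intro a b hab
        exact Subtype.ext (Subtype.ext (congrArg (fun q => (q.1.1 : G)) hab))
      · rintro ⟨⟨u, hu, huH⟩, hfix⟩
        have hfix' : i * u * i⁻¹ = u := congrArg Subtype.val hfix
        have huX : u ∈ X := Subgroup.mem_centralizer_singleton_iff.2 (by
          calc u * i = i * u * i⁻¹ * i := by rw [hfix']
            _ = i * u := by group)
        obtain ⟨a, ha⟩ := isConj_iff.1 hu
        have haH : a ∈ H := by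
          have : a⁻¹ ∈ H := (h0 a⁻¹).1 (by rw [inv_inv, ha]; exact huH)
          simpa using inv_mem this
        have hag : a⁻¹ * g ∉ H := fun e => hg
          ((Subgroup.mul_mem_cancel_left _ (inv_mem haH)).1 e)
        have ho := odd_mul z H hz2 h0 h1 hag
        rw [ha, ← hz2def] at ho
        have hu2 : u * u = 1 := by
          rw [← ha]
          calc a * z * a⁻¹ * (a * z * a⁻¹) = a * (z * z) * a⁻¹ := by group
            _ = 1 := by rw [hz2]; group
        obtain ⟨d, hdX, hd⟩ := isConj_in_of_odd huX hz2X hu2 hz22 ho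
        have hc1 : IsConj (⟨u, huX⟩ : ↥X) ⟨z2, hz2X⟩ :=
          isConj_iff.2 ⟨⟨d, hdX⟩, Subtype.ext hd⟩
        have hc2 : IsConj (⟨z2, hz2X⟩ : ↥X) z3 := isConj_iff.2 ⟨x, rfl⟩
        exact ⟨⟨⟨u, huX⟩, (hc1.trans hc2).symm, huH⟩, rfl⟩
    rw [← Nat.card_eq_of_bijective toFix hbij, class_inter_card z H h0] at hmod
    have hrel : 2 ∣ C.relIndex H := by
      have hle : C ≤ H := fun c hc => hCH c (Subgroup.mem_centralizer_singleton_iff.1 hc)
      have := heven
      rw [← Subgroup.relIndex_mul_index hle] at this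
      exact (Nat.prime_two.dvd_mul.1 this).resolve_right (index_H_odd z H hz2 h0)
    exact hcard1 ((Nat.modEq_zero_iff_dvd).1 (hmod.symm.trans (Nat.modEq_zero_iff_dvd.2 hrel)))

end Cfsg.Agent.IsoPointInvol
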