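import Cfsg.Agent.Lib.Basics.FrobeniusBasic
import Cfsg.Agent.Lib.Transfer.Residual
import Cfsg.Agent.Lib.ConjFunctor.Basic

/-!
# An isolated p-element centralizing every p'-subgroup it normalizes is central
-/

set_option autoImplicit false
set_option linter.style.haveILetI false

namespace Cfsg.Agent.Tech

open Subgroup Cfsg

universe u

theorem central_of_isolated (p : ℕ) [hp : Fact p.Prime] :
    ∀ (n : ℕ) (G : Type u) [Group G] [Finite G], Nat.card G = n → ∀ x : G,
      (∃ k : ℕ, x ^ p ^ k = 1) →
      (∀ g : G, Commute (g * x * g⁻¹) x → g * x * g⁻¹ = x) →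
      (∀ H : Subgroup G, (Nat.card H).Coprime p → (∀ h ∈ H, x * h * x⁻¹ ∈ H) →
        ∀ h ∈ H, x * h = h * x) →
      x ∈ center G := by
  intro n
  induction n using Nat.strong_induction_on with
  | _ n ih =>
    intro G _ _ hn x hxp hiso hb
    by_contra hxZ
    set C := centralizer ({x} : Set G) with hC
    have hxC : x ∈ C := mem_centralizer_singleton_iff.mpr rfl
    have hsub : ∀ H : Subgroup G, H ≠ ⊤ → x ∈ H → H ≤ C := by
      intro H hH hxH
      obtain ⟨k, hk⟩ := hxp
      have hlt : Nat.card H < n := hn ▸ lt_of_le_of_ne (Subgroup.card_le_card_group H)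
        fun he => hH (eq_top_of_card_eq H he)
      have h1 := ih _ hlt H rfl ⟨x, hxH⟩ ⟨k, Subtype.ext (by simpa using hk)⟩
        (fun g hg => Subtype.ext (hiso g (hg.map H.subtype)))
        (fun U hU hinv h hh => Subtype.ext (hb (U.map H.subtype)
          (by rwa [card_map_of_injective H.subtype_injective])
          (by rintro _ ⟨u, hu, rfl⟩; exact ⟨_, hinv u hu, rfl⟩) h ⟨h, hh, rfl⟩))
      exact fun h hh => mem_centralizer_singleton_iff.mpr
        (congrArg Subtype.val (mem_center_iff.mp h1 ⟨h, hh⟩))
    set Z := center G with hZ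
    set π := QuotientGroup.mk' Z
    have hZC : Z ≤ C := fun z hz => mem_centralizer_singleton_iff.mpr (mem_center_iff.mp hz x).symm
    set Cb := C.map π with hCb
    have hmemCb : ∀ g : G, π g ∈ Cb → g ∈ C := fun g hg => by
      have h1 : g ∈ Cb.comap π := hg
      rwa [hCb, comap_map_eq, QuotientGroup.ker_mk', sup_eq_left.mpr hZC] at h1
    -- `C` is a TI subgroup modulo the centre
    have hF : Cfsg.IsFrobeniusComplement Cb := by
      refine ⟨fun h => hxZ ?_, fun h => hxZ ?_, fun g hg => ?_⟩
      · exact (QuotientGroup.eq_one_iff x).mp (mem_bot.mp (h ▸ mem_map_of_mem π hxC))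
      · exact mem_center_iff.mpr fun g =>
          mem_centralizer_singleton_iff.mp (hmemCb g (h ▸ mem_top (π g)))
      · obtain ⟨g, rfl⟩ := QuotientGroup.mk'_surjective Z g
        refine (eq_bot_iff_forall _).mpr fun v hv => ?_
        obtain ⟨hv1, hv2⟩ := mem_inf.mp hv
        obtain ⟨c, hc, rfl⟩ := hv1
        rw [Subgroup.mem_pointwise_smul_iff_inv_smul_mem] at hv2
        have hv3 : π (g⁻¹ * c * g) ∈ Cb := by simpa [π, MulAut.smul_def, mul_assoc] using hv2
        by_contra hc1
        have hcZ : c ∉ Z := fun h => hc1 ((QuotientGroup.eq_one_iff c).mpr h)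
        have hCc : centralizer ({c} : Set G) ≠ ⊤ := fun h => hcZ (mem_center_iff.mpr fun y =>
          mem_centralizer_singleton_iff.mp (h ▸ mem_top y))
        have hcx : x ∈ centralizer ({c} : Set G) :=
          mem_centralizer_singleton_iff.mpr (mem_centralizer_singleton_iff.mp hc).symm
        have hcy : g * x * g⁻¹ ∈ centralizer ({c} : Set G) := by
          have h1 := mem_centralizer_singleton_iff.mp (hmemCb _ hv3)
          refine mem_centralizer_singleton_iff.mpr ?_
          calc g * x * g⁻¹ * c = g * (x * (g⁻¹ * c * g)) * g⁻¹ := by group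
            _ = g * ((g⁻¹ * c * g) * x) * g⁻¹ := by rw [h1]
            _ = c * (g * x * g⁻¹) := by group
        have h2 := mem_centralizer_singleton_iff.mp (hsub _ hCc hcx hcy)
        have h3 := hiso g h2
        exact hg (mem_map_of_mem π (mem_centralizer_singleton_iff.mpr (mul_inv_eq_iff_eq_mul.mp h3)))
    obtain ⟨N, -, hNn, hNc, hNcard⟩ := Basics.frobenius_kernel_exists hF
    haveI := hNn
    set K := N.comap π with hK
    haveI : K.Normal := inferInstance
    have hNC : N ⊓ Cb = ⊥ := hNc.disjoint.eq_bot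
    have hKC : ¬ K ≤ C := by
      intro hle
      have h1 : N ≤ Cb := fun v hv => by
        obtain ⟨g, rfl⟩ := QuotientGroup.mk'_surjective Z v
        exact mem_map_of_mem π (hle hv)
      rw [inf_eq_left.mpr h1] at hNC
      rw [hNC, isComplement'_bot_left] at hNc
      exact hF.2.1 hNc
    by_cases htop : K ⊔ zpowers x = ⊤
    · -- `C` is `⟨x⟩` modulo the centre
      have hCx : Cb ≤ zpowers (π x) := by
        intro v hv
        obtain ⟨g, rfl⟩ := QuotientGroup.mk'_surjective Z v
        obtain ⟨k, hk, u, hu, rfl⟩ := mem_sup_of_normal_left.mp (htop.symm ▸ mem_top g : g ∈ K ⊔ zpowers x)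
        have hu' : π u ∈ zpowers (π x) := by
          obtain ⟨i, rfl⟩ := mem_zpowers_iff.mp hu
          exact mem_zpowers_iff.mpr ⟨i, (map_zpow π x i).symm⟩
        have huC : π u ∈ Cb := by
          obtain ⟨i, rfl⟩ := mem_zpowers_iff.mp hu
          rw [map_zpow]
          exact zpow_mem (mem_map_of_mem π hxC) i
        have hkC : π k ∈ Cb := by
          have := Cb.mul_mem hv (inv_mem huC)
          rwa [map_mul, mul_inv_cancel_right] at this
        have hk1 : π k = 1 := by
          have := (mem_inf (p := N) (p' := Cb) (x := π k)).mpr ⟨hk, hkC⟩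
          rwa [hNC, mem_bot] at this
        rw [map_mul, hk1, one_mul]
        exact hu'
      obtain ⟨e, he⟩ := hxp
      have hCp : IsPGroup p Cb := by
        intro v
        obtain ⟨i, hi⟩ := mem_zpowers_iff.mp (hCx v.2)
        refine ⟨e, Subtype.ext ?_⟩
        rw [SubmonoidClass.coe_pow, ← hi, ← zpow_natCast, ← zpow_mul, mul_comm, zpow_mul,
          zpow_natCast, ← map_pow, he, map_one, one_zpow, OneMemClass.coe_one]
      obtain ⟨m, hm⟩ := hCp.exists_card_eq
      have hm0 : m ≠ 0 := by
        rintro rfl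
        exact hF.1 (eq_bot_of_card_eq _ (by simpa using hm))
      have hdvd := Basics.frobenius_index_modEq hF
      have hNp : ¬ p ∣ Nat.card N := by
        intro hd
        have h1 : p ∣ Nat.card Cb := hm ▸ dvd_pow_self p hm0
        have h2 := Nat.dvd_sub (hNcard ▸ hd) (h1.trans hdvd)
        have hi : 0 < Cb.index := Nat.pos_of_ne_zero FiniteIndex.index_ne_zero
        rw [show Cb.index - (Cb.index - 1) = 1 by omega] at h2
        exact hp.out.ne_one (Nat.dvd_one.mp h2)
      -- the p'-part of `K`
      obtain ⟨P⟩ : Nonempty (Sylow p K) := inferInstance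
      have hPZ : ∀ u ∈ (P : Subgroup K), (u : G) ∈ Z := by
        intro u hu
        obtain ⟨j, hj⟩ := P.2 ⟨u, hu⟩
        have h1 : orderOf (π (u : G)) ∣ p ^ j := orderOf_dvd_of_pow_eq_one (by
          rw [← map_pow, show (u : G) ^ p ^ j = 1 from
            congrArg (fun w : ↥(P : Subgroup K) => ((w : K) : G)) hj, map_one])
        have h2 : orderOf (π (u : G)) ∣ Nat.card N :=
          Subgroup.orderOf_coe (⟨π (u : G), u.2⟩ : N) ▸ orderOf_dvd_natCard _
        exact (QuotientGroup.eq_one_iff _).mp (orderOf_eq_one_iff.mp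
          (Nat.eq_one_of_dvd_coprimes ((hp.out.coprime_iff_not_dvd.mpr hNp).pow_left j) h1 h2))
      have hNP : normalizer ((P : Subgroup K) : Set K) ≤ centralizer ((P : Subgroup K) : Set K) :=
        fun g _ => mem_centralizer_iff.mpr fun u hu =>
          Subtype.ext (mem_center_iff.mp (hPZ u hu) g).symm
      haveI : IsMulCommutative ↥(P : Subgroup K) :=
        ⟨⟨fun a b => Subtype.ext (Subtype.ext (mem_center_iff.mp (hPZ b b.2) _))⟩⟩
      letI : CommGroup ↥(P : Subgroup K) :=
        { (inferInstance : Group ↥(P : Subgroup K)) with mul_comm := mul_comm' }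
      set τ := MonoidHom.transferSylow P hNP
      have hcomp := MonoidHom.ker_transferSylow_isComplement' P hNP
      set K0 := τ.ker.map K.subtype with hK0
      have hK0p : (Nat.card K0).Coprime p := by
        rw [hK0, card_map_of_injective K.subtype_injective]
        refine (hp.out.coprime_iff_not_dvd.mpr ?_).symm
        rw [← hcomp.index_eq_card]
        exact P.not_dvd_index
      have hinv : ∀ h ∈ K0, x * h * x⁻¹ ∈ K0 := by
        rintro _ ⟨h, hh, rfl⟩
        refine ⟨⟨x * (h : G) * x⁻¹, (inferInstance : K.Normal).conj_mem _ h.2 x⟩, ?_, rfl⟩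
        rw [SetLike.mem_coe, MonoidHom.mem_ker]
        set h' : K := ⟨x * (h : G) * x⁻¹, (inferInstance : K.Normal).conj_mem _ h.2 x⟩
        obtain ⟨j, hj⟩ := P.2 (τ h')
        have h1 : orderOf (τ h') ∣ p ^ j := orderOf_dvd_of_pow_eq_one hj
        have h2 : orderOf (τ h') ∣ orderOf (h : G) := by
          refine (orderOf_map_dvd τ h').trans ?_
          rw [← Subgroup.orderOf_coe h', show (h' : G) = MulAut.conj x (h : G) from rfl,
            MulEquiv.orderOf_eq]
        have h3 : orderOf (h : G) ∣ Nat.card K0 := by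
          rw [← Subgroup.orderOf_mk (h : G) (mem_map_of_mem K.subtype hh)]
          exact orderOf_dvd_natCard _
        exact orderOf_eq_one_iff.mp (Nat.eq_one_of_dvd_coprimes (hK0p.symm.pow_left j) h1 (h2.trans h3))
      have hK0C : K0 ≤ C := fun h hh => mem_centralizer_singleton_iff.mpr (hb K0 hK0p hinv h hh).symm
      refine hKC fun k hk => ?_
      have hsup := hcomp.sup_eq_top
      have h4 : (⟨k, hk⟩ : K) ∈ τ.ker ⊔ (P : Subgroup K) := hsup ▸ mem_top _
      obtain ⟨a, ha, b, hb', hab⟩ := mem_sup_of_normal_left.mp h4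
      rw [show k = (a : G) * (b : G) from (congrArg Subtype.val hab).symm]
      exact mul_mem (hK0C (mem_map_of_mem _ ha)) (hZC (hPZ b hb'))
    · exact hKC (le_sup_left.trans (hsub _ htop (mem_sup_right (mem_zpowers x))))

end Cfsg.Agent.Tech
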