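import Cfsg.Agent.Lib.Tech.LocalToGlobal

/-!
Sequences of moves inside a subgroup by elements of a given set.
-/

set_option autoImplicit false

namespace Cfsg.Agent.Tech

open Subgroup
open Cfsg.Agent.ConjFunctor

variable {G : Type*} [Group G] {P : Subgroup G} {U : Set G}

/-- The list moves `A` step by step inside `P` by elements of `U` (right conjugation). -/
def Moves (P : Subgroup G) (U : Set G) : Set G → List G → Prop
  | A, [] => A ⊆ (P : Set G)
  | A, b :: l => A ⊆ (P : Set G) ∧ b ∈ U ∧ Moves P U ((fun a => b⁻¹ * a * b) '' A) l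

theorem Moves.mono : ∀ (l : List G) {A B : Set G}, A ⊆ B → Moves P U B l → Moves P U A l
  | [], _, _, hAB, h => hAB.trans h
  | _ :: l, _, _, hAB, h => ⟨hAB.trans h.1, h.2.1, Moves.mono l (Set.image_mono hAB) h.2.2⟩

theorem Moves.append : ∀ (l l' : List G) {A : Set G}, Moves P U A l →
    Moves P U ((fun a => l.prod⁻¹ * a * l.prod) '' A) l' → Moves P U A (l ++ l')
  | [], l', A, _, h => by simpa using h
  | b :: l, l', A, h, h' =>
    ⟨h.1, h.2.1, Moves.append l l' h.2.2 (by simpa [Set.image_image, mul_assoc] using h')⟩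

theorem Moves.mem : ∀ (l : List G) {A : Set G}, Moves P U A l → ∀ b ∈ l, b ∈ U
  | [], _, _, b, hb => by simp at hb
  | c :: l, A, h, b, hb => by
    rcases List.mem_cons.mp hb with rfl | hb
    · exact h.2.1
    · exact Moves.mem l h.2.2 b hb

theorem Moves.spec : ∀ (l : List G) {A : Set G}, Moves P U A l → ∀ k : ℕ,
    (fun a => ((l.take k).prod)⁻¹ * a * (l.take k).prod) '' A ⊆ (P : Set G)
  | [], A, h, k => by simpa [Moves] using h
  | c :: l, A, h, 0 => by simpa using h.1
  | c :: l, A, h, k + 1 => by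
    simpa [Set.image_image, mul_assoc] using Moves.spec l h.2.2 k

theorem Moves.reverse (hU : ∀ b ∈ U, b⁻¹ ∈ U) : ∀ (l : List G) {A : Set G}, Moves P U A l →
    ∃ l', l'.prod = l.prod⁻¹ ∧ Moves P U ((fun a => l.prod⁻¹ * a * l.prod) '' A) l'
  | [], A, h => ⟨[], by simp, by simpa [Moves] using h⟩
  | b :: l, A, h => by
    obtain ⟨l', hl', hm⟩ := Moves.reverse hU l h.2.2
    refine ⟨l' ++ [b⁻¹], by simp [hl'], Moves.append l' _ (by simpa [Set.image_image, mul_assoc] using hm) ?_⟩
    rw [hl']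
    refine ⟨?_, hU b h.2.1, ?_⟩
    · rintro _ ⟨_, ⟨a, ha, rfl⟩, rfl⟩
      have := Moves.spec (b :: l) h 1
      have h2 := this ⟨a, ha, rfl⟩
      simp only [List.take_succ_cons, List.take_zero, List.prod_cons, List.prod_nil, mul_one] at h2
      simpa [mul_assoc] using h2
    · rintro _ ⟨_, ⟨_, ⟨a, ha, rfl⟩, rfl⟩, rfl⟩
      simpa [mul_assoc] using h.1 ha

/-- `g` acts on `A` as a sequence of moves inside `P`. -/
def MovesTo (P : Subgroup G) (U : Set G) (A : Set G) (g : G) : Prop :=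
  ∃ l : List G, Moves P U A l ∧ ∀ a ∈ A, g * a * g⁻¹ = l.prod⁻¹ * a * l.prod

end Cfsg.Agent.Tech
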