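import Cfsg.Agent.Lib.ConjFunctor.Family

/-!
Global control by a conjugacy functor from control in normalizers of subgroups containing `Z(P)`.
-/

set_option autoImplicit false

namespace Cfsg.Agent.Tech

open Subgroup
open Cfsg.Agent.ConjFunctor

variable {G : Type*} [Group G] [Finite G] {p : ℕ} [Fact p.Prime]
variable {W : Subgroup G → Subgroup G}

theorem center_le_center (P : Sylow p G) {H : Subgroup G} (hH : H ≤ (P : Subgroup G))
    (h : (P : Subgroup G) ⊓ centralizer ((P : Subgroup G) : Set G) ≤ H) :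
    (P : Subgroup G) ⊓ centralizer ((P : Subgroup G) : Set G) ≤ H ⊓ centralizer (H : Set G) :=
  le_inf h (inf_le_right.trans (centralizer_le hH))

/-- An induction principle over the towers of well-placed subgroups containing `Z(P)`. -/
theorem local_to_global (P : Sylow p G) (hW : Cfsg.IsConjugacyFunctor p W)
    (hWZ : ∀ H : Subgroup G, IsPGroup p H → H ⊓ centralizer (H : Set G) ≤ W H)
    (R : Set G → G → Prop)
    (hmono : ∀ {A B : Set G} {g : G}, A ⊆ B → R B g → R A g)
    (hcongr : ∀ {A : Set G} {g h : G}, (∀ a ∈ A, g * a * g⁻¹ = h * a * h⁻¹) → R A g → R A h)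
    (hmul : ∀ {A : Set G} {g h : G}, R A g → R (cS g A) h → R A (h * g))
    (hinv : ∀ {A : Set G} {g : G}, R A g → R (cS g A) g⁻¹)
    (hbase : ∀ (A : Set G), A ⊆ (P : Subgroup G) → ∀ y ∈ normalizer ((W (P : Subgroup G) : Subgroup G) : Set G),
      cS y A ⊆ (P : Subgroup G) → R A y)
    (hstep : ∀ T : Subgroup G, T ≤ (P : Subgroup G) →
      (P : Subgroup G) ⊓ centralizer ((P : Subgroup G) : Set G) ≤ T →
      IsFN p (P : Subgroup G) T → ∀ (A : Set G), A ⊆ nS (P : Subgroup G) T →
      ∀ x ∈ normalizer (T : Set G), cS x A ⊆ (P : Subgroup G) →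
      IsFN p (P : Subgroup G) (W (nS (P : Subgroup G) T)) →
      (∀ (B : Set G), B ⊆ nS (P : Subgroup G) (W (nS (P : Subgroup G) T)) →
        ∀ y ∈ normalizer ((W (nS (P : Subgroup G) T) : Subgroup G) : Set G), cS y B ⊆ (P : Subgroup G) → R B y) →
      R A x)
    (A : Set G) (g : G) (hA : A ⊆ (P : Subgroup G)) (hg : cS g A ⊆ (P : Subgroup G)) : R A g := by
  set Z := (P : Subgroup G) ⊓ centralizer ((P : Subgroup G) : Set G) with hZdef
  have htower : ∀ T, Cfsg.IsWellPlaced p W (P : Subgroup G) T → Z ≤ T →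
      ∀ (A : Set G), A ⊆ nS (P : Subgroup G) T → ∀ x ∈ normalizer (T : Set G),
        cS x A ⊆ (P : Subgroup G) → R A x := by
    intro T hT
    refine tower_induction P hW
      (fun T => Z ≤ T → ∀ (A : Set G), A ⊆ nS (P : Subgroup G) T → ∀ x ∈ normalizer (T : Set G),
        cS x A ⊆ (P : Subgroup G) → R A x) ?_ ?_ T hT
    · intro T hT heq hZT A hA x hx hxA
      refine hstep T hT.1 hZT (wellPlaced_fn P hT) A hA x hx hxA
        (wellPlaced_fn P (wellPlaced_next P hW hT)) fun B hB y hy hyB => ?_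
      rw [heq] at hy hB
      exact hbase B (hB.trans fun v hv => (Subgroup.mem_inf.mp hv).1) y hy hyB
    · intro T hT _ ih hZT A hA x hx hxA
      have hp' : IsPGroup p (nS (P : Subgroup G) T) := P.2.to_le inf_le_left
      have hZ' : Z ≤ W (nS (P : Subgroup G) T) :=
        (center_le_center P inf_le_left (hZT.trans (le_nS hT.1))).trans (hWZ _ hp')
      exact hstep T hT.1 hZT (wellPlaced_fn P hT) A hA x hx hxA
        (wellPlaced_fn P (wellPlaced_next P hW hT)) fun B hB y hy hyB => ih hZ' B hB y hy hyB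
  suffices H : ∀ n, ∀ T : Subgroup G, T ≤ (P : Subgroup G) → Nat.card (P : Subgroup G) ≤
      Nat.card T + n → ∀ g : G, cj g T ≤ (P : Subgroup G) → R (T : Set G) g by
    exact hmono subset_closure (H (Nat.card (P : Subgroup G)) (closure A) ((closure_le _).mpr hA)
      (Nat.le_add_left _ _) g (cj_le_of_cS hg))
  intro n
  induction n with
  | zero =>
    intro T hT hn g hg
    have hTS : T = (P : Subgroup G) := eq_of_le_of_card_ge hT (by simpa using hn)
    subst hTS
    refine hbase _ (Set.Subset.refl _) g ?_ hg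
    exact normalizer_le_functor hW P.2 (cj_eq_iff.mp (eq_of_le_of_card_ge hg (by rw [cj_card])))
  | succ n ih =>
    intro T hT hn g hg
    by_cases hTS : T = (P : Subgroup G)
    · subst hTS
      exact ih _ le_rfl (Nat.le_add_right _ _) g hg
    have hbig : ∀ V : Subgroup G, V ≤ (P : Subgroup G) → Nat.card T < Nat.card V →
        ∀ a : G, cj a V ≤ (P : Subgroup G) → R (V : Set G) a :=
      fun V hV hlt a ha => ih V hV (by omega) a ha
    have key : ∀ V : Subgroup G, V ≤ (P : Subgroup G) → Nat.card V = Nat.card T →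
        ∀ a U, IsFN p (P : Subgroup G) U → cj a V = U →
        ∃ m ∈ normalizer (U : Set G), cj (m * a) V = U ∧ R (V : Set G) (m * a) := by
      intro V hV hVc a U hU ha
      have hne : V ≠ (P : Subgroup G) := fun hh =>
        hTS (eq_of_le_of_card_ge hT (by rw [← hVc, hh]))
      obtain ⟨m, hm, h1, h2⟩ := exists_conj_nS P.2 hU a ha
      refine ⟨m, hm, h1, hmono (le_nS hV) (hbig _ inf_le_left ?_ (m * a) (h2.trans inf_le_left))⟩
      rw [← hVc]
      exact card_lt_of_lt' (lt_nS P.2 hV hne)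
    obtain ⟨a, hwp⟩ := exists_wellPlaced P hW hT
    set U := cj a T with hUdef
    have hUS := wellPlaced_fn P hwp
    have mid : ∀ z ∈ normalizer (U : Set G), R (U : Set G) z := by
      intro z hz
      by_cases hZU : Z ≤ U
      · exact htower U hwp hZU _ (le_nS hUS.1) z hz ((cS_subset_of_mem hz subset_rfl).trans hUS.1)
      set C := centralizer (U : Set G) with hC
      set C₁ := (P : Subgroup G) ⊓ C with hC₁
      have hlt : Nat.card T < Nat.card (U ⊔ C₁ : Subgroup G) := by
        rw [← cj_card a T]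
        refine card_lt_of_lt' (lt_of_le_not_ge le_sup_left fun h => hZU ?_)
        exact (le_inf inf_le_left (inf_le_right.trans (centralizer_le hUS.1))).trans (le_sup_right.trans h)
      have hzC : ∀ c ∈ C, z * c * z⁻¹ ∈ C := fun c hc => mem_centralizer_iff.mpr fun u hu => by
        have h2 := mem_centralizer_iff.mp hc _ ((mem_normalizer_iff''.mp hz u).mp hu)
        calc u * (z * c * z⁻¹) = z * (z⁻¹ * u * z * c) * z⁻¹ := by group
          _ = z * c * z⁻¹ * u := by rw [h2]; group
      obtain ⟨C', hC', hle'⟩ := exists_isSylIn_ge (p := p) (inf_le_right : C₁ ≤ C) (P.2.to_le inf_le_left)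
      have hCC : C' = C₁ := by
        obtain ⟨h, hhN, hh⟩ := exists_conj_le_of_isSylIn (hUS.sylIn P.2)
          (hC'.1.trans (centralizer_le_normalizer _)) hC'.2.1
        refine (eq_of_le_of_card_ge hle' ?_).symm
        rw [← cj_card h C']
        refine card_le_of_le (le_inf (hh.trans inf_le_left) ?_)
        rintro _ ⟨c, hc, rfl⟩
        exact mem_centralizer_iff.mpr fun u hu => by
          have h2 := mem_centralizer_iff.mp (hC'.1 hc) _ ((mem_normalizer_iff''.mp hhN u).mp hu)
          show u * (h * c * h⁻¹) = h * c * h⁻¹ * u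
          calc u * (h * c * h⁻¹) = h * (h⁻¹ * u * h * c) * h⁻¹ := by group
            _ = h * c * h⁻¹ * u := by rw [h2]; group
      rw [hCC] at hC'
      obtain ⟨c, hc, hcle⟩ := exists_conj_le_of_isSylIn hC'
        (show cj z C₁ ≤ C by rintro _ ⟨x, hx, rfl⟩; exact hzC x (Subgroup.mem_inf.mp hx).2)
        (cj_isPGroup z (P.2.to_le inf_le_left))
      rw [← cj_mul] at hcle
      have hcz : c * z ∈ normalizer (U : Set G) := mul_mem (centralizer_le_normalizer _ hc) hz
      have h1 := hbig (U ⊔ C₁) (sup_le hUS.1 inf_le_left) hlt (c * z) (by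
        show Subgroup.map _ _ ≤ _
        rw [Subgroup.map_sup]
        exact sup_le ((cj_eq_iff.mpr hcz).le.trans hUS.1) (hcle.trans inf_le_left))
      refine hcongr (fun u hu => ?_) (hmono (show (U : Set G) ⊆ ((U ⊔ C₁ : Subgroup G) : Set G) from
        fun u hu => mem_sup_left hu) h1)
      have h2 := mem_centralizer_iff.mp hc _ ((mem_normalizer_iff.mp hz u).mp hu)
      calc c * z * u * (c * z)⁻¹ = c * (z * u * z⁻¹) * c⁻¹ := by group
        _ = z * u * z⁻¹ := by rw [← h2]; group
    obtain ⟨m₁, hm₁, h₁, s₁⟩ := key T hT rfl a U hUS rfl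
    obtain ⟨m₂, hm₂, h₂, s₂⟩ := key (cj g T) hg (cj_card g T) (a * g⁻¹) U hUS
      (by rw [← cj_mul]; simp [hUdef])
    set a₁ := m₁ * a
    set a₂ := m₂ * (a * g⁻¹)
    have hn' : a₂ * g * a₁⁻¹ ∈ normalizer (U : Set G) := by
      have : a₂ * g * a₁⁻¹ = m₂ * m₁⁻¹ := by simp [a₁, a₂, mul_assoc]
      rw [this]
      exact mul_mem hm₂ (inv_mem hm₁)
    have hA₁ : cS a₁ (T : Set G) = (U : Set G) := by rw [← coe_cj, h₁]
    have hA₂ : cS a₂ ((cj g T : Subgroup G) : Set G) = (U : Set G) := by rw [← coe_cj, h₂]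
    have s₃ : R (cS a₁ (T : Set G)) (a₂ * g * a₁⁻¹) := by rw [hA₁]; exact mid _ hn'
    have s₂' : R (U : Set G) a₂⁻¹ := by
      have := hinv s₂
      rwa [hA₂] at this
    have e1 : cS (a₂ * g * a₁⁻¹ * a₁) (T : Set G) = (U : Set G) := by
      rw [inv_mul_cancel_right, cS_mul, ← coe_cj g T, hA₂]
    have := hmul (hmul s₁ s₃) (by rw [e1]; exact s₂')
    simpa [mul_assoc] using this

end Cfsg.Agent.Tech
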