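import Cfsg.Agent.Lib.Coprime23.Omega
import Cfsg.Agent.Lib.Transfer.Quadratic
import Cfsg.Agent.Lib.Invol.MaxClassApps
import Cfsg.Prelude.Def_OddOrderLocal

/-!
# Metacyclic 2-groups with an automorphism of odd order
-/

set_option autoImplicit false
set_option linter.style.haveILetI false

namespace Cfsg.Agent.Tech

open Subgroup Cfsg
open scoped commutatorElement

/-- A cyclic 2-group is fixed pointwise by its automorphisms of odd order. -/
theorem fix_cyclic_two {C : Type*} [Group C] [Finite C] [IsCyclic C] (hC : IsPGroup 2 C)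
    (σ : MulAut C) (hσ : Odd (orderOf σ)) : ∀ c : C, σ c = c := by
  haveI : Fact (Nat.Prime 2) := ⟨Nat.prime_two⟩
  obtain ⟨k, hk⟩ := hC.exists_card_eq
  rcases k.eq_zero_or_pos with rfl | hk0
  · intro c
    haveI := (Nat.card_eq_one_iff_unique.mp (by simpa using hk)).1
    exact Subsingleton.elim _ _
  have h1 : Nat.card (MulAut C) = 2 ^ (k - 1) := by
    rw [IsCyclic.card_mulAut, hk, Nat.totient_prime_pow Nat.prime_two hk0]
    norm_num
  have h2 : orderOf σ = 1 := Nat.eq_one_of_dvd_coprimes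
    ((Nat.coprime_two_right.mpr hσ).pow_right (k - 1)) dvd_rfl (h1 ▸ orderOf_dvd_natCard σ)
  intro c
  rw [orderOf_eq_one_iff.mp h2]
  rfl

/-- An abelian metacyclic 2-group with a nontrivial automorphism of odd order. -/
theorem homocyclic_of_aut {Y : Type*} [CommGroup Y] [Finite Y] (hY : IsPGroup 2 Y)
    (N : Subgroup Y) [IsCyclic N] [IsCyclic (Y ⧸ N)] (β : MulAut Y) (hβ : Odd (orderOf β))
    (hβ1 : β ≠ 1) :
    ∃ (n : ℕ) (u : Y), 1 ≤ n ∧ N = zpowers u ∧ orderOf u = 2 ^ n ∧ Nat.card Y = 2 ^ n * 2 ^ n ∧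
      (∀ y : Y, y ^ 2 ^ n = 1) ∧ zpowers u ⊓ zpowers (β u) = ⊥ ∧
      (∀ y : Y, β y = y → y = 1) ∧ ∀ y : Y, β (β (β y)) = y := by
  haveI : Fact (Nat.Prime 2) := ⟨Nat.prime_two⟩
  -- the involutions
  let Ω : Subgroup Y := (powMonoidHom 2).ker
  have hΩmem : ∀ y : Y, y ∈ Ω ↔ y ^ 2 = 1 := fun y => Iff.rfl
  have hcyc : ∀ (C : Type _) [Group C] [Finite C] [IsCyclic C],
      Nat.card {c : C // c ^ 2 = 1} ≤ 2 := fun C _ _ _ => by
    haveI := Fintype.ofFinite C
    classical
    rw [Nat.card_eq_fintype_card, Fintype.card_subtype]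
    exact IsCyclic.card_pow_eq_one_le two_pos
  have hΩ4 : Nat.card Ω ≤ 4 := by
    let f : Ω →* Y ⧸ N := (QuotientGroup.mk' N).comp Ω.subtype
    have h1 : Nat.card f.range ≤ 2 := by
      refine le_trans ?_ (hcyc (Y ⧸ N))
      refine Nat.card_le_card_of_injective
        (fun z => (⟨(z : Y ⧸ N), ?_⟩ : {c : Y ⧸ N // c ^ 2 = 1}))
        fun a b h => Subtype.ext (congrArg (fun c : {c : Y ⧸ N // c ^ 2 = 1} => (c : Y ⧸ N)) h)
      obtain ⟨w, hw⟩ := z.2
      rw [← hw, ← map_pow, show w ^ 2 = 1 from Subtype.ext ((hΩmem _).mp w.2), map_one]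
    have h2 : Nat.card f.ker ≤ 2 := by
      refine le_trans ?_ (hcyc N)
      refine Nat.card_le_card_of_injective
        (fun z => (⟨⟨((z : Ω) : Y), (QuotientGroup.eq_one_iff _).mp z.2⟩,
          Subtype.ext ((hΩmem _).mp (z : Ω).2)⟩ : {c : N // c ^ 2 = 1})) fun a b h => ?_
      exact Subtype.ext (Subtype.ext (congrArg (fun c : {c : N // c ^ 2 = 1} => ((c : N) : Y)) h))
    rw [card_eq_card_quotient_mul_card_subgroup f.ker,
      Nat.card_congr (QuotientGroup.quotientKerEquivRange f).toEquiv]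
    exact Nat.mul_le_mul h1 h2
  -- every involution is moved
  have hβiter : ∀ (m : ℕ) (y : Y), (β ^ m) y = (β : Y → Y)^[m] y := by
    intro m
    induction m with
    | zero => intro y; rfl
    | succ m ih => intro y; rw [pow_succ', MulAut.mul_apply, ih, Function.iterate_succ_apply']
  have hmove : ∃ z : Y, z ^ 2 = 1 ∧ β z ≠ z := by
    by_contra hcon
    push Not at hcon
    refine hβ1 (MulEquiv.ext fun y => ?_)
    have hstep : ∀ (k : ℕ) (y : Y), y ^ 2 ^ k = 1 → β y = y := by
      intro k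
      induction k with
      | zero => intro y hy; rw [pow_zero, pow_one] at hy; rw [hy, map_one]
      | succ k ih =>
        intro y hy
        have h1 : β (y ^ 2) = y ^ 2 := ih _ (by rw [← pow_mul, ← pow_succ']; exact hy)
        refine Coprime23.eq_of_commutator_fixed hY β (Nat.coprime_two_right.mpr hβ) (hcon _ ?_)
        rw [mul_pow, inv_pow, ← map_pow, h1, inv_mul_cancel]
    obtain ⟨k, hk⟩ := hY y
    exact hstep k y hk
  obtain ⟨z, hz2, hzm⟩ := hmove
  have hz1 : z ≠ 1 := fun h => hzm (by rw [h, map_one])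
  have hfix2 : ∀ w : Y, w ^ 2 = 1 → β w = w → w = 1 := by
    intro w hw2 hwf
    by_contra hw1
    have hw2' : w * w = 1 := by rw [← sq]; exact hw2
    have hΩw : ∀ v ∈ Ω, v = 1 ∨ v = w ∨ v = z ∨ v = z * w := by
      intro v hv
      have hne : z ≠ w := fun h => hzm (by rw [h]; exact hwf)
      have hd : ({⟨1, one_mem _⟩, ⟨w, hw2⟩, ⟨z, hz2⟩,
          ⟨z * w, by rw [hΩmem, mul_pow, hz2, hw2, one_mul]⟩} : Set Ω) = Set.univ := by
        refine Set.eq_of_subset_of_ncard_le (Set.subset_univ _) ?_ Set.finite_univ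
        rw [Set.ncard_univ]
        refine hΩ4.trans (le_of_eq ?_)
        have hi : w⁻¹ = w := inv_eq_of_mul_eq_one_right hw2'
        rw [Set.ncard_insert_of_notMem, Set.ncard_insert_of_notMem, Set.ncard_insert_of_notMem,
          Set.ncard_singleton]
        all_goals simp [Subtype.ext_iff]
        · exact hw1
        · exact ⟨Ne.symm hne, hz1⟩
        exact ⟨Ne.symm hw1, Ne.symm hz1, fun h => hne ((eq_inv_of_mul_eq_one_left h.symm).trans hi)⟩
      have := Set.mem_univ (⟨v, hv⟩ : Ω)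
      rw [← hd] at this
      simpa [Subtype.ext_iff] using this
    have h2 : β z = z * w := by
      rcases hΩw (β z) (by rw [hΩmem, ← map_pow, hz2, map_one]) with h | h | h | h
      · exact absurd h fun h' => hz1 (β.injective (by rw [h', map_one]))
      · exact absurd h fun h' => hzm (by rw [h', β.injective (h'.trans hwf.symm)])
      · exact absurd h hzm
      · exact h
    exact hzm (Coprime23.eq_of_commutator_fixed hY β (Nat.coprime_two_right.mpr hβ)
      (by rw [h2, inv_mul_cancel_left]; exact hwf))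
  have hfix : ∀ y : Y, β y = y → y = 1 := by
    intro y hy
    obtain ⟨k, hk⟩ := hY y
    induction k generalizing y with
    | zero => simpa using hk
    | succ k ih =>
      have h1 := ih (y ^ 2) (by rw [map_pow, hy]) (by rw [← pow_mul, ← pow_succ']; exact hk)
      exact hfix2 y h1 hy
  -- the generator of `N`
  obtain ⟨u₀, hu₀⟩ := IsCyclic.exists_generator (α := N)
  set u : Y := (u₀ : Y) with hu
  have hN : N = zpowers u := le_antisymm (fun v hv => by
    obtain ⟨i, hi⟩ := mem_zpowers_iff.mp (hu₀ ⟨v, hv⟩)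
    exact mem_zpowers_iff.mpr ⟨i, by rw [hu, ← SubgroupClass.coe_zpow, hi]⟩) (zpowers_le.mpr u₀.2)
  -- an element of maximal order
  obtain ⟨g₀, hg₀⟩ := IsCyclic.exists_generator (α := Y ⧸ N)
  obtain ⟨b, rfl⟩ := QuotientGroup.mk'_surjective N g₀
  obtain ⟨n₁, hn₁⟩ := (IsPGroup.iff_orderOf.mp hY) u
  obtain ⟨n₂, hn₂⟩ := (IsPGroup.iff_orderOf.mp hY) b
  set n := max n₁ n₂ with hn
  have hexp : ∀ y : Y, y ^ 2 ^ n = 1 := by
    intro y
    obtain ⟨i, hi⟩ := mem_zpowers_iff.mp (hg₀ (QuotientGroup.mk' N y))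
    rw [← map_zpow] at hi
    have h1 : (b ^ i)⁻¹ * y ∈ N := (QuotientGroup.eq (s := N)).mp hi
    obtain ⟨j, hj⟩ := mem_zpowers_iff.mp (hN ▸ h1)
    have hyeq : y = b ^ i * u ^ j := by rw [hj, mul_inv_cancel_left]
    have hp : ∀ (v : Y) (m : ℕ), orderOf v = 2 ^ m → m ≤ n → v ^ 2 ^ n = 1 := fun v m hv hm =>
      orderOf_dvd_iff_pow_eq_one.mp (hv ▸ pow_dvd_pow 2 hm)
    have hzp : ∀ (v : Y) (i : ℤ) (m : ℕ), (v ^ i) ^ m = (v ^ m) ^ i := fun v i m => by
      rw [← zpow_natCast, ← zpow_natCast, ← zpow_mul, ← zpow_mul, mul_comm]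
    rw [hyeq, mul_pow, hzp, hzp, hp b n₂ hn₂ (le_max_right _ _), hp u n₁ hn₁ (le_max_left _ _),
      one_zpow, one_zpow, one_mul]
  obtain ⟨y, hy⟩ : ∃ y : Y, orderOf y = 2 ^ n := by
    rcases le_total n₁ n₂ with h | h
    · exact ⟨b, by rw [hn₂, hn, max_eq_right h]⟩
    · exact ⟨u, by rw [hn₁, hn, max_eq_left h]⟩
  have hn1 : 1 ≤ n := by
    by_contra hn0
    have h1 := hexp z
    rw [show n = 0 by omega, pow_zero, pow_one] at h1
    exact hz1 h1
  -- independence of a cyclic subgroup of maximal order and its image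
  have hdisj : ∀ y : Y, orderOf y = 2 ^ n → zpowers y ⊓ zpowers (β y) = ⊥ := by
    intro y hy
    refine (eq_bot_iff_forall _).mpr fun v hv => ?_
    by_contra hv1
    obtain ⟨hvy, hvb⟩ := mem_inf.mp hv
    set e := y ^ 2 ^ (n - 1) with he
    have he2 : e ^ 2 = 1 := by rw [he, ← pow_mul, ← pow_succ, Nat.sub_add_cancel hn1, hexp]
    have he1 : e ≠ 1 := pow_ne_one_of_lt_orderOf (pow_ne_zero _ two_ne_zero)
      (by rw [hy]; exact Nat.pow_lt_pow_right one_lt_two (by omega))
    -- the involution of a cyclic group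
    have hkey : ∀ (g : Y), orderOf g = 2 ^ n → ∀ w ∈ zpowers g, w ^ 2 = 1 → w ≠ 1 →
        w = g ^ 2 ^ (n - 1) := by
      intro g hg w hw hw2 hw1
      obtain ⟨i, rfl⟩ := mem_zpowers_iff.mp hw
      rw [← zpow_natCast, ← zpow_mul, ← orderOf_dvd_iff_zpow_eq_one, hg] at hw2
      obtain ⟨c, hc⟩ := hw2
      push_cast at hc
      rw [show (2 : ℤ) ^ n = 2 ^ (n - 1) * 2 by rw [← pow_succ, Nat.sub_add_cancel hn1]] at hc
      have hi : i = 2 ^ (n - 1) * c := by linarith
      rcases Int.even_or_odd' c with ⟨d, rfl | rfl⟩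
      · exfalso
        refine hw1 ?_
        rw [hi, ← orderOf_dvd_iff_zpow_eq_one, hg]
        refine ⟨d, ?_⟩
        push_cast
        rw [show (2 : ℤ) ^ n = 2 ^ (n - 1) * 2 by rw [← pow_succ, Nat.sub_add_cancel hn1]]
        ring
      · rw [hi, show (2 : ℤ) ^ (n - 1) * (2 * d + 1) = ((2 ^ n : ℕ) : ℤ) * d + ((2 ^ (n - 1) : ℕ) : ℤ) by
          push_cast
          rw [show (2 : ℤ) ^ n = 2 ^ (n - 1) * 2 by rw [← pow_succ, Nat.sub_add_cancel hn1]]
          ring, zpow_add, zpow_mul, zpow_natCast, zpow_natCast, hexp, one_zpow, one_mul]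
    obtain ⟨m, hm⟩ := hY v
    -- an involution in both
    obtain ⟨w, hw, hw2, hw1⟩ : ∃ w ∈ zpowers v, w ^ 2 = 1 ∧ w ≠ 1 := by
      clear_value e
      induction m generalizing v with
      | zero => exact absurd (by simpa using hm) hv1
      | succ m ih =>
        rcases eq_or_ne (v ^ 2) 1 with h | h
        · exact ⟨v, mem_zpowers v, h, hv1⟩
        · obtain ⟨w, hw, hw'⟩ := ih (v ^ 2) (pow_mem hv 2) h (pow_mem hvy 2) (pow_mem hvb 2)
            (by rw [← pow_mul, ← pow_succ']; exact hm)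
          exact ⟨w, zpowers_le.mpr (pow_mem (mem_zpowers v) 2) hw, hw'⟩
    have h1 := hkey y hy w (zpowers_le.mpr hvy hw) hw2 hw1
    have h2 := hkey (β y) (by rw [MulEquiv.orderOf_eq, hy]) w (zpowers_le.mpr hvb hw) hw2 hw1
    exact he1 (hfix e (by rw [he, map_pow, ← h2, h1]))
  have hcard : Nat.card Y = 2 ^ n * 2 ^ n := by
    refine le_antisymm ?_ ?_
    · rw [card_eq_card_quotient_mul_card_subgroup N]
      refine Nat.mul_le_mul ?_ ?_
      · rw [← orderOf_eq_card_of_forall_mem_zpowers hg₀]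
        exact ((orderOf_map_dvd _ b).trans (hn₂ ▸ pow_dvd_pow 2 (le_max_right _ _))).trans
          dvd_rfl |> Nat.le_of_dvd (by positivity)
      · rw [hN, Nat.card_zpowers, hn₁]
        exact Nat.pow_le_pow_right (by norm_num) (le_max_left _ _)
    · have hinj : Function.Injective
          (fun t : zpowers y × zpowers (β y) => (t.1 : Y) * (t.2 : Y)) :=
        mul_injective_of_disjoint (disjoint_iff.mpr (hdisj y hy))
      have := Nat.card_le_card_of_injective _ hinj
      rwa [Nat.card_prod, Nat.card_zpowers, Nat.card_zpowers, MulEquiv.orderOf_eq, hy] at this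
  have hun : orderOf u = 2 ^ n := by
    have h1 := card_eq_card_quotient_mul_card_subgroup N
    rw [hcard, hN, Nat.card_zpowers, hn₁] at h1
    have h2 : Nat.card (Y ⧸ zpowers u) ≤ 2 ^ n := by
      rw [← hN, ← orderOf_eq_card_of_forall_mem_zpowers hg₀]
      exact Nat.le_of_dvd (by positivity)
        ((orderOf_map_dvd _ b).trans (hn₂ ▸ pow_dvd_pow 2 (le_max_right _ _)))
    rw [hn₁]
    have h3 : 2 ^ n₁ ≤ 2 ^ n := Nat.pow_le_pow_right (by norm_num) (le_max_left _ _)
    refine le_antisymm h3 ?_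
    by_contra hlt
    push Not at hlt
    have : Nat.card (Y ⧸ zpowers u) * 2 ^ n₁ < 2 ^ n * 2 ^ n :=
      Nat.mul_lt_mul_of_le_of_lt h2 hlt (by positivity)
    omega
  refine ⟨n, u, hn1, hN, hun, hcard, hexp, hdisj u hun, hfix, fun v => ?_⟩
  -- `β` permutes the three involutions, so its cube is trivial
  have hcube : ∀ w : Y, w ^ 2 = 1 → β (β (β w)) = w := by
    intro w hw
    rcases eq_or_ne w 1 with rfl | hw1
    · simp
    have hwβ : β w ≠ w := fun h => hw1 (hfix w h)
    have hΩw : ∀ v ∈ Ω, v = 1 ∨ v = w ∨ v = β w ∨ v = w * β w := by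
      intro v hv
      have hw2' : w * w = 1 := by rw [← sq]; exact hw
      have hi : w⁻¹ = w := inv_eq_of_mul_eq_one_right hw2'
      have hb2 : β w ^ 2 = 1 := by rw [← map_pow, hw, map_one]
      have hb1 : β w ≠ 1 := fun h => hw1 (β.injective (h.trans (map_one β).symm))
      have hd : ({⟨1, one_mem _⟩, ⟨w, hw⟩, ⟨β w, hb2⟩,
          ⟨w * β w, by rw [hΩmem, mul_pow, hw, hb2, one_mul]⟩} : Set Ω) = Set.univ := by
        refine Set.eq_of_subset_of_ncard_le (Set.subset_univ _) ?_ Set.finite_univ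
        rw [Set.ncard_univ]
        refine hΩ4.trans (le_of_eq ?_)
        rw [Set.ncard_insert_of_notMem, Set.ncard_insert_of_notMem, Set.ncard_insert_of_notMem,
          Set.ncard_singleton]
        all_goals simp [Subtype.ext_iff]
        · exact hw1
        · exact ⟨Ne.symm hwβ, hw1⟩
        exact ⟨Ne.symm hw1, Ne.symm hb1, fun h => hwβ ((eq_inv_of_mul_eq_one_right h.symm).trans hi)⟩
      have := Set.mem_univ (⟨v, hv⟩ : Ω)
      rw [← hd] at this
      simpa [Subtype.ext_iff] using this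
    have hbb : β (β w) = w * β w := by
      have hne : β (β w) ≠ β w := fun h => hwβ (β.injective h)
      have hne1 : β (β w) ≠ 1 := fun h =>
        hw1 (β.injective (β.injective (by rw [h, map_one, map_one])))
      rcases hΩw (β (β w)) (by rw [hΩmem, ← map_pow, ← map_pow, hw, map_one, map_one]) with
        h | h | h | h
      · exact absurd h hne1
      · exfalso
        refine hwβ (β.injective ?_)
        have hfx : β (w * β w) = w * β w := by rw [map_mul, h, mul_comm]
        have h1 := hfix _ hfx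
        rw [mul_eq_one_iff_inv_eq, inv_eq_of_mul_eq_one_right (a := w) (b := w)
          (by rw [← sq]; exact hw)] at h1
        rw [← h1, ← h1]
      · exact absurd h hne
      · exact h
    rw [hbb, map_mul, hbb, mul_left_comm, mul_comm (β w), ← mul_assoc, mul_assoc w,
      show β w * β w = 1 by rw [← map_mul, ← sq, hw, map_one], mul_one]
  have hstep : ∀ (k : ℕ) (v : Y), v ^ 2 ^ k = 1 → (β ^ 3) v = v := by
    intro k
    induction k with
    | zero => intro v hv; rw [pow_zero, pow_one] at hv; rw [hv, map_one]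
    | succ k ih =>
      intro v hv
      have h1 : (β ^ 3) (v ^ 2) = v ^ 2 := ih _ (by rw [← pow_mul, ← pow_succ']; exact hv)
      refine Coprime23.eq_of_commutator_fixed hY (β ^ 3) ?_ ?_
      · exact (Nat.coprime_two_right.mpr hβ).coprime_dvd_left (orderOf_pow_dvd 3)
      · rw [hβiter]
        refine hcube _ ?_
        rw [mul_pow, inv_pow, ← map_pow, h1, inv_mul_cancel]
  obtain ⟨k, hk⟩ := hY v
  have := hstep k v hk
  rwa [hβiter] at this

end Cfsg.Agent.Tech
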