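import Cfsg.Agent.Lib.FGB.GLSylowDerived

/-!
A normal subgroup `S` of a 2-group `P` containing no four-group that is normal in `P` has a cyclic
subgroup of index at most two which is normal in `P`, and an involution of `S` outside it fixes no
element of order four of it.
-/

set_option autoImplicit false

namespace Cfsg.Agent.Tech.FourFree

/-- `S` contains no four-group normal in `P`. -/
def NoNormalFour {P : Type*} [Group P] (S : Subgroup P) : Prop :=
  ∀ z y : P, z ∈ S → y ∈ S → z * z = 1 → y * y = 1 → z ≠ 1 → y ≠ 1 → y ≠ z → z * y = y * z →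
    (∀ g : P, g * z * g⁻¹ = z) → (∀ g : P, g * y * g⁻¹ = y ∨ g * y * g⁻¹ = z * y) → False

/-- A cyclic 2-group with generator `x` of order `2 ^ (n + 2)`. -/
structure Big (P : Type*) [Group P] (X : Subgroup P) where
  x : P
  hX : X = Subgroup.zpowers x
  n : ℕ
  ord : orderOf x = 2 ^ (n + 2)

namespace Big

variable {P : Type*} [Group P] {X : Subgroup P} (D : Big P X)

/-- The involution. -/
def z : P := D.x ^ 2 ^ (D.n + 1)

/-- An element of order four. -/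
def q : P := D.x ^ 2 ^ D.n

theorem q_sq : D.q * D.q = D.z := by rw [q, z, ← pow_add, pow_succ, mul_two]

theorem z_mem : D.z ∈ X := (SetLike.ext_iff.1 D.hX _).2 (pow_mem (Subgroup.mem_zpowers D.x) _)

theorem q_mem : D.q ∈ X := (SetLike.ext_iff.1 D.hX _).2 (pow_mem (Subgroup.mem_zpowers D.x) _)

theorem z_ne : D.z ≠ 1 := fun h => by
  have := orderOf_dvd_of_pow_eq_one h
  rw [D.ord] at this
  exact absurd ((Nat.pow_dvd_pow_iff_le_right (by norm_num)).1 this) (by omega)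

theorem z_sq : D.z * D.z = 1 := by
  rw [z, ← pow_add, ← mul_two, ← pow_succ, ← D.ord, pow_orderOf_eq_one]

theorem q_ne : D.q ≠ D.q⁻¹ := fun h => D.z_ne (by rw [← D.q_sq]; nth_rewrite 2 [h]; rw [mul_inv_cancel])

include D in
theorem comm {a b : P} (ha : a ∈ X) (hb : b ∈ X) : a * b = b * a := by
  rw [D.hX] at ha hb
  obtain ⟨i, rfl⟩ := ha
  obtain ⟨j, rfl⟩ := hb
  exact ((Commute.refl D.x).zpow_zpow i j).eq

theorem eq_zpow {m : P} (hm : m ∈ X) : ∃ k : ℤ, m = D.x ^ k := by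
  rw [D.hX] at hm; obtain ⟨k, hk⟩ := hm; exact ⟨k, hk.symm⟩

theorem four_cases {m : P} (hm : m ∈ X) (h4 : (m * m) * (m * m) = 1) :
    m = 1 ∨ m = D.z ∨ m = D.q ∨ m = D.q⁻¹ := by
  obtain ⟨k, rfl⟩ := D.eq_zpow hm
  rw [← zpow_add, ← zpow_add, ← orderOf_dvd_iff_zpow_eq_one, D.ord] at h4
  obtain ⟨i, hi⟩ : ((2 ^ D.n : ℕ) : ℤ) ∣ k := by
    refine Int.dvd_of_mul_dvd_mul_left (a := 4) (by norm_num) ?_
    refine (dvd_of_eq ?_).trans (h4.trans (dvd_of_eq (by ring)))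
    push_cast; ring
  have hk : D.x ^ k = D.q ^ i := by rw [hi, zpow_mul, zpow_natCast]; rfl
  have hq4 : D.q ^ (4 : ℤ) = 1 := by
    rw [show (4 : ℤ) = ((4 : ℕ) : ℤ) from rfl, zpow_natCast, q, ← pow_mul, show 2 ^ D.n * 4 = 2 ^ (D.n + 2) by ring,
      ← D.ord, pow_orderOf_eq_one]
  rw [hk, ← Int.mul_ediv_add_emod i 4, zpow_add, zpow_mul, hq4, one_zpow, one_mul]
  have h1 := Int.emod_lt_of_pos i (show (0 : ℤ) < 4 by norm_num)
  have h2 := Int.emod_nonneg i (show (4 : ℤ) ≠ 0 by norm_num)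
  rcases (by omega : i % 4 = 0 ∨ i % 4 = 1 ∨ i % 4 = 2 ∨ i % 4 = 3) with e | e | e | e <;> rw [e]
  · exact Or.inl (zpow_zero _)
  · exact Or.inr (Or.inr (Or.inl (zpow_one _)))
  · exact Or.inr (Or.inl (by rw [zpow_two, D.q_sq]))
  · refine Or.inr (Or.inr (Or.inr ?_))
    rw [eq_inv_iff_mul_eq_one]
    calc D.q ^ (3 : ℤ) * D.q = D.q ^ (4 : ℤ) := by rw [show (4 : ℤ) = 3 + 1 from rfl, zpow_add_one]
      _ = 1 := hq4

theorem two_cases {m : P} (hm : m ∈ X) (h : m * m = 1) : m = 1 ∨ m = D.z := by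
  rcases D.four_cases hm (by rw [h, one_mul]) with e | e | e | e
  · exact Or.inl e
  · exact Or.inr e
  · rw [e, D.q_sq] at h; exact absurd h D.z_ne
  · rw [e, ← mul_inv_rev, D.q_sq, inv_eq_one] at h; exact absurd h D.z_ne

theorem exists_pow_four {m : P} (hm : m ∈ X) (h : m * m ≠ 1) : ∃ k : ℕ, m ^ k = D.q ∨ m ^ k = D.q⁻¹ := by
  obtain ⟨i, rfl⟩ := D.eq_zpow hm
  have hdvd : orderOf (D.x ^ i) ∣ 2 ^ (D.n + 2) := by
    refine orderOf_dvd_of_pow_eq_one ?_
    rw [← zpow_natCast, ← zpow_mul, mul_comm, zpow_mul, zpow_natCast, ← D.ord, pow_orderOf_eq_one, one_zpow]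
  obtain ⟨j, -, hj⟩ := (Nat.dvd_prime_pow Nat.prime_two).1 hdvd
  have hj2 : 2 ≤ j := by
    by_contra hc
    apply h
    rw [← pow_two]
    exact orderOf_dvd_iff_pow_eq_one.1 (hj ▸ (pow_dvd_pow 2 (by omega : j ≤ 1)))
  refine ⟨2 ^ (j - 2), ?_⟩
  set w := (D.x ^ i) ^ 2 ^ (j - 2) with hw
  have hwX : w ∈ X := pow_mem hm _
  have hw4 : (w * w) * (w * w) = 1 := by
    rw [hw, ← pow_add, ← pow_add, show 2 ^ (j - 2) + 2 ^ (j - 2) + (2 ^ (j - 2) + 2 ^ (j - 2)) = 2 ^ (j - 2) * 2 ^ 2 by ring,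
      ← pow_add, show j - 2 + 2 = j by omega, ← hj, pow_orderOf_eq_one]
  have hw2 : w * w ≠ 1 := by
    rw [hw, ← pow_add, ← mul_two, ← pow_succ]
    intro h'
    have := orderOf_dvd_of_pow_eq_one h'
    rw [hj] at this
    exact absurd ((Nat.pow_dvd_pow_iff_le_right (by norm_num)).1 this) (by omega)
  rcases D.four_cases hwX hw4 with e | e | e | e
  · exact absurd (by rw [e, one_mul]) hw2
  · exact absurd (by rw [e, D.z_sq]) hw2
  · exact Or.inl e
  · exact Or.inr e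

/-- Only `1` and `z` are inverted by something fixing `q`. -/
theorem inverted {w m : P} (hq : w * D.q * w⁻¹ = D.q) (hm : m ∈ X) (hinv : w * m * w⁻¹ = m⁻¹) :
    m = 1 ∨ m = D.z := by
  refine D.two_cases hm ?_
  by_contra h
  obtain ⟨k, hk⟩ := D.exists_pow_four hm h
  have h' : w * m ^ k * w⁻¹ = (m ^ k)⁻¹ := by rw [← inv_pow, ← hinv, conj_pow]
  rcases hk with e | e <;> rw [e] at h'
  · exact D.q_ne (hq.symm.trans h')
  · rw [inv_inv, ← conj_inv, hq] at h'; exact D.q_ne h'.symm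

theorem z_fixed {g : P} (hg : ∀ m ∈ X, g * m * g⁻¹ ∈ X) : g * D.z * g⁻¹ = D.z := by
  refine (D.two_cases (hg _ D.z_mem) ?_).resolve_left fun h => D.z_ne ?_
  · rw [conj_mul, D.z_sq, mul_one, mul_inv_cancel]
  · exact conj_eq_one_iff.1 h

theorem q_moved {g : P} (hg : ∀ m ∈ X, g * m * g⁻¹ ∈ X) : g * D.q * g⁻¹ = D.q ∨ g * D.q * g⁻¹ = D.q⁻¹ := by
  have h2 : (g * D.q * g⁻¹) * (g * D.q * g⁻¹) = D.z := by rw [conj_mul, D.q_sq, D.z_fixed hg]
  rcases D.four_cases (hg _ D.q_mem) (by rw [h2, D.z_sq]) with e | e | e | e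
  · exact absurd (h2.symm.trans (by rw [e, one_mul])) D.z_ne
  · exact absurd (h2.symm.trans (by rw [e, D.z_sq])) D.z_ne
  · exact Or.inl e
  · exact Or.inr e

/-- An involution outside `X` fixing `q` gives a normal four-group. -/
theorem false_of_fix {S : Subgroup P} (hS : NoNormalFour S) (hXS : X ≤ S) (hX : ∀ g : P, ∀ m ∈ X, g * m * g⁻¹ ∈ X)
    {y : P} (hy : y ∈ S) (hyX : y ∉ X) (hy2 : y * y = 1) (hq : y * D.q * y⁻¹ = D.q)
    (hcos : ∀ g : P, g * y * g⁻¹ * y⁻¹ ∈ X) : False := by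
  have hzy : D.z * y = y * D.z := (mul_inv_eq_iff_eq_mul.1 (D.z_fixed (hX y))).symm
  refine hS D.z y (hXS D.z_mem) hy D.z_sq hy2 D.z_ne (fun e => hyX (e ▸ one_mem X)) (fun e => hyX (e ▸ D.z_mem)) hzy
    (fun g => D.z_fixed (hX g)) fun g => ?_
  set m := g * y * g⁻¹ * y⁻¹ with hm
  have e : g * y * g⁻¹ = m * y := by rw [hm, inv_mul_cancel_right]
  have hyy : y⁻¹ = y := inv_eq_of_mul_eq_one_left hy2
  have hinv : y * m * y⁻¹ = m⁻¹ := by
    refine eq_inv_of_mul_eq_one_right ?_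
    calc m * (y * m * y⁻¹) = (m * y) * (m * y) * (y⁻¹ * y⁻¹) := by group
      _ = 1 := by rw [← e, conj_mul, hy2, hyy, hy2]; group
  rw [e]
  rcases D.inverted hq (hcos g) hinv with h | h
  · exact Or.inl (by rw [show m = 1 from h, one_mul])
  · exact Or.inr (by rw [show m = D.z from h])

end Big

variable {P : Type*} [Group P]

/-- A nontrivial normal subgroup modulo a smaller one has an element central of order two. -/
theorem exists_central_mod [Finite P] (hP : IsPGroup 2 P) (N D : Subgroup P) [N.Normal] [D.Normal]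
    (h : ¬ D ≤ N) : ∃ d ∈ D, d ∉ N ∧ d * d ∈ N ∧ ∀ g : P, g * d * g⁻¹ * d⁻¹ ∈ N := by
  haveI : Fact (Nat.Prime 2) := ⟨Nat.prime_two⟩
  have hne : D.map (QuotientGroup.mk' N) ≠ ⊥ := fun e => h (by
    rw [← QuotientGroup.ker_mk' N]; exact (Subgroup.map_eq_bot_iff _).1 e)
  haveI : (D.map (QuotientGroup.mk' N)).Normal := Subgroup.Normal.map inferInstance _ (QuotientGroup.mk'_surjective N)
  have hQ : IsPGroup 2 (P ⧸ N) := hP.to_quotient N
  obtain ⟨c, hcm, hc1, hc⟩ := FGB.GLDerived.exists_central hQ (D.map (QuotientGroup.mk' N)) hne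
  obtain ⟨k, hk⟩ := IsPGroup.iff_orderOf.mp hQ c
  have hk0 : k ≠ 0 := fun e => hc1 (orderOf_eq_one_iff.1 (by rw [hk, e, pow_zero]))
  set c' := c ^ 2 ^ (k - 1) with hc'
  obtain ⟨d, hd, hdc⟩ := Subgroup.mem_map.1 (pow_mem hcm (2 ^ (k - 1)))
  refine ⟨d, hd, fun e => ?_, ?_, fun g => ?_⟩
  · have : c' = 1 := hdc.symm.trans ((QuotientGroup.eq_one_iff d).2 e)
    have := orderOf_dvd_of_pow_eq_one this
    rw [hk] at this
    exact absurd ((Nat.pow_dvd_pow_iff_le_right (by norm_num)).1 this) (by omega)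
  · rw [← QuotientGroup.eq_one_iff, QuotientGroup.mk_mul]
    show QuotientGroup.mk' N d * QuotientGroup.mk' N d = 1
    rw [hdc, ← pow_add, ← mul_two, ← pow_succ, show k - 1 + 1 = k by omega, ← hk, pow_orderOf_eq_one]
  · rw [← QuotientGroup.eq_one_iff]
    show QuotientGroup.mk' N (g * d * g⁻¹ * d⁻¹) = 1
    rw [map_mul, map_mul, map_mul, map_inv, map_inv, hdc]
    have := (Commute.pow_right (hc (QuotientGroup.mk' N g)) (2 ^ (k - 1))).eq
    rw [this, mul_inv_cancel_right, mul_inv_cancel]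

theorem isCyclic_of_unique_involution [Finite P] (hP : IsPGroup 2 P) (M : Subgroup P) (hab : ∀ a ∈ M, ∀ b ∈ M, a * b = b * a)
    (huniq : ∀ a ∈ M, ∀ b ∈ M, a * a = 1 → b * b = 1 → a ≠ 1 → b ≠ 1 → a = b) : ∃ x, M = Subgroup.zpowers x := by
  classical
  obtain ⟨⟨x, hx⟩, -, hmax⟩ := Finset.exists_max_image (Set.toFinite {a : P | a ∈ M}).toFinset.attach
    (fun a => orderOf (a : P)) ⟨⟨1, by simp⟩, Finset.mem_attach _ _⟩
  rw [Set.Finite.mem_toFinset] at hx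
  have hmax' : ∀ a ∈ M, orderOf a ≤ orderOf x := fun a ha => hmax ⟨a, by simpa using ha⟩ (Finset.mem_attach _ _)
  refine ⟨x, (le_antisymm (fun a ha => ?_) (Subgroup.zpowers_le.2 hx))⟩
  by_contra hax
  obtain ⟨k, hk⟩ := IsPGroup.iff_orderOf.mp hP a
  have hex : ∃ j, a ^ 2 ^ j ∈ Subgroup.zpowers x := ⟨k, by rw [← hk, pow_orderOf_eq_one]; exact one_mem _⟩
  have hj0 : Nat.find hex ≠ 0 := fun e => hax (by simpa [e] using Nat.find_spec hex)
  set y := a ^ 2 ^ (Nat.find hex - 1) with hy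
  have hyX : y ∉ Subgroup.zpowers x := Nat.find_min hex (by omega)
  have hyM : y ∈ M := pow_mem ha _
  have hy2 : y * y ∈ Subgroup.zpowers x := by
    rw [hy, ← pow_add, ← mul_two, ← pow_succ, show Nat.find hex - 1 + 1 = Nat.find hex by omega]
    exact Nat.find_spec hex
  obtain ⟨i, hi⟩ := hy2
  have hi' : x ^ i = y * y := hi
  obtain ⟨r, hr⟩ := IsPGroup.iff_orderOf.mp hP x
  have hr0 : r ≠ 0 := fun e => by
    rw [e, pow_zero, orderOf_eq_one_iff] at hr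
    have := hmax' y hyM
    rw [hr, orderOf_one] at this
    have h1 : orderOf y = 1 := le_antisymm this (orderOf_pos y)
    exact hyX (by rw [orderOf_eq_one_iff.1 h1]; exact one_mem _)
  obtain ⟨s, hs⟩ := IsPGroup.iff_orderOf.mp hP y
  have hsr : s ≤ r := (Nat.pow_le_pow_iff_right (by norm_num)).1 (hs ▸ hr ▸ hmax' y hyM)
  -- the exponent is even
  have he : (2 : ℤ) ∣ i := by
    have h1 : x ^ (i * ((2 ^ (r - 1) : ℕ) : ℤ)) = 1 := by
      rw [zpow_mul, hi', zpow_natCast, ← pow_two, ← pow_mul, ← pow_succ', show r - 1 + 1 = r by omega]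
      exact orderOf_dvd_iff_pow_eq_one.1 (hs ▸ pow_dvd_pow 2 hsr)
    rw [← orderOf_dvd_iff_zpow_eq_one, hr] at h1
    refine Int.dvd_of_mul_dvd_mul_left (a := ((2 ^ (r - 1) : ℕ) : ℤ)) (by positivity) ?_
    refine (dvd_of_eq ?_).trans (h1.trans (dvd_of_eq (mul_comm _ _)))
    rw [show (2 ^ r : ℕ) = 2 ^ (r - 1) * 2 by rw [← pow_succ]; congr 1; omega]
    push_cast; ring
  obtain ⟨l, hl⟩ := he
  set t := y * (x ^ l)⁻¹ with ht
  have htX : t ∉ Subgroup.zpowers x := fun h => hyX (by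
    have := mul_mem h (zpow_mem (Subgroup.mem_zpowers x) l)
    rwa [ht, inv_mul_cancel_right] at this)
  have htM : t ∈ M := mul_mem hyM (inv_mem (zpow_mem hx l))
  have ht2 : t * t = 1 := by
    have hc : Commute y (x ^ l)⁻¹ := hab y hyM _ (inv_mem (zpow_mem hx l))
    rw [ht, mul_assoc, ← mul_assoc (x ^ l)⁻¹, ← hc.eq, mul_assoc, ← mul_assoc y y, ← hi', ← mul_inv_rev, ← zpow_add,
      show l + l = i by omega, mul_inv_cancel]
  set z := x ^ 2 ^ (r - 1) with hz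
  have hz1 : z ≠ 1 := fun h => by
    have := orderOf_dvd_of_pow_eq_one h
    rw [hr] at this
    exact absurd ((Nat.pow_dvd_pow_iff_le_right (by norm_num)).1 this) (by omega)
  have hz2 : z * z = 1 := by rw [hz, ← pow_add, ← mul_two, ← pow_succ, show r - 1 + 1 = r by omega, ← hr, pow_orderOf_eq_one]
  exact htX (huniq t htM z (pow_mem hx _) ht2 hz2 (fun h => htX (h ▸ one_mem _)) hz1 ▸
    pow_mem (Subgroup.mem_zpowers x) _)

/-- The structure theorem. -/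
theorem structure_thm [Finite P] (hP : IsPGroup 2 P) (S : Subgroup P) [S.Normal] (hS : NoNormalFour S) :
    ∃ X : Subgroup P, X ≤ S ∧ (∀ g : P, ∀ m ∈ X, g * m * g⁻¹ ∈ X) ∧ (∃ x, X = Subgroup.zpowers x) ∧
      (∀ a ∈ S, ∀ b ∈ S, a ∉ X → b ∉ X → a * b ∈ X) ∧
      (∀ c ∈ S, (∀ g : P, g * c * g⁻¹ = c) → c ∈ X) ∧
      ∀ y ∈ S, y ∉ X → y * y = 1 → ∀ D : Big P X, y * D.q * y⁻¹ ≠ D.q := by
  classical
  -- a maximal normal abelian subgroup
  obtain ⟨M, ⟨hMS, hMn, hMab⟩, hMmax⟩ := (wellFounded_gt : WellFounded ((· > ·) : Subgroup P → Subgroup P → Prop)).has_min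
    {M : Subgroup P | M ≤ S ∧ (∀ g : P, ∀ m ∈ M, g * m * g⁻¹ ∈ M) ∧ ∀ a ∈ M, ∀ b ∈ M, a * b = b * a}
    ⟨⊥, bot_le, fun g m hm => by simp [Subgroup.mem_bot.1 hm], fun a ha b hb => by
      rw [Subgroup.mem_bot.1 ha, Subgroup.mem_bot.1 hb]⟩
  haveI : M.Normal := ⟨fun m hm g => hMn g m hm⟩
  obtain ⟨x, hx⟩ : ∃ x, M = Subgroup.zpowers x := by
    refine isCyclic_of_unique_involution hP M hMab fun a ha b hb ha2 hb2 ha1 hb1 => ?_
    let Ω : Subgroup P :=
      { carrier := {m | m ∈ M ∧ m * m = 1}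
        one_mem' := ⟨one_mem M, one_mul 1⟩
        mul_mem' := fun {u v} hu hv => ⟨mul_mem hu.1 hv.1, by
          rw [mul_assoc, ← mul_assoc v, hMab v hv.1 u hu.1, mul_assoc, hv.2, mul_one, hu.2]⟩
        inv_mem' := fun {u} hu => ⟨inv_mem hu.1, by rw [← mul_inv_rev, hu.2, inv_one]⟩ }
    haveI hΩn : Ω.Normal := ⟨fun u hu g => ⟨hMn g u hu.1, by rw [conj_mul, hu.2, mul_one, mul_inv_cancel]⟩⟩
    obtain ⟨c, hcΩ, hc1, -, hcc⟩ := exists_central_mod hP (⊥ : Subgroup P) Ω (fun h => ha1 (Subgroup.mem_bot.1 (h ⟨ha, ha2⟩)))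
    replace hc1 : c ≠ 1 := fun h => hc1 (Subgroup.mem_bot.2 h)
    have hcen : ∀ g, g * c * g⁻¹ = c := fun g => mul_inv_eq_one.1 (Subgroup.mem_bot.1 (hcc g))
    by_contra hab
    haveI : (Subgroup.zpowers c).Normal := ⟨fun u hu g => by
      obtain ⟨i, rfl⟩ := hu
      show g * c ^ i * g⁻¹ ∈ _
      rw [← conj_zpow, hcen]
      exact ⟨i, rfl⟩⟩
    have hzc : ∀ u ∈ Subgroup.zpowers c, u = 1 ∨ u = c := by
      rintro u ⟨i, rfl⟩
      show c ^ i = 1 ∨ c ^ i = c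
      have h2 : c ^ (2 : ℤ) = 1 := by rw [zpow_two]; exact hcΩ.2
      rw [← Int.mul_ediv_add_emod i 2, zpow_add, zpow_mul, h2, one_zpow, one_mul]
      rcases Int.emod_two_eq_zero_or_one i with e | e <;> simp [e]
    obtain ⟨y, hyΩ, hyc, -, hyy⟩ := exists_central_mod hP (Subgroup.zpowers c) Ω (fun h => by
      rcases hzc a (h ⟨ha, ha2⟩) with e | e
      · exact ha1 e
      · rcases hzc b (h ⟨hb, hb2⟩) with e' | e'
        · exact hb1 e'
        · exact hab (e.trans e'.symm))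
    refine hS c y (hMS hcΩ.1) (hMS hyΩ.1) hcΩ.2 hyΩ.2 hc1 (fun e => hyc (e ▸ one_mem _))
      (fun e => hyc (e ▸ Subgroup.mem_zpowers c)) (hMab c hcΩ.1 y hyΩ.1) hcen fun g => ?_
    have e : g * y * g⁻¹ = (g * y * g⁻¹ * y⁻¹) * y := by group
    rw [e]
    rcases hzc _ (hyy g) with h | h <;> rw [h] <;> simp
  -- self-centralising
  have hcent : ∀ s ∈ S, (∀ m ∈ M, s * m = m * s) → s ∈ M := by
    by_contra h
    push Not at h
    obtain ⟨s, hsS, hsc, hsM⟩ := h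
    let D : Subgroup P := S ⊓ Subgroup.centralizer (M : Set P)
    haveI : D.Normal := ⟨fun d hd g => ⟨Subgroup.Normal.conj_mem inferInstance d hd.1 g,
      Subgroup.mem_centralizer_iff.2 fun m hm => by
        have h1 := Subgroup.mem_centralizer_iff.1 hd.2 (g⁻¹ * m * g⁻¹⁻¹) (hMn g⁻¹ m hm)
        rw [inv_inv] at h1
        calc m * (g * d * g⁻¹) = g * (g⁻¹ * m * g * d) * g⁻¹ := by group
          _ = g * (d * (g⁻¹ * m * g)) * g⁻¹ := by rw [h1]
          _ = g * d * g⁻¹ * m := by group⟩⟩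
    obtain ⟨d, hd, hdM, hdd, hdc⟩ := exists_central_mod hP M D
      (fun hle => hsM (hle ⟨hsS, Subgroup.mem_centralizer_iff.2 fun m hm => (hsc m hm).symm⟩))
    refine hMmax (M ⊔ Subgroup.zpowers d) ⟨sup_le hMS (Subgroup.zpowers_le.2 hd.1), ?_, ?_⟩
      (lt_of_le_of_ne le_sup_left fun e => hdM (e.ge (Subgroup.mem_sup_right (Subgroup.mem_zpowers d))))
    · intro g m hm
      have hle : M ⊔ Subgroup.zpowers d ≤ (M ⊔ Subgroup.zpowers d).comap (MulAut.conj g).toMonoidHom := by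
        refine sup_le (fun u hu => Subgroup.mem_sup_left (hMn g u hu)) (Subgroup.zpowers_le.2 ?_)
        show g * d * g⁻¹ ∈ M ⊔ Subgroup.zpowers d
        rw [show g * d * g⁻¹ = (g * d * g⁻¹ * d⁻¹) * d by group]
        exact mul_mem (Subgroup.mem_sup_left (hdc g)) (Subgroup.mem_sup_right (Subgroup.mem_zpowers d))
      exact hle hm
    · have hle : M ⊔ Subgroup.zpowers d ≤ Subgroup.centralizer ((M ⊔ Subgroup.zpowers d : Subgroup P) : Set P) := by
        refine sup_le ?_ (Subgroup.zpowers_le.2 ?_)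
        · rw [Subgroup.le_centralizer_iff]
          refine sup_le (fun u hu => Subgroup.mem_centralizer_iff.2 fun v hv => hMab v hv u hu) ?_
          exact Subgroup.zpowers_le.2 hd.2
        · rw [Subgroup.mem_centralizer_iff]
          intro u hu
          have : M ⊔ Subgroup.zpowers d ≤ Subgroup.centralizer ({d} : Set P) := sup_le
            (fun u hu => Subgroup.mem_centralizer_singleton_iff.2 ((Subgroup.mem_centralizer_iff.1 hd.2 u hu)))
            (Subgroup.zpowers_le.2 (Subgroup.mem_centralizer_singleton_iff.2 rfl))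
          exact Subgroup.mem_centralizer_singleton_iff.1 (this hu)
      exact fun a ha b hb => (Subgroup.mem_centralizer_iff.1 (hle hb) a ha)
  refine ⟨M, hMS, hMn, ⟨x, hx⟩, ?_⟩
  have hZ : ∀ c ∈ S, (∀ g : P, g * c * g⁻¹ = c) → c ∈ M := fun c hc hcg =>
    hcent c hc fun m _ => (mul_inv_eq_iff_eq_mul.1 (hcg m)).symm
  obtain ⟨k, hk⟩ := IsPGroup.iff_orderOf.mp hP x
  rcases Nat.lt_or_ge k 2 with hk2 | hk2
  · -- small
    have htriv : ∀ g : P, ∀ m ∈ M, g * m = m * g := by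
      intro g m hm
      have hgx : g * x * g⁻¹ = x := by
        obtain ⟨i, hi⟩ := (hx ▸ hMn g x (hx ▸ Subgroup.mem_zpowers x) : g * x * g⁻¹ ∈ Subgroup.zpowers x)
        have hi' : x ^ i = g * x * g⁻¹ := hi
        have h2 : x ^ (2 : ℤ) = 1 := by
          rw [zpow_two, ← pow_two]; exact orderOf_dvd_iff_pow_eq_one.1 (hk ▸ pow_dvd_pow 2 (by omega : k ≤ 1))
        rw [← Int.mul_ediv_add_emod i 2, zpow_add, zpow_mul, h2, one_zpow, one_mul] at hi'
        rcases Int.emod_two_eq_zero_or_one i with e | e <;> rw [e] at hi'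
        · rw [zpow_zero] at hi'
          rw [conj_eq_one_iff.1 hi'.symm]; simp
        · rw [zpow_one] at hi'; exact hi'.symm
      obtain ⟨j, rfl⟩ := (hx ▸ hm : m ∈ Subgroup.zpowers x)
      exact ((show Commute g x from mul_inv_eq_iff_eq_mul.1 hgx).zpow_right j).eq
    have hSM : S ≤ M := fun s hs => hcent s hs fun m hm => htriv s m hm
    exact ⟨fun a ha b _ h _ => absurd (hSM ha) h, hZ, fun y hy h => absurd (hSM hy) h⟩
  let D₀ : Big P M := ⟨x, hx, k - 2, by rw [hk]; congr 1; omega⟩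
  have hkey : ∀ y ∈ S, y ∉ M → y * y = 1 → ∀ D : Big P M, y * D.q * y⁻¹ = D.q →
      (∀ g : P, g * y * g⁻¹ * y⁻¹ ∈ M) → False :=
    fun y hy hyM hy2 D hq hc => D.false_of_fix hS hMS hMn hy hyM hy2 hq hc
  -- nothing outside fixes an element of order four
  have hK : ∀ s ∈ S, s * D₀.q * s⁻¹ = D₀.q → s ∈ M := by
    by_contra h
    push Not at h
    obtain ⟨s, hsS, hsq, hsM⟩ := h
    have hq' : ∀ {a : P}, a ∈ Subgroup.centralizer ({D₀.q} : Set P) → a * D₀.q * a⁻¹ = D₀.q := fun ha =>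
      mul_inv_eq_iff_eq_mul.2 (Subgroup.mem_centralizer_singleton_iff.1 ha)
    let K : Subgroup P := S ⊓ Subgroup.centralizer ({D₀.q} : Set P)
    haveI : K.Normal := ⟨fun a ha g => ⟨Subgroup.Normal.conj_mem inferInstance a ha.1 g,
      Subgroup.mem_centralizer_singleton_iff.2 (mul_inv_eq_iff_eq_mul.1 (by
        have hg1 : g⁻¹ * D₀.q * g⁻¹⁻¹ = D₀.q ∨ g⁻¹ * D₀.q * g⁻¹⁻¹ = D₀.q⁻¹ := D₀.q_moved (hMn g⁻¹)
        rw [inv_inv] at hg1
        calc g * a * g⁻¹ * D₀.q * (g * a * g⁻¹)⁻¹ = g * (a * (g⁻¹ * D₀.q * g) * a⁻¹) * g⁻¹ := by group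
          _ = g * (g⁻¹ * D₀.q * g) * g⁻¹ := by
            rcases hg1 with e | e <;> rw [e]
            · rw [hq' ha.2]
            · rw [← conj_inv, hq' ha.2]
          _ = D₀.q := by group))⟩⟩
    obtain ⟨w, hwK, hwM, hw2, hwc⟩ := exists_central_mod hP M K
      (fun hle => hsM (hle ⟨hsS, Subgroup.mem_centralizer_singleton_iff.2 (mul_inv_eq_iff_eq_mul.1 hsq)⟩))
    -- the map `m ↦ m * m^w`
    obtain ⟨a, ha⟩ := D₀.eq_zpow (hMn w x (hx ▸ Subgroup.mem_zpowers x))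
    have ha' : w * x * w⁻¹ = x ^ a := ha
    have hwm : ∀ i : ℤ, w * x ^ i * w⁻¹ = x ^ (a * i) := fun i => by rw [← conj_zpow, ha', zpow_mul]
    obtain ⟨l, hl⟩ := D₀.eq_zpow hw2
    have hl' : w * w = x ^ l := hl
    have hfix : x ^ (a * l) = x ^ l := by rw [← hwm, ← hl']; group
    have hord : ∀ i : ℤ, x ^ i = 1 ↔ ((2 ^ k : ℕ) : ℤ) ∣ i := fun i => by rw [← hk]; exact orderOf_dvd_iff_zpow_eq_one.symm
    have ha4 : (4 : ℤ) ∣ a - 1 := by
      have h1 := hwm ((2 ^ (k - 2) : ℕ) : ℤ)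
      rw [zpow_natCast] at h1
      have h2 : w * D₀.q * w⁻¹ = D₀.q := hq' hwK.2
      change w * x ^ 2 ^ (k - 2) * w⁻¹ = x ^ 2 ^ (k - 2) at h2
      rw [h2] at h1
      have h3 : x ^ ((a - 1) * ((2 ^ (k - 2) : ℕ) : ℤ)) = 1 := by
        rw [sub_mul, one_mul, zpow_sub, ← h1, zpow_natCast, mul_inv_cancel]
      rw [hord, show (2 ^ k : ℕ) = 4 * 2 ^ (k - 2) by
        rw [show 4 = 2 ^ 2 from rfl, ← pow_add]; congr 1; omega] at h3
      push_cast at h3
      exact Int.dvd_of_mul_dvd_mul_right (by positivity) h3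
    have hleven : (2 : ℤ) ∣ l := by
      by_contra hc
      apply hwM
      refine hcent w hwK.1 fun m hm => ?_
      obtain ⟨i, rfl⟩ := D₀.eq_zpow hm
      have h1 : x ^ ((a - 1) * l) = 1 := by rw [sub_mul, one_mul, zpow_sub, hfix, mul_inv_cancel]
      rw [hord] at h1
      have hcop : IsCoprime ((2 ^ k : ℕ) : ℤ) l := by
        push_cast
        exact IsCoprime.pow_left ((Int.prime_two.coprime_iff_not_dvd).2 hc)
      have h2 : x ^ (a - 1) = 1 := (hord _).2 (hcop.dvd_of_dvd_mul_right h1)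
      show w * x ^ i = x ^ i * w
      refine mul_inv_eq_iff_eq_mul.1 ?_
      rw [hwm, show a * i = (a - 1) * i + i by ring, zpow_add, zpow_mul, h2, one_zpow, one_mul]
    -- solve `(x^i w)^2 = 1`
    obtain ⟨i, hi⟩ : ∃ i : ℤ, x ^ (i * (1 + a) + l) = 1 := by
      obtain ⟨l', hl'⟩ := hleven
      obtain ⟨a', ha''⟩ := ha4
      have hcop : IsCoprime ((2 ^ k : ℕ) : ℤ) (2 * a' + 1) := by
        push_cast
        exact IsCoprime.pow_left ((Int.prime_two.coprime_iff_not_dvd).2 (by omega))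
      obtain ⟨u, v, huv⟩ := hcop
      refine ⟨-(v * l'), (hord _).2 ⟨2 * u * l', ?_⟩⟩
      rw [show a = 4 * a' + 1 by omega, hl']
      linear_combination -2 * l' * huv
    set y := x ^ i * w with hy
    have hxiM : x ^ i ∈ M := hx ▸ zpow_mem (Subgroup.mem_zpowers x) i
    have hyS : y ∈ S := mul_mem (hMS hxiM) hwK.1
    have hyM : y ∉ M := fun h => hwM (by
      have := mul_mem (inv_mem hxiM) h
      rwa [hy, inv_mul_cancel_left] at this)
    have hy2 : y * y = 1 := by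
      calc y * y = x ^ i * (w * x ^ i * w⁻¹) * (w * w) := by rw [hy]; group
        _ = x ^ (i + a * i + l) := by rw [hwm, hl', ← zpow_add, ← zpow_add]
        _ = 1 := by rw [← hi]; congr 1; ring
    have hyq : y * D₀.q * y⁻¹ = D₀.q := by
      have h2 : x ^ i * D₀.q * (x ^ i)⁻¹ = D₀.q := mul_inv_eq_iff_eq_mul.2 (D₀.comm hxiM D₀.q_mem)
      calc y * D₀.q * y⁻¹ = x ^ i * (w * D₀.q * w⁻¹) * (x ^ i)⁻¹ := by rw [hy]; group
        _ = D₀.q := by rw [hq' hwK.2, h2]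
    refine hkey y hyS hyM hy2 D₀ hyq fun g => ?_
    have e : g * y * g⁻¹ * y⁻¹ = (g * x ^ i * g⁻¹) * (g * w * g⁻¹ * w⁻¹) * (x ^ i)⁻¹ := by rw [hy]; group
    rw [e]
    exact mul_mem (mul_mem (hMn g _ hxiM) (hwc g)) (inv_mem hxiM)
  have hpair : ∀ a ∈ S, ∀ b ∈ S, a ∉ M → b ∉ M → a * b ∈ M := by
    intro a ha b hb hax hbx
    refine hK _ (mul_mem ha hb) ?_
    have h1 := (D₀.q_moved (hMn a)).resolve_left fun e => hax (hK a ha e)
    have h2 := (D₀.q_moved (hMn b)).resolve_left fun e => hbx (hK b hb e)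
    calc a * b * D₀.q * (a * b)⁻¹ = a * (b * D₀.q * b⁻¹) * a⁻¹ := by group
      _ = D₀.q := by rw [h2, ← conj_inv, h1, inv_inv]
  refine ⟨hpair, hZ, fun y hy hyM hy2 D hq => hkey y hy hyM hy2 D hq fun g => ?_⟩
  have hg : g * y * g⁻¹ ∈ S := Subgroup.Normal.conj_mem inferInstance y hy g
  have hgM : g * y * g⁻¹ ∉ M := fun h => hyM (by
    have := hMn g⁻¹ _ h
    rwa [show g⁻¹ * (g * y * g⁻¹) * g⁻¹⁻¹ = y by group] at this)
  exact hpair _ hg _ (inv_mem hy) hgM (fun h => hyM (inv_mem_iff.1 h))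

end Cfsg.Agent.Tech.FourFree
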