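import Cfsg.Agent.Lib.Tech.SingleFixedPoint
import Cfsg.Agent.Lib.Basics.CoprimeGen
import Cfsg.Agent.Lib.ConjFunctor.CriticalChief
import Cfsg.Agent.Lib.Coprime23.Omega
import Cfsg.Agent.Lib.Transfer.Constrained
import Cfsg.Agent.Lib.Transfer.SL2Props
import Cfsg.Agent.Lib.Components.PLocal

/-!
# Invariant `p'`-subgroups for an `E_{p^2}` that is `Ω₁` of a Sylow subgroup of a centralizer
-/

set_option autoImplicit false
set_option linter.style.haveILetI false
set_option linter.unusedSectionVars false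
set_option linter.unusedVariables false

namespace Cfsg.Agent.Tech

open Subgroup Cfsg
open scoped commutatorElement

universe u

variable {G : Type u} [Group G] [Finite G] {p : ℕ} [hp : Fact p.Prime]

/-- An element of order prime to `p` fixing the order-`p` elements of `C_T(U)`, `T = O_p(G)`
self-centralizing, is trivial when it centralizes the `p`-group `U`. -/
theorem eq_one_of_fix_omega_centralizer (hodd : p ≠ 2)
    (hC : centralizer ((pCore p G : Subgroup G) : Set G) ≤ pCore p G) {U : Subgroup G}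
    (hU : IsPGroup p U) {y : G} (hy : (orderOf y).Coprime p)
    (hyU : ∀ u ∈ U, Commute y u)
    (hfix : ∀ x ∈ pCore p G, (∀ u ∈ U, Commute u x) → x ^ p = 1 → Commute y x) : y = 1 := by
  haveI := LocalEvenA.pCore_normal' p G
  set T := pCore p G
  have hT : IsPGroup p T := LocalEvenA.pCore_isPGroup' p G
  set R := T ⊓ centralizer (U : Set G) with hR
  have hyC : y ∈ normalizer ((centralizer (U : Set G) : Subgroup G) : Set G) :=
    le_normalizer (mem_centralizer_iff.mpr fun u hu => (hyU u hu).eq.symm)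
  have hyR : y ∈ normalizer (R : Set G) :=
    inf_normalizer_le_normalizer_inf ⟨by rw [normalizer_eq_top]; exact mem_top y, hyC⟩
  set α := R.normalizerMonoidHom ⟨y, hyR⟩
  have hα : (orderOf α).Coprime p := hy.coprime_dvd_left
    ((orderOf_map_dvd _ _).trans (by rw [Subgroup.orderOf_mk]))
  have hall := Coprime23.fix_of_fix_omega (hT.to_le inf_le_left) hodd α hα fun x hx => Subtype.ext (by
    show y * (x : G) * y⁻¹ = x
    have h1 : Commute y (x : G) := hfix _ (mem_inf.mp x.2).1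
      (fun u hu => mem_centralizer_iff.mp (mem_inf.mp x.2).2 u hu) (congrArg Subtype.val hx)
    rw [h1.eq, mul_inv_cancel_right])
  have hyT : ∀ a ∈ T, Commute y a := by
    refine ClassK.axb_lemma hU hT (by rw [normalizer_eq_top]; exact le_top)
      (by rw [normalizer_eq_top]; exact mem_top y) hy (fun u hu a _ => ?_) fun a ha hau => ?_
    · rw [(hyU u hu).eq, mul_inv_cancel_right, mul_inv_cancel]
      exact Commute.one_left a
    · have h1 := congrArg Subtype.val
        (hall ⟨a, mem_inf.mpr ⟨ha, mem_centralizer_iff.mpr fun u hu => (hau u hu).eq⟩⟩)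
      exact mul_inv_eq_iff_eq_mul.mp h1
  obtain ⟨k, hk⟩ := hT ⟨y, hC (mem_centralizer_iff.mpr fun a ha => (hyT a ha).eq.symm)⟩
  exact LocalEvenA.eq_one_of_pPow_of_coprime (congrArg Subtype.val hk) hy

theorem card_subgroupOf_dvd' {X : Type*} [Group X] (H K : Subgroup X) :
    Nat.card (H.subgroupOf K) ∣ Nat.card H := by
  rw [← card_map_of_injective K.subtype_injective, subgroupOf_map_subtype]
  exact card_dvd_of_le inf_le_left

theorem eq_bot_of_omega_centralizer (hodd : p ≠ 2)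
    (hC : centralizer ((pCore p G : Subgroup G) : Set G) ≤ pCore p G) (B : Subgroup G)
    (hB : IsElementaryAbelian p B) (hBc : Nat.card B = p ^ 2) {b₀ : G} (hb₀ : b₀ ∈ B) (hb₁ : b₀ ≠ 1)
    (hΩ : ∀ x ∈ pCore p G, b₀ * x = x * b₀ → x ^ p = 1 → x ∈ B)
    (Q : Subgroup G) (hQ : (Nat.card Q).Coprime p) (hBQ : B ≤ normalizer (Q : Set G)) : Q = ⊥ := by
  haveI := LocalEvenA.pCore_normal' p G
  haveI := hB.1
  set T := pCore p G with hTdef
  have hT : IsPGroup p T := LocalEvenA.pCore_isPGroup' p G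
  have hBcomm : ∀ u ∈ B, ∀ v ∈ B, Commute u v := fun u hu v hv =>
    congrArg Subtype.val (mul_comm' (⟨u, hu⟩ : B) ⟨v, hv⟩)
  have hBp : IsPGroup p B := IsPGroup.of_card_dvd_pow (n := 2) (hBc ▸ dvd_rfl)
  have hord : ∀ y ∈ Q, (orderOf y).Coprime p := fun y hy => hQ.coprime_dvd_left (by
    rw [← Subgroup.orderOf_mk y hy]; exact orderOf_dvd_natCard _)
  have hz : zpowers b₀ ≤ B := zpowers_le.mpr hb₀
  -- `C_Q(B) = 1`
  have hQB : ∀ y ∈ Q, (∀ u ∈ B, Commute y u) → y = 1 := fun y hy hyB =>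
    eq_one_of_fix_omega_centralizer hodd hC hBp (hord y hy) hyB fun x hx hxB hxp =>
      hyB x (hΩ x hx (hxB b₀ hb₀).eq hxp)
  -- `C_Q(b₀) = 1`
  have hQb : ∀ y ∈ Q, b₀ * y = y * b₀ → y = 1 := by
    intro y hy hyb
    refine hQB y hy fun u hu => ?_
    have hxconj : ∀ {x : G}, x ∈ T → b₀ * x = x * b₀ → x ^ p = 1 → y * x * y⁻¹ ∈ B := by
      intro x hx hxb hxp
      refine hΩ _ ((inferInstance : T.Normal).conj_mem x hx y) ?_ (by rw [conj_pow, hxp, mul_one, mul_inv_cancel])
      exact (Commute.mul_right (Commute.mul_right hyb hxb) (Commute.inv_right hyb)).eq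
    have hc : u * y * u⁻¹ * y⁻¹ = 1 := by
      refine eq_one_of_fix_omega_centralizer hodd hC (U := zpowers b₀) (hBp.to_le hz)
        (hord _ (mul_mem ((mem_normalizer_iff.mp (hBQ hu) y).mp hy) (inv_mem hy)))
        (fun v hv => ?_) fun x hx hxv hxp => ?_
      · have h1 : Commute b₀ (u * y * u⁻¹ * y⁻¹) := by
          have hbu : Commute b₀ u := hBcomm _ hb₀ _ hu
          have hby : Commute b₀ y := hyb
          exact (((hbu.mul_right hby).mul_right hbu.inv_right).mul_right hby.inv_right)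
        obtain ⟨k, rfl⟩ := mem_zpowers_iff.mp hv
        exact (h1.zpow_left k).symm
      · have hxb : b₀ * x = x * b₀ := (hxv b₀ (mem_zpowers b₀)).eq
        have hxB : x ∈ B := hΩ x hx hxb hxp
        have hinv : y⁻¹ * x * y ∈ B := by
          refine hΩ _ (by simpa using (inferInstance : T.Normal).conj_mem x hx y⁻¹)
            ((Commute.mul_right (Commute.mul_right (Commute.inv_right hyb) hxb) hyb).eq) ?_
          have : (y⁻¹ * x * y⁻¹⁻¹) ^ p = 1 := by rw [conj_pow, hxp, mul_one, mul_inv_cancel]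
          simpa using this
        have h1 : y⁻¹ * (u⁻¹ * x * u) * y = y⁻¹ * x * y := by
          rw [mul_assoc u⁻¹, (hBcomm x hxB u hu).eq, inv_mul_cancel_left]
        have h2 : u * (y⁻¹ * x * y) * u⁻¹ = y⁻¹ * x * y := by
          rw [(hBcomm u hu _ hinv).eq, mul_inv_cancel_right]
        -- the commutator fixes `x`
        show u * y * u⁻¹ * y⁻¹ * x = x * (u * y * u⁻¹ * y⁻¹)
        have h3 : u * y * u⁻¹ * y⁻¹ * x * (u * y * u⁻¹ * y⁻¹)⁻¹ = x := by
          have h4 : u⁻¹ * (y⁻¹ * x * y) * u = y⁻¹ * x * y := by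
            rw [mul_assoc u⁻¹, (hBcomm _ hinv u hu).eq, inv_mul_cancel_left]
          calc u * y * u⁻¹ * y⁻¹ * x * (u * y * u⁻¹ * y⁻¹)⁻¹
              = u * y * (u⁻¹ * (y⁻¹ * x * y) * u) * y⁻¹ * u⁻¹ := by group
            _ = u * x * u⁻¹ := by rw [h4]; group
            _ = x := by rw [(hBcomm u hu x hxB).eq, mul_inv_cancel_right]
        exact mul_inv_eq_iff_eq_mul.mp h3
    have h5 : u * y * u⁻¹ = y := mul_inv_eq_one.mp hc
    exact (mul_inv_eq_iff_eq_mul.mp h5).symm
  have hBN : ∀ b ∈ B, ∀ y ∈ Q, b * y * b⁻¹ ∈ Q := fun b hb y hy =>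
    (mem_normalizer_iff.mp (hBQ hb) y).mp hy
  have hTQ : ∀ t ∈ B, t ∈ T → ∀ y ∈ Q, t * y = y * t := by
    intro t ht htT y hy
    have h1 : t * y * t⁻¹ * y⁻¹ ∈ T ⊓ Q := mem_inf.mpr
      ⟨by simpa [mul_assoc] using mul_mem htT ((inferInstance : T.Normal).conj_mem _ (inv_mem htT) y),
        mul_mem (hBN t ht y hy) (inv_mem hy)⟩
    obtain ⟨k, hk⟩ := hT ⟨_, (mem_inf.mp h1).1⟩
    have h2 := LocalEvenA.eq_one_of_pPow_of_coprime (congrArg Subtype.val hk)
      (hord _ (mem_inf.mp h1).2)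
    exact mul_inv_eq_iff_eq_mul.mp (mul_inv_eq_one.mp h2)
  have hb₀p : b₀ ^ p = 1 := hB.2 b₀ hb₀
  by_cases hb₀T : b₀ ∈ T
  · exact (eq_bot_iff_forall _).mpr fun y hy => hQb y hy (hTQ b₀ hb₀ hb₀T y hy)
  by_cases hBT : B ⊓ T = ⊥
  · -- no fixed points at all
    have hcyc : ¬ IsCyclic B := by
      intro hc
      obtain ⟨g, hg⟩ := hc.exists_generator
      have h1 : Nat.card (zpowers g) = p ^ 2 := by
        rw [show zpowers g = ⊤ from (eq_top_iff' _).mpr hg, card_top, hBc]
      rw [Nat.card_zpowers] at h1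
      have h2 : orderOf g ∣ p := orderOf_dvd_of_pow_eq_one (Subtype.ext (by simpa using hB.2 g g.2))
      have h3 := Nat.le_of_dvd hp.out.pos h2
      rw [h1, sq] at h3
      exact absurd h3 (not_le.mpr (lt_mul_of_one_lt_left hp.out.pos hp.out.one_lt))
    rw [← le_bot_iff, ← Basics.iSup_inf_centralizer_eq B Q hcyc hBQ
      (hBc ▸ (hQ.pow_right 2).symm)]
    refine iSup₂_le fun a ⟨ha, ha1⟩ y hy => ?_
    have hR : T ⊓ centralizer ({a} : Set G) = ⊥ := by
      by_contra hne
      obtain ⟨x, hx, hx1⟩ := fixed_point_ne_one hb₀p (hT.to_le inf_le_left)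
        (inf_normalizer_le_normalizer_inf ⟨by rw [normalizer_eq_top]; exact mem_top _,
          le_normalizer (mem_centralizer_singleton_iff.mpr (hBcomm b₀ hb₀ a ha).eq)⟩) hne
      obtain ⟨hxT, hxb⟩ := mem_inf.mp hx
      obtain ⟨hxT, -⟩ := mem_inf.mp hxT
      have hxo : orderOf x ≠ 1 := fun h => hx1 (orderOf_eq_one_iff.mp h)
      obtain ⟨k, hk⟩ := isPGroup_iff_orderOf_dvd_pow.mp hT ⟨x, hxT⟩
      rw [Subgroup.orderOf_mk] at hk
      obtain ⟨j, -, hj⟩ := (Nat.dvd_prime_pow hp.out).mp hk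
      rcases j with _ | j
      · exact hxo hj
      have hxb' : Commute b₀ x := (mem_centralizer_singleton_iff.mp hxb).symm
      have hw : x ^ p ^ j ∈ B ⊓ T := mem_inf.mpr ⟨hΩ _ (pow_mem hxT _) (hxb'.pow_right _).eq
        (by rw [← pow_mul, ← pow_succ, ← hj, pow_orderOf_eq_one]), pow_mem hxT _⟩
      rw [hBT, mem_bot] at hw
      have h4 := orderOf_dvd_of_pow_eq_one hw
      rw [hj, Nat.pow_dvd_pow_iff_le_right hp.out.one_lt] at h4
      omega
    refine eq_one_of_fix_omega_centralizer hodd hC (U := zpowers a) (hBp.to_le (zpowers_le.mpr ha))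
      (hord y (mem_inf.mp hy).1) (fun v hv => ?_) fun x hx hxv _ => ?_
    · obtain ⟨k, rfl⟩ := mem_zpowers_iff.mp hv
      exact (show Commute y a from mem_centralizer_singleton_iff.mp (mem_inf.mp hy).2).zpow_right k
    · have h1 : x ∈ T ⊓ centralizer ({a} : Set G) := mem_inf.mpr
        ⟨hx, mem_centralizer_singleton_iff.mpr (hxv a (mem_zpowers a)).eq.symm⟩
      rw [hR, mem_bot] at h1
      rw [h1]; exact Commute.one_right y
  -- the single fixed point case
  obtain ⟨A₀, hA₀c, hA₀3, hA₀1, hA₀C⟩ := ConjFunctor.exists_critical hT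
  haveI := hA₀c
  have hcl : ∀ u ∈ A₀, ∀ v ∈ A₀, ∀ w ∈ A₀, Commute ⁅u, v⁆ w := fun u hu v hv w hw =>
    (mem_centralizer_iff.mp
      (mem_inf.mp (hA₀3 (commutator_mem_commutator (mem_top u) hv))).2 w hw).symm
  have hpow : ∀ {u v : ↥T}, u ∈ A₀ → v ∈ A₀ → u ^ p = 1 → v ^ p = 1 → (u * v) ^ p = 1 := by
    intro u v hu hv hup hvp
    have hc := hcl v hv u hu
    have h1 : ⁅v, u⁆ ^ p = 1 := by
      rw [← Transfer.commutator_pow_left (hc v hv).symm, hvp, commutatorElement_one_left]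
    obtain ⟨m, hm⟩ := Transfer.dvd_choose_two_of_odd (hp.out.odd_of_ne_two hodd)
    rw [Transfer.mul_pow_of_commute (hc u hu) (hc v hv), hup, hvp, one_mul, one_mul, hm, pow_mul,
      h1, one_pow]
  let D : Subgroup G :=
    { carrier := {w | ∃ u : ↥T, u ∈ A₀ ∧ u ^ p = 1 ∧ (u : G) = w}
      one_mem' := ⟨1, one_mem _, one_pow p, rfl⟩
      mul_mem' := by
        rintro _ _ ⟨u, hu, hup, rfl⟩ ⟨v, hv, hvp, rfl⟩
        exact ⟨u * v, mul_mem hu hv, hpow hu hv hup hvp, rfl⟩
      inv_mem' := by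
        rintro _ ⟨u, hu, hup, rfl⟩
        exact ⟨u⁻¹, inv_mem hu, by rw [inv_pow, hup, inv_one], rfl⟩ }
  have hDT : D ≤ T := by rintro _ ⟨u, -, -, rfl⟩; exact u.2
  have hDexp : ∀ x ∈ D, x ^ p = 1 := by
    rintro _ ⟨u, -, hup, rfl⟩
    exact congrArg Subtype.val hup
  haveI hDn : D.Normal := ⟨by
    rintro _ ⟨u, hu, hup, rfl⟩ g
    refine ⟨MulAut.conjNormal g u, ?_, by rw [← map_pow, hup, map_one],
      MulAut.conjNormal_apply g u⟩
    exact (characteristic_iff_map_eq.mp hA₀c (MulAut.conjNormal g)).le (mem_map_of_mem _ hu)⟩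
  have hDclass : ⁅D, D⁆ ≤ centralizer (D : Set G) := commutator_le.mpr fun x hx y hy => by
    obtain ⟨u, hu, -, rfl⟩ := hx
    obtain ⟨v, hv, -, rfl⟩ := hy
    refine mem_centralizer_iff.mpr fun w hw => ?_
    obtain ⟨w', hw', -, rfl⟩ := hw
    exact (congrArg Subtype.val (hcl u hu v hv w' hw').eq).symm
  have hDb : D ⊓ centralizer ({b₀} : Set G) ≤ B ⊓ T := fun x hx => by
    obtain ⟨hxD, hxb⟩ := mem_inf.mp hx
    exact mem_inf.mpr ⟨hΩ x (hDT hxD) (mem_centralizer_singleton_iff.mp hxb).symm (hDexp x hxD),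
      hDT hxD⟩
  have hBTc : Nat.card ↥(B ⊓ T) ≤ p := by
    obtain ⟨j, hj, hjc⟩ := (Nat.dvd_prime_pow hp.out).mp
      (hBc ▸ card_dvd_of_le (inf_le_left : B ⊓ T ≤ B))
    rw [hjc]
    rcases Nat.lt_or_ge j 2 with h | h
    · exact (Nat.pow_le_pow_right hp.out.pos (Nat.le_of_lt_succ h)).trans (pow_one p).le
    · exact absurd (mem_inf.mp ((eq_of_le_of_card_ge (inf_le_left : B ⊓ T ≤ B)
        (by rw [hjc, hBc]; exact Nat.pow_le_pow_right hp.out.pos h)).ge hb₀)).2 hb₀T
  have hQD : Q ≤ centralizer (D : Set G) := by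
    refine centralizes_of_single_fixed hodd D (hT.to_le hDT) hDexp hDclass hb₀p Q (hBQ hb₀) hQ hQb
      ((card_le_of_le hDb).trans hBTc) fun x hx => mem_centralizer_iff.mpr fun y hy => ?_
    exact (hTQ x (mem_inf.mp (hDb hx)).1 (mem_inf.mp (hDb hx)).2 y hy).symm
  refine (eq_bot_iff_forall _).mpr fun y hy => ?_
  -- `y` fixes `A` hence `T`
  have hfixA : ∀ u : ↥T, u ∈ A₀ → MulAut.conjNormal y u = u := by
    have hyA : ∀ u ∈ A₀, MulAut.conjNormal (H := T) y u ∈ A₀ := fun u hu =>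
      (characteristic_iff_map_eq.mp hA₀c _).le (mem_map_of_mem _ hu)
    set α := Coprime23.restrictAut (MulAut.conjNormal (H := T) y) A₀ hyA
    have hα : ∀ u, α u = u := by
      refine Coprime23.fix_of_fix_omega (hT.to_subgroup A₀) hodd α ?_ fun u hu => ?_
      · refine (hord y hy).coprime_dvd_left (orderOf_dvd_of_pow_eq_one (MulEquiv.ext fun u => ?_))
        have hpow' : ∀ n : ℕ, ((α ^ n) u : ↥T) = (MulAut.conjNormal (H := T) y ^ n) (u : ↥T) := by
          intro n
          induction n with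
          | zero => rfl
          | succ n ih =>
            rw [pow_succ', MulAut.mul_apply, pow_succ', MulAut.mul_apply, ← ih]
            exact Coprime23.restrictAut_apply _ _ _ _
        refine Subtype.ext ?_
        rw [hpow', ← map_pow, pow_orderOf_eq_one, map_one]
        rfl
      · refine Subtype.ext ((Coprime23.restrictAut_apply _ _ _ _).trans (Subtype.ext ?_))
        have hmem : ((u : ↥T) : G) ∈ D := ⟨(u : ↥T), u.2, congrArg Subtype.val hu, rfl⟩
        have h1 := mem_centralizer_iff.mp (hQD hy) _ hmem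
        rw [MulAut.conjNormal_apply, ← h1, mul_inv_cancel_right]
    intro u hu
    exact (Coprime23.restrictAut_apply _ _ hyA ⟨u, hu⟩).symm.trans (congrArg Subtype.val (hα ⟨u, hu⟩))
  have h1 := ConjFunctor.eq_one_of_fix_critical hT inferInstance hA₀C (MulAut.conjNormal y)
    ((hord y hy).coprime_dvd_left (orderOf_map_dvd _ y)) hfixA
  obtain ⟨k, hk⟩ := hT ⟨y, hC (mem_centralizer_iff.mpr fun a ha => by
    have h2 := congrArg Subtype.val (DFunLike.congr_fun h1 (⟨a, ha⟩ : ↥T))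
    rw [MulAut.conjNormal_apply] at h2
    exact (mul_inv_eq_iff_eq_mul.mp h2).symm)⟩
  exact LocalEvenA.eq_one_of_pPow_of_coprime (congrArg Subtype.val hk) (hord y hy)

/-- The general form, modulo `O_{p'}(G)`. -/
theorem le_pPrimeCore_of_omega (hodd : p ≠ 2) (hG : IsPSolvable p G) (B : Subgroup G)
    (hB : IsElementaryAbelian p B) (hBc : Nat.card B = p ^ 2) {b₀ : G} (hb₀ : b₀ ∈ B) (hb₁ : b₀ ≠ 1)
    (P : Sylow p ↥(centralizer ({b₀} : Set G)))
    (hΩ : ∀ x ∈ (P : Subgroup ↥(centralizer ({b₀} : Set G))).map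
      (centralizer ({b₀} : Set G)).subtype, x ^ p = 1 → x ∈ B)
    (Q : Subgroup G) (hQ : (Nat.card Q).Coprime p) (hBQ : B ≤ normalizer (Q : Set G)) :
    Q ≤ pPrimeCore p G := by
  set O := pPrimeCore p G with hO
  set π := QuotientGroup.mk' O with hπ
  have hOc : (Nat.card O).Coprime p := Basics.pPrimeCore_coprime p
  have hinj : ∀ {S : Subgroup G}, IsPGroup p S → ∀ x ∈ S, π x = 1 → x = 1 := by
    intro S hS x hx hx1
    obtain ⟨k, hk⟩ := hS ⟨x, hx⟩
    refine LocalEvenA.eq_one_of_pPow_of_coprime (congrArg Subtype.val hk)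
      (hOc.coprime_dvd_left ?_)
    rw [← Subgroup.orderOf_mk x ((QuotientGroup.eq_one_iff x).mp hx1)]
    exact orderOf_dvd_natCard _
  have hBp : IsPGroup p B := IsPGroup.of_card_dvd_pow (n := 2) (hBc ▸ dvd_rfl)
  rw [← QuotientGroup.ker_mk' O, ← Subgroup.map_eq_bot_iff]
  have hO' : pPrimeCore p (G ⧸ O) = ⊥ := Basics.pPrimeCore_quotient_eq_bot p
  refine eq_bot_of_omega_centralizer hodd
    (Transfer.centralizer_pCore_le_of_pSolvable hO' (Transfer.isPSolvable_subgroup'
      (Coprime23.isPSolvable_map π (QuotientGroup.mk'_surjective O) hG) _))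
    (B.map π) ⟨?_, ?_⟩ ?_ (b₀ := π b₀) (mem_map_of_mem π hb₀) (fun h => hb₁ (hinj hBp b₀ hb₀ h))
    ?_ (Q.map π) (hQ.coprime_dvd_left (card_map_dvd _ _))
    ((map_mono hBQ).trans (le_normalizer_map π))
  · haveI := hB.1; infer_instance
  · rintro _ ⟨b, hb, rfl⟩
    rw [← map_pow, hB.2 b hb, map_one]
  · rw [← hBc]
    have h1 := (π.comp B.subtype).ker.card_mul_index
    rw [index_ker, MonoidHom.range_comp, range_subtype] at h1
    have hk : (π.comp B.subtype).ker = ⊥ := (eq_bot_iff_forall _).mpr fun x hx =>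
      Subtype.ext (hinj hBp x x.2 hx)
    rwa [hk, card_bot, one_mul] at h1
  intro x hx hxb hxp
  let C : Subgroup G := centralizer ({b₀} : Set G)
  have hCmap : C.map π = centralizer ({π b₀} : Set (G ⧸ O)) := by
    have h1 := Components.map_centralizer_of_coprime (N := O) hOc
      (hBp.to_le (zpowers_le.mpr hb₀))
    rw [MonoidHom.map_zpowers] at h1
    rw [show C = centralizer ((zpowers b₀ : Subgroup G) : Set G) by
      rw [zpowers_eq_closure, centralizer_closure], h1,
      show centralizer ((zpowers (π b₀) : Subgroup (G ⧸ O)) : Set (G ⧸ O)) = centralizer {π b₀} by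
      rw [zpowers_eq_closure, centralizer_closure]]
  -- `x` is the image of an element of `P`
  set f : ↥C →* G ⧸ O := π.comp C.subtype
  set R := (pCore p (G ⧸ O)).comap f
  have hRn : R.Normal := (LocalEvenA.pCore_normal' p (G ⧸ O)).comap f
  have hkerc : ¬ p ∣ Nat.card f.ker := by
    intro hd
    refine hp.out.one_lt.ne' (Nat.eq_one_of_dvd_coprimes hOc ?_ dvd_rfl)
    refine hd.trans ?_
    rw [show f.ker = O.subgroupOf C from Subgroup.ext fun w => QuotientGroup.eq_one_iff (N := O) (w : G)]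
    exact card_subgroupOf_dvd' O C
  obtain ⟨T₁, hT₁⟩ := Transfer.exists_sylow_eq_subgroupOf P R
  have hsup : R ≤ f.ker ⊔ (P : Subgroup ↥C) ⊓ R := by
    -- a Sylow `p`-subgroup of `R` covers `R` modulo the kernel
    have hcov : f.ker ⊔ (P : Subgroup ↥C) ⊓ R = R := by
      refine eq_of_le_of_card_ge (sup_le (comap_mono (f := f) bot_le |>.trans' (le_of_eq (MonoidHom.comap_bot f).symm)) inf_le_right) ?_
      have hdvd : Nat.card R ∣ Nat.card ↥(f.ker ⊔ (P : Subgroup ↥C) ⊓ R) := by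
        obtain ⟨e, he⟩ := ((LocalEvenA.pCore_isPGroup' p (G ⧸ O)).to_le
          (map_comap_le f (pCore p (G ⧸ O)))).exists_card_eq
        have h1 := (f.comp R.subtype).ker.card_mul_index
        rw [index_ker, MonoidHom.range_comp, range_subtype, he] at h1
        have hk' : Nat.card (f.comp R.subtype).ker ∣ Nat.card f.ker := by
          rw [show (f.comp R.subtype).ker = f.ker.subgroupOf R from rfl]
          exact card_subgroupOf_dvd' f.ker R
        rw [← h1]
        refine Nat.Coprime.mul_dvd_of_dvd_of_dvd (Nat.Coprime.pow_right e ?_)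
          ((hk'.trans (card_dvd_of_le le_sup_left))) ?_
        · exact (hp.out.coprime_iff_not_dvd.mpr fun hd => hkerc (hd.trans hk')).symm
        refine dvd_trans ?_ (card_dvd_of_le (le_sup_right : (P : Subgroup ↥C) ⊓ R ≤ _))
        rw [← Nat.card_congr (subgroupOfEquivOfLe (inf_le_right : (P : Subgroup ↥C) ⊓ R ≤ R)).toEquiv,
          inf_subgroupOf_right, ← hT₁, T₁.card_eq_multiplicity]
        refine pow_dvd_pow p ((hp.out.pow_dvd_iff_le_factorization Nat.card_pos.ne').mp ?_)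
        rw [← h1]; exact Dvd.intro_left _ rfl
      exact Nat.le_of_dvd Nat.card_pos hdvd
    exact hcov.ge
  obtain ⟨w, hw, rfl⟩ : x ∈ C.map π := by
    rw [hCmap, mem_centralizer_singleton_iff]; exact hxb.symm
  have hwR : (⟨w, hw⟩ : ↥C) ∈ R := hx
  haveI : f.ker.Normal := inferInstance
  obtain ⟨k, hk, s, hs, hks⟩ := mem_sup_of_normal_left.mp (hsup hwR)
  have hsP : (s : G) ∈ (P : Subgroup ↥C).map C.subtype := mem_map_of_mem _ (mem_inf.mp hs).1
  have hxs : π w = π (s : G) := by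
    rw [show (w : G) = ((k * s : ↥C) : G) from congrArg Subtype.val hks.symm, Subgroup.coe_mul,
      map_mul, show π (k : G) = 1 from hk, one_mul]
  have hsp : (s : G) ^ p = 1 := by
    refine hinj (P.2.map C.subtype) _ (pow_mem hsP p) ?_
    rw [map_pow, ← hxs, hxp]
  exact ⟨s, hΩ _ hsP hsp, hxs.symm⟩

end Cfsg.Agent.Tech
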