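import Cfsg.Agent.Lib.Tech.FourGroupRankOne
import Cfsg.Prelude

/-!
Perfectness of semisimple groups and 2-rank one via commuting involutions.
-/

set_option autoImplicit false

namespace Cfsg.Agent.Tech.FourFree

variable {G : Type*} [Group G]

theorem perfect_of_layer (A : Subgroup G) (hA : Cfsg.layer ↥A = ⊤) : Group.IsPerfect ↥A := by
  refine ⟨eq_top_iff.2 (hA ▸ sSup_le ?_)⟩
  rintro K ⟨-, hK, -⟩ k hk
  have h : (⟨k, hk⟩ : K) ∈ commutator ↥K := by rw [hK.commutator_eq_top]; trivial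
  have := Subgroup.mem_map_of_mem K.subtype h
  rw [commutator_def, Subgroup.map_commutator] at this
  exact Subgroup.commutator_mono le_top le_top this

theorem eq_of_rank_one {H : Subgroup G} (hH : Cfsg.PRankLE 2 1 ↥H) {a b : G} (ha : a ∈ H) (hb : b ∈ H)
    (ha2 : a * a = 1) (hb2 : b * b = 1) (ha1 : a ≠ 1) (hb1 : b ≠ 1) (hab : a * b = b * a) : a = b := by
  by_contra hne
  let Q : Subgroup ↥H := quad ⟨a, ha⟩ ⟨b, hb⟩ (Subtype.ext ha2) (Subtype.ext hb2) (Subtype.ext hab)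
  have hexp : ∀ m ∈ Q, m ^ 2 = 1 := by
    intro m hm
    rw [pow_two]
    rcases hm with rfl | rfl | rfl | rfl
    · exact mul_one 1
    · exact Subtype.ext ha2
    · exact Subtype.ext hb2
    · exact Subtype.ext (show a * b * (a * b) = 1 by rw [mul_assoc, ← mul_assoc b, ← hab, mul_assoc, hb2, mul_one, ha2])
  have hcomm : IsMulCommutative Q := ⟨⟨fun x y => Subtype.ext (by
    have hx : (x : ↥H)⁻¹ = x := inv_eq_of_mul_eq_one_left (by rw [← pow_two]; exact hexp _ x.2)
    have hy : (y : ↥H)⁻¹ = y := inv_eq_of_mul_eq_one_left (by rw [← pow_two]; exact hexp _ y.2)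
    have hxy : ((x : ↥H) * y)⁻¹ = x * y := inv_eq_of_mul_eq_one_left (by rw [← pow_two]; exact hexp _ (x * y).2)
    show (x : ↥H) * y = y * x
    rw [← hxy, mul_inv_rev, hx, hy])⟩⟩
  have hc := hH Q hcomm hexp
  let f : Fin 3 → Q := ![1, ⟨⟨a, ha⟩, Or.inr (Or.inl rfl)⟩, ⟨⟨b, hb⟩, Or.inr (Or.inr (Or.inl rfl))⟩]
  have hf : Function.Injective f := by
    intro i j h
    fin_cases i <;> fin_cases j <;> first
      | rfl
      | (simp [f, Subtype.ext_iff, ha1, hb1, hne, Ne.symm ha1, Ne.symm hb1, Ne.symm hne] at h)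
  haveI : Finite Q := Set.Finite.to_subtype (((Set.finite_singleton _).insert _).insert _ |>.insert _)
  have := Nat.card_le_card_of_injective f hf
  rw [Nat.card_eq_fintype_card, Fintype.card_fin] at this
  omega

theorem rank_exact [Finite G] {A : Subgroup G}
    (h : ∀ a ∈ A, ∀ b ∈ A, a * a = 1 → b * b = 1 → a ≠ 1 → b ≠ 1 → a * b = b * a → a = b)
    (he : ∃ e ∈ A, e * e = 1 ∧ e ≠ 1) : Cfsg.PRankLE 2 1 ↥A ∧ ¬ Cfsg.PRankLE 2 0 ↥A := by
  constructor
  · intro B hB hexp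
    by_contra hc
    rw [not_le, pow_one] at hc
    haveI : Nontrivial B := Finite.one_lt_card_iff_nontrivial.1 (by omega)
    obtain ⟨a, ha⟩ := exists_ne (1 : B)
    have hex : ∃ b : B, b ≠ 1 ∧ b ≠ a := by
      by_contra h'
      push Not at h'
      have : Nat.card B ≤ Nat.card (Fin 2) := Nat.card_le_card_of_surjective ![1, a] fun b => by
        by_cases hb : b = 1
        · exact ⟨0, hb.symm⟩
        · exact ⟨1, (h' b hb).symm⟩
      rw [Nat.card_eq_fintype_card (α := Fin 2), Fintype.card_fin] at this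
      omega
    obtain ⟨b, hb, hba⟩ := hex
    have sq : ∀ m : B, ((m : ↥A) : G) * ((m : ↥A) : G) = 1 := fun m => by
      have := congrArg Subtype.val (hexp m m.2)
      rwa [SubmonoidClass.coe_pow, pow_two, OneMemClass.coe_one] at this
    refine hba (Subtype.ext (Subtype.ext (h _ (b : ↥A).2 _ (a : ↥A).2 (sq b) (sq a)
      (fun e => hb (Subtype.ext (Subtype.ext e))) (fun e => ha (Subtype.ext (Subtype.ext e))) ?_)))
    exact congrArg (fun m : B => ((m : ↥A) : G)) (hB.is_comm.comm b a)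
  · intro h0
    obtain ⟨e, heA, he2, he1⟩ := he
    have hex : ∀ m ∈ Subgroup.zpowers (⟨e, heA⟩ : ↥A), m ^ 2 = 1 := by
      rintro _ ⟨i, rfl⟩
      show ((⟨e, heA⟩ : ↥A) ^ i) ^ 2 = 1
      rw [← zpow_natCast, ← zpow_mul, mul_comm, zpow_mul, zpow_natCast, pow_two,
        show (⟨e, heA⟩ : ↥A) * ⟨e, heA⟩ = 1 from Subtype.ext he2, one_zpow]
    have hc := h0 (Subgroup.zpowers ⟨e, heA⟩) inferInstance hex
    rw [pow_zero, Nat.card_zpowers] at hc
    have h1 : orderOf (⟨e, heA⟩ : ↥A) = 1 := le_antisymm hc (orderOf_pos _)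
    exact he1 (congrArg Subtype.val (orderOf_eq_one_iff.1 h1))

theorem exists_invol_of_rank {H : Type*} [Group H] (h : ¬ Cfsg.PRankLE 2 0 H) : ∃ e : H, e * e = 1 ∧ e ≠ 1 := by
  by_contra hc
  push Not at hc
  refine h fun B _ hexp => ?_
  have : B = ⊥ := (Subgroup.eq_bot_iff_forall B).2 fun m hm => hc m (by rw [← pow_two]; exact hexp m hm)
  rw [this, Subgroup.card_bot, pow_zero]

end Cfsg.Agent.Tech.FourFree
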