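import Cfsg.Agent.Lib.Transfer.ClassTwo
import Cfsg.Agent.Lib.Transfer.Replacement
import Cfsg.Agent.Lib.ConjFunctor.CriticalChief
import Cfsg.Agent.Lib.OddLocal.RankTwoOmega
import Cfsg.Agent.Lib.OddLocal.UniqueC
import Cfsg.Agent.Lib.PGroup23.NormalSq
import Cfsg.Agent.Lib.FGB.PGroupBasic
import Cfsg.Agent.Lib.ConjFunctor.Socle

/-!
# `p`-groups of rank at most two, `p` odd: indices of normal subgroups containing all proper
characteristic subgroups, and `p`-chief factors of groups of `p`-rank at most two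
-/

set_option autoImplicit false
set_option linter.style.haveILetI false
set_option linter.unusedSectionVars false
set_option linter.unusedVariables false

namespace Cfsg.Agent.Tech

open Subgroup Cfsg
open scoped commutatorElement

universe u

variable {L : Type u} [Group L] [Finite L] {p : ℕ} [hp : Fact p.Prime]

/-- If all elements of order `p` are central and `p` is odd, `x ↦ x ^ p` separates cosets of them. -/
theorem inv_mul_pow_eq_one (hodd : p ≠ 2) (hL : IsPGroup p L)
    (hΩ : ∀ x : L, x ^ p = 1 → x ∈ center L) :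
    ∀ x y : L, x ^ p = y ^ p → (x⁻¹ * y) ^ p = 1 := by
  suffices h : ∀ n, ∀ x y : L, Nat.card ↥(closure ({x, y} : Set L)) = n → x ^ p = y ^ p →
      (x⁻¹ * y) ^ p = 1 from fun x y => h _ x y rfl
  intro n
  induction n using Nat.strong_induction_on with
  | _ n ih =>
  intro x y hn hxy
  by_cases hc : Commute x y
  · rw [hc.inv_left.mul_pow, inv_pow, hxy, inv_mul_cancel]
  let S : Subgroup L := closure ({x, y} : Set L)
  have hxS : x ∈ S := subset_closure (Set.mem_insert x {y})
  have hyS : y ∈ S := subset_closure (Set.mem_insert_of_mem _ (Set.mem_singleton y))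
  let x' : ↥S := ⟨x, hxS⟩
  let y' : ↥S := ⟨y, hyS⟩
  haveI : Group.IsNilpotent ↥S := (hL.to_subgroup S).isNilpotent
  have hne : zpowers x' ≠ ⊤ := by
    intro h
    obtain ⟨k, hk⟩ := mem_zpowers_iff.mp (h.ge (mem_top y'))
    have h1 : x ^ k = y := congrArg Subtype.val hk
    exact hc (h1 ▸ (Commute.refl x).zpow_right k)
  obtain ⟨M, hM, hxM⟩ := (eq_top_or_exists_le_coatom (zpowers x')).resolve_left hne
  haveI hMn : M.Normal := (FGB.coatom_normal_and_index (hL.to_subgroup S) hM).1
  have hxM' : x' ∈ M := hxM (mem_zpowers x')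
  have hz : y'⁻¹ * x' * y' ∈ M := by simpa using hMn.conj_mem x' hxM' y'⁻¹
  have hzp : x ^ p = (y⁻¹ * x * y) ^ p := by
    have h1 : (y⁻¹ * x * y⁻¹⁻¹) ^ p = y⁻¹ * x ^ p * y⁻¹⁻¹ := conj_pow
    rw [inv_inv] at h1
    rw [h1, hxy, mul_assoc, ← pow_succ, pow_succ', inv_mul_cancel_left]
  have hlt : Nat.card ↥(closure ({x, y⁻¹ * x * y} : Set L)) < n := by
    rw [← hn]
    refine lt_of_le_of_lt (card_le_of_le ((closure_le _).mpr ?_))
      (Basics.card_lt_of_lt (show M.map S.subtype < S from ?_))
    · rintro w (rfl | rfl)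
      · exact ⟨x', hxM', rfl⟩
      · exact ⟨_, hz, rfl⟩
    · refine lt_of_le_of_ne (map_subtype_le M) fun h => hM.1 ?_
      refine map_injective S.subtype_injective ?_
      rw [h, ← MonoidHom.range_eq_map, range_subtype]
  have hcp := ih _ hlt x _ rfl hzp
  have hcc : x⁻¹ * (y⁻¹ * x * y) ∈ center L := hΩ _ hcp
  have he : ⁅y, x⁻¹⁆ = y * (x⁻¹ * (y⁻¹ * x * y)) * y⁻¹ := by
    rw [commutatorElement_def]; group
  have hcy : y * (x⁻¹ * (y⁻¹ * x * y)) * y⁻¹ = x⁻¹ * (y⁻¹ * x * y) := by
    rw [mem_center_iff.mp hcc y, mul_inv_cancel_right]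
  rw [hcy] at he
  have hcz : ⁅y, x⁻¹⁆ ∈ center L := he ▸ hcc
  obtain ⟨m, hm⟩ := Transfer.dvd_choose_two_of_odd (hp.out.odd_of_ne_two hodd)
  rw [Transfer.mul_pow_of_commute (mem_center_iff.mp hcz _).symm (mem_center_iff.mp hcz _).symm,
    inv_pow, hxy, inv_mul_cancel, one_mul, hm, pow_mul, he, hcp, one_pow]

/-- A conjugacy class inside a normal subgroup of order at most `p ^ (k + 1)`. -/
theorem index_centralizer_le_of_mem (hL : IsPGroup p L) {X : Subgroup L} [X.Normal] {x : L}
    (hx : x ∈ X) (hx1 : x ≠ 1) {k : ℕ} (hX : Nat.card X ≤ p ^ (k + 1)) :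
    (centralizer ({x} : Set L)).index ≤ p ^ k := by
  let C : Subgroup L := centralizer ({x} : Set L)
  let f : L ⧸ C → ↥X := fun q => ⟨q.out * x * q.out⁻¹, (inferInstance : X.Normal).conj_mem x hx _⟩
  have hinj : Function.Injective f := by
    intro q q' h
    have h1 : q.out * x * q.out⁻¹ = q'.out * x * q'.out⁻¹ := congrArg Subtype.val h
    rw [← q.out_eq', ← q'.out_eq', QuotientGroup.eq]
    show q.out⁻¹ * q'.out ∈ centralizer ({x} : Set L)
    rw [mem_centralizer_singleton_iff]
    calc q.out⁻¹ * q'.out * x = q.out⁻¹ * (q'.out * x * q'.out⁻¹) * q'.out := by group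
      _ = x * (q.out⁻¹ * q'.out) := by rw [← h1]; group
  have hle : Nat.card (L ⧸ C) < Nat.card X := by
    refine lt_of_not_ge fun h => ?_
    obtain ⟨q, hq⟩ := (hinj.bijective_of_nat_card_le h).2 1
    have h1 : q.out * x * q.out⁻¹ = 1 := congrArg Subtype.val hq
    exact hx1 (conj_eq_one_iff.mp h1)
  obtain ⟨j, hj⟩ := hL.index C
  have hjC : Nat.card (L ⧸ C) = p ^ j := (index_eq_card C).symm.trans hj
  have h2 : p ^ j < p ^ (k + 1) := hjC ▸ hle.trans_le hX
  show C.index ≤ p ^ k
  rw [hj]
  exact Nat.pow_le_pow_right hp.out.pos (Nat.lt_succ_iff.mp ((Nat.pow_lt_pow_iff_right hp.out.one_lt).mp h2))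

/-- If the rank is at most two, `p` is odd, and every proper characteristic subgroup lies in the
normal subgroup `M ≠ ⊤`, then `M` has index at most `p ^ 2`. -/
theorem index_le_sq_of_char_le (hodd : p ≠ 2) (hL : IsPGroup p L) (hr : PRankLE p 2 L)
    (M : Subgroup L) [M.Normal] (hM : M ≠ ⊤)
    (hchar : ∀ W : Subgroup L, W.Characteristic → W ≤ M ∨ W = ⊤) : M.index ≤ p ^ 2 := by
  haveI := hL.isNilpotent
  have hpos : (0 : ℕ) < p := hp.out.pos
  have hFr : frattini L ≤ M := (hchar _ inferInstance).resolve_right fun h => hM ?_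
  swap
  · exact frattini_nongenerating (h ▸ sup_top_eq M)
  obtain ⟨A, hAc, hA3, hA1, hAC⟩ := ConjFunctor.exists_critical hL
  haveI := hAc
  have hcl : ∀ u ∈ A, ∀ v ∈ A, ∀ w ∈ A, Commute ⁅u, v⁆ w := fun u hu v hv w hw =>
    (mem_centralizer_iff.mp
      (mem_inf.mp (hA3 (commutator_mem_commutator (mem_top u) hv))).2 w hw).symm
  have hpow : ∀ {u v : L}, u ∈ A → v ∈ A → u ^ p = 1 → v ^ p = 1 → (u * v) ^ p = 1 := by
    intro u v hu hv hup hvp
    have hc := hcl v hv u hu
    have h1 : ⁅v, u⁆ ^ p = 1 := by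
      rw [← Transfer.commutator_pow_left (hc v hv).symm, hvp, commutatorElement_one_left]
    obtain ⟨m, hm⟩ := Transfer.dvd_choose_two_of_odd (hp.out.odd_of_ne_two hodd)
    rw [Transfer.mul_pow_of_commute (hc u hu) (hc v hv), hup, hvp, one_mul, one_mul, hm, pow_mul,
      h1, one_pow]
  let D : Subgroup L :=
    { carrier := {w | w ∈ A ∧ w ^ p = 1}
      one_mem' := ⟨one_mem _, one_pow p⟩
      mul_mem' := fun {u v} hu hv => ⟨mul_mem hu.1 hv.1, hpow hu.1 hv.1 hu.2 hv.2⟩
      inv_mem' := fun {u} hu => ⟨inv_mem hu.1, by rw [inv_pow, hu.2, inv_one]⟩ }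
  have hmemD : ∀ {w : L}, w ∈ D ↔ w ∈ A ∧ w ^ p = 1 := Iff.rfl
  haveI hDc : D.Characteristic := characteristic_iff_map_le.mpr fun φ => by
    rintro _ ⟨w, hw, rfl⟩
    obtain ⟨hwA, hwp⟩ := hmemD.mp hw
    exact hmemD.mpr ⟨(characteristic_iff_map_eq.mp hAc φ).le (mem_map_of_mem _ hwA),
      by rw [← map_pow, hwp, map_one]⟩
  have hDexp : ∀ x : ↥D, x ^ p = 1 := fun x => Subtype.ext (hmemD.mp x.2).2
  have hea : ∀ (X : Subgroup L), IsMulCommutative X → (∀ a ∈ X, a ^ p = 1) → Nat.card X ≤ p ^ 2 := hr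
  have hD3 : Nat.card D ≤ p ^ 3 := OddLocal.card_le_cube_of_exponent hodd hDexp fun E hE =>
    OddLocal.rank_map D.subtype D.subtype_injective (fun F hF => hea F hF.1 hF.2) E hE
  have hindex : ∀ {X : Subgroup L}, X ≤ M → X.index ≤ p ^ 2 → M.index ≤ p ^ 2 := fun hX h =>
    (Nat.le_of_dvd (Nat.pos_of_ne_zero index_ne_zero_of_finite) (index_dvd_of_le hX)).trans h
  -- the case `D = ⊤`
  by_cases hDt : D = ⊤
  · have hL3 : Nat.card L ≤ p ^ 3 := by rwa [hDt, card_top] at hD3
    by_cases hab : ∀ x y : L, x * y = y * x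
    · refine (Nat.le_of_dvd Nat.card_pos M.index_dvd_card).trans ?_
      rw [← card_top (G := L)]
      exact hea ⊤ ⟨⟨fun a b => Subtype.ext (hab a b)⟩⟩ fun a _ => (hmemD.mp (hDt.ge (mem_top a))).2
    push Not at hab
    obtain ⟨x, y, hxy⟩ := hab
    have hne : commutator L ≠ ⊥ := fun h => hxy (commutatorElement_eq_one_iff_mul_comm.mp
      (mem_bot.mp (h ▸ commutator_mem_commutator (mem_top x) (mem_top y))))
    have hnt : commutator L ≠ ⊤ := by
      intro h
      haveI : Group.IsSolvable L := inferInstance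
      haveI : Nontrivial L := ⟨⟨x * y, y * x, hxy⟩⟩
      exact (Group.IsSolvable.commutator_lt_top_of_nontrivial L).ne h
    have hle : commutator L ≤ M := (hchar _ inferInstance).resolve_right hnt
    refine hindex hle ?_
    have h1 := card_mul_index (commutator L)
    obtain ⟨j, hj⟩ := (hL.to_subgroup (commutator L)).exists_card_eq
    have hj1 : p ≤ p ^ j := by
      refine Nat.le_self_pow (fun h0 => hne ?_) p
      exact Subgroup.card_eq_one.mp (by rw [hj, h0, pow_zero])
    refine Nat.le_of_mul_le_mul_left ?_ hpos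
    calc p * (commutator L).index ≤ Nat.card (commutator L) * (commutator L).index :=
          Nat.mul_le_mul_right _ (hj ▸ hj1)
      _ = Nat.card L := h1
      _ ≤ p ^ 3 := hL3
      _ = p * p ^ 2 := by ring
  have hDM : D ≤ M := (hchar D hDc).resolve_right hDt
  let C : Subgroup L := centralizer (D : Set L)
  haveI hCc : C.Characteristic := inferInstanceAs (centralizer (D : Set L)).Characteristic
  have hDab : D ≤ C → Nat.card D ≤ p ^ 2 := fun h =>
    hea D ⟨⟨fun a b => Subtype.ext (mem_centralizer_iff.mp (h b.2) a a.2)⟩⟩ fun a ha => (hmemD.mp ha).2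
  by_cases hCt : C = ⊤
  · -- `D` is central
    have hDZ : D ≤ center L := fun d hd => mem_center_iff.mpr fun g =>
      (mem_centralizer_iff.mp (hCt.ge (mem_top g) : g ∈ C) d hd).symm
    have hD2 := hDab (by rw [hCt]; exact le_top)
    by_cases hD2' : Nat.card D = p ^ 2
    · have hΩ : ∀ x : L, x ^ p = 1 → x ∈ D := by
        intro x hx
        let T : Subgroup L := D ⊔ zpowers x
        have hc : ∀ a ∈ zpowers x, ∀ b ∈ D, Commute a b := fun a _ b hb => mem_center_iff.mp (hDZ hb) a
        have hTc : IsMulCommutative T := by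
          have hT : T = closure ((D : Set L) ∪ {x}) := by
            rw [Subgroup.closure_union, Subgroup.closure_eq, ← zpowers_eq_closure]
          rw [hT]
          refine isMulCommutative_closure ?_
          rintro a (ha | ha) b (hb | hb)
          · exact mem_center_iff.mp (hDZ hb) a
          · exact (mem_center_iff.mp (hDZ ha) b).symm
          · exact mem_center_iff.mp (hDZ hb) a
          · rw [Set.mem_singleton_iff.mp ha, Set.mem_singleton_iff.mp hb]
        have hTp : ∀ a ∈ T, a ^ p = 1 := by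
          intro a ha
          obtain ⟨d, hd, w, hw, rfl⟩ := mem_sup_of_normal_left.mp ha
          obtain ⟨k, rfl⟩ := mem_zpowers_iff.mp hw
          rw [(hc _ hw d hd).symm.mul_pow, (hmemD.mp hd).2, one_mul, ← zpow_natCast, ← zpow_mul,
            mul_comm, zpow_mul, zpow_natCast, hx, one_zpow]
        have h1 : D = T := eq_of_le_of_card_ge le_sup_left (by rw [hD2']; exact hea T hTc hTp)
        exact h1 ▸ le_sup_right (a := D) (mem_zpowers x)
      have key := inv_mul_pow_eq_one hodd hL fun x hx => hDZ (hΩ x hx)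
      let g : L → ↥(frattini L) := fun x => ⟨x ^ p, FGB.pow_mem_frattini hL x⟩
      have hfib : Nat.card L ≤ Nat.card (frattini L) * Nat.card D := by
        classical
        let r : ↥(frattini L) → L := fun z => if h : ∃ x, x ^ p = (z : L) then h.choose else 1
        let F : L → ↥(frattini L) × ↥D := fun x => (g x, ⟨(r (g x))⁻¹ * x, hΩ _ (key _ _ (by
          show (r (g x)) ^ p = x ^ p
          have h : ∃ w, w ^ p = ((g x : ↥(frattini L)) : L) := ⟨x, rfl⟩
          simp only [r, dif_pos h]
          exact h.choose_spec))⟩)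
        refine (Nat.card_le_card_of_injective F fun a b hab => ?_).trans (Nat.card_prod _ _).le
        have h1 : g a = g b := congrArg Prod.fst hab
        have h2 : (r (g a))⁻¹ * a = (r (g b))⁻¹ * b := congrArg Subtype.val (congrArg Prod.snd hab)
        rw [h1] at h2
        exact mul_left_cancel h2
      refine hindex hFr (Nat.le_of_mul_le_mul_left ?_ (Nat.card_pos (α := ↥(frattini L))))
      rw [card_mul_index]
      exact hfib.trans (Nat.mul_le_mul_left _ hD2)
    · -- `D` has order at most `p`, so `A` is cyclic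
      obtain ⟨j, hj⟩ := (hL.to_subgroup D).exists_card_eq
      have hjle : j ≤ 1 := by
        rw [hj] at hD2 hD2'
        have := (Nat.pow_le_pow_iff_right hp.out.one_lt).mp hD2
        rcases (show j ≤ 1 ∨ j = 2 by omega) with h | h
        · exact h
        · exact absurd (by rw [h]) hD2'
      haveI hAcyc : IsCyclic A := by
        by_contra hnc
        obtain ⟨X, hX, hXc⟩ := OddLocal.exists_ea_two_of_not_isCyclic hodd (hL.to_subgroup A) hnc
        have h1 : X.map A.subtype ≤ D := by
          rintro _ ⟨w, hw, rfl⟩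
          exact hmemD.mpr ⟨w.2, congrArg Subtype.val (hX.2 w hw)⟩
        have h2 := card_le_of_le h1
        rw [card_map_of_injective A.subtype_injective, hj] at h2
        exact absurd (h2.trans ((Nat.pow_le_pow_right hpos hjle).trans (pow_one p).le)) (not_le.mpr hXc)
      have hgen : ∃ x : L, M ⊔ zpowers x = ⊤ := by
        by_cases hAt : A = ⊤
        · haveI : IsCyclic L := isCyclic_of_surjective A.subtype fun x => ⟨⟨x, hAt.ge (mem_top x)⟩, rfl⟩
          obtain ⟨x, hx⟩ := IsCyclic.exists_generator (α := L)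
          exact ⟨x, top_le_iff.mp ((show (⊤ : Subgroup L) ≤ zpowers x from fun w _ => hx w).trans le_sup_right)⟩
        have hAM : A ≤ M := (hchar A hAc).resolve_right hAt
        let act : L →* MulAut A := MulAut.conjNormal
        haveI : IsCyclic (ZMod (Nat.card A))ˣ := by
          obtain ⟨i, hi⟩ := (hL.to_subgroup A).exists_card_eq
          rw [hi]
          exact ZMod.isCyclic_units_of_prime_pow p hp.out hodd i
        haveI : IsCyclic (MulAut A) :=
          isCyclic_of_surjective (IsCyclic.mulAutMulEquiv A).symm (MulEquiv.surjective _)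
        obtain ⟨⟨_, x, rfl⟩, hx⟩ := (inferInstance : IsCyclic act.range).exists_generator
        refine ⟨x, top_le_iff.mp fun w _ => ?_⟩
        obtain ⟨k, hk⟩ := mem_zpowers_iff.mp (hx ⟨act w, w, rfl⟩)
        have hk' : act x ^ k = act w := congrArg Subtype.val hk
        have hker : w * x ^ (-k) ∈ A := hAC (mem_centralizer_iff.mpr fun a ha => by
          have h1 : act (w * x ^ (-k)) = 1 := by rw [map_mul, map_zpow, ← hk', ← zpow_add, add_neg_cancel, zpow_zero]
          have h2 := congrArg Subtype.val (DFunLike.congr_fun h1 (⟨a, ha⟩ : ↥A))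
          rw [MulAut.conjNormal_apply] at h2
          exact (mul_inv_eq_iff_eq_mul.mp h2).symm)
        have : w = w * x ^ (-k) * x ^ k := by rw [mul_assoc, ← zpow_add, neg_add_cancel, zpow_zero, mul_one]
        rw [this]
        exact mul_mem_sup (hAM hker) (mem_zpowers_iff.mpr ⟨k, rfl⟩)
      obtain ⟨x, hx⟩ := hgen
      have h1 : ∀ q : L ⧸ M, q ∈ zpowers (QuotientGroup.mk' M x) := by
        intro q
        obtain ⟨w, rfl⟩ := QuotientGroup.mk'_surjective M q
        obtain ⟨m, hm, z, hz, rfl⟩ := mem_sup_of_normal_left.mp (hx.ge (mem_top w))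
        rw [map_mul, show QuotientGroup.mk' M m = 1 from (QuotientGroup.eq_one_iff m).mpr hm, one_mul]
        exact (MonoidHom.map_zpowers (QuotientGroup.mk' M) x).le (mem_map_of_mem _ hz)
      have h2 : orderOf (QuotientGroup.mk' M x) ∣ p := orderOf_dvd_of_pow_eq_one
        ((map_pow _ _ _).symm.trans ((QuotientGroup.eq_one_iff _).mpr (hFr (FGB.pow_mem_frattini hL x))))
      have h3 : M.index = orderOf (QuotientGroup.mk' M x) := by
        rw [← Nat.card_zpowers, (eq_top_iff' _).mpr h1, card_top, index_eq_card]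
      rw [h3]
      exact (Nat.le_of_dvd hpos h2).trans (Nat.le_self_pow two_ne_zero p)
  -- `C` is proper
  have hCM : C ≤ M := (hchar C hCc).resolve_right hCt
  have hD1 : D ≠ ⊥ := fun h => hCt ((eq_top_iff' _).mpr fun g => mem_centralizer_iff.mpr fun d hd => by
    have hd' : d ∈ D := hd
    rw [h, mem_bot] at hd'
    rw [hd', one_mul, mul_one])
  have hcl2 : ∀ {a b : L}, closure ({a, b} : Set L) = D →
      C.index ≤ (centralizer ({a} : Set L)).index * (centralizer ({b} : Set L)).index := by
    intro a b h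
    refine (le_of_eq ?_).trans index_inf_le
    rw [show C = centralizer ({a} : Set L) ⊓ centralizer ({b} : Set L) from ?_]
    rw [show C = centralizer ((D : Subgroup L) : Set L) from rfl, ← h, centralizer_closure]
    ext w
    simp [mem_centralizer_iff]
  have htwo : ∀ {a b : L}, a ∈ D → b ∈ D → closure ({a, b} : Set L) ≤ D := fun ha hb =>
    (closure_le _).mpr (Set.insert_subset ha (Set.singleton_subset_iff.mpr hb))
  by_cases hDC : D ≤ C
  · have hD2 := hDab hDC
    obtain ⟨a, ha, ha1⟩ := (bot_or_exists_ne_one D).resolve_left hD1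
    have hb : ∃ b ∈ D, b ≠ 1 ∧ closure ({a, b} : Set L) = D := by
      by_cases h : D ≤ zpowers a
      · refine ⟨a, ha, ha1, ?_⟩
        rw [Set.pair_eq_singleton, ← zpowers_eq_closure]
        exact le_antisymm (zpowers_le.mpr ha) h
      obtain ⟨b, hb, hb'⟩ := SetLike.not_le_iff_exists.mp h
      have hb1 : b ≠ 1 := fun h => hb' (h ▸ one_mem _)
      refine ⟨b, hb, hb1, eq_of_le_of_card_ge (htwo ha hb) ?_⟩
      have hlt : zpowers a < closure ({a, b} : Set L) :=
        lt_of_le_of_ne (zpowers_le.mpr (subset_closure (Set.mem_insert a {b})))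
          fun h => hb' (h ▸ subset_closure (Set.mem_insert_of_mem _ (Set.mem_singleton b)))
      have h1 : Nat.card (zpowers a) = p := by
        rw [Nat.card_zpowers, orderOf_eq_prime (hmemD.mp ha).2 ha1]
      have h2 := Basics.card_lt_of_lt hlt
      rw [h1] at h2
      obtain ⟨j, hj⟩ := (hL.to_subgroup (closure ({a, b} : Set L))).exists_card_eq
      rw [hj] at h2 ⊢
      exact hD2.trans (Nat.pow_le_pow_right hpos
        ((Nat.pow_lt_pow_iff_right hp.out.one_lt).mp ((pow_one p).trans_lt h2)))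
    obtain ⟨b, hb, hb1, hcab⟩ := hb
    refine hindex hCM ((hcl2 hcab).trans ?_)
    rw [sq]
    exact Nat.mul_le_mul ((index_centralizer_le_of_mem hL ha ha1 (k := 1) hD2).trans (pow_one p).le)
      ((index_centralizer_le_of_mem hL hb hb1 (k := 1) hD2).trans (pow_one p).le)
  · -- `D` is nonabelian
    obtain ⟨A₀, hA₀n, hA₀D, hA₀c⟩ := PGroup23.exists_normal_index_prime hL D hD1
    haveI := hA₀n
    have hA₀2 : Nat.card A₀ ≤ p ^ 2 := Nat.le_of_mul_le_mul_left
      (hA₀c.symm.le.trans (hD3.trans (by rw [pow_succ']))) hpos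
    obtain ⟨a, haA, haC⟩ : ∃ a ∈ A₀, a ∉ C := by
      by_contra h
      push Not at h
      obtain ⟨x, hx, hxC⟩ := SetLike.not_le_iff_exists.mp hDC
      have hxA : x ∉ A₀ := fun hh => hxC (h x hh)
      let T : Subgroup L := A₀ ⊔ zpowers x
      have hT : T = D := by
        refine eq_of_le_of_card_ge (sup_le hA₀D (zpowers_le.mpr hx)) ?_
        have hlt : A₀ < T := lt_of_le_of_ne le_sup_left fun e => hxA (e ▸ le_sup_right (a := A₀) (mem_zpowers x))
        have h1 := Basics.card_lt_of_lt hlt
        obtain ⟨i, hi⟩ := (hL.to_subgroup A₀).exists_card_eq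
        obtain ⟨j, hj⟩ := (hL.to_subgroup T).exists_card_eq
        rw [hi, hj] at h1
        rw [hA₀c, hi, hj, ← pow_succ']
        exact Nat.pow_le_pow_right hpos ((Nat.pow_lt_pow_iff_right hp.out.one_lt).mp h1)
      apply hxC
      refine mem_centralizer_iff.mpr fun d hd => ?_
      obtain ⟨m, hm, z, hz, rfl⟩ := mem_sup_of_normal_left.mp (hT.ge hd)
      obtain ⟨k, rfl⟩ := mem_zpowers_iff.mp hz
      have hmx : Commute m x := (mem_centralizer_iff.mp (h m hm) x hx).symm
      exact (hmx.mul_left ((Commute.refl x).zpow_left k)).eq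
    obtain ⟨b, hb, hab⟩ : ∃ b ∈ D, b * a ≠ a * b := by
      by_contra h
      push Not at h
      exact haC (mem_centralizer_iff.mpr h)
    have ha : a ∈ D := hA₀D haA
    have ha1 : a ≠ 1 := fun h => hab (by rw [h, one_mul, mul_one])
    have hb1 : b ≠ 1 := fun h => hab (by rw [h, one_mul, mul_one])
    have hcab : closure ({a, b} : Set L) = D := by
      refine eq_of_le_of_card_ge (htwo ha hb) (hD3.trans ?_)
      obtain ⟨j, hj⟩ := (hL.to_subgroup (closure ({a, b} : Set L))).exists_card_eq
      rw [hj]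
      refine Nat.pow_le_pow_right hpos (Nat.lt_of_not_le fun hle => hab ?_)
      haveI : IsMulCommutative ↥(closure ({a, b} : Set L)) := by
        rcases (show j = 0 ∨ j = 1 ∨ j = 2 by omega) with rfl | rfl | rfl
        · haveI : Subsingleton ↥(closure ({a, b} : Set L)) :=
            (Nat.card_eq_one_iff_unique.mp (hj.trans (pow_zero p))).1
          exact ⟨⟨fun _ _ => Subsingleton.elim _ _⟩⟩
        · haveI : IsCyclic ↥(closure ({a, b} : Set L)) := isCyclic_of_prime_card (hj.trans (pow_one p))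
          letI := IsCyclic.commGroup (α := ↥(closure ({a, b} : Set L)))
          exact ⟨⟨fun u v => mul_comm u v⟩⟩
        · exact IsPGroup.isMulCommutative_of_card_eq_prime_sq hj
      exact congrArg Subtype.val (mul_comm'
        (⟨b, subset_closure (Set.mem_insert_of_mem _ (Set.mem_singleton b))⟩ : ↥(closure ({a, b} : Set L)))
        ⟨a, subset_closure (Set.mem_insert a {b})⟩)
    have hidx : C.index ≤ p ^ 3 := by
      refine (hcl2 hcab).trans ?_
      calc _ ≤ p ^ 1 * p ^ 2 := Nat.mul_le_mul (index_centralizer_le_of_mem hL haA ha1 hA₀2)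
            (index_centralizer_le_of_mem hL hb hb1 hD3)
        _ = p ^ 3 := by ring
    have hlt : C < D ⊔ C := lt_of_le_of_ne le_sup_right fun h => hDC (h ▸ le_sup_left)
    refine hindex (sup_le hDM hCM) ?_
    have h1 := relIndex_mul_index hlt.le
    have h2 : p ≤ C.relIndex (D ⊔ C) := by
      obtain ⟨i, hi⟩ := (hL.to_subgroup (D ⊔ C)).index (C.subgroupOf (D ⊔ C))
      rw [relIndex, hi]
      refine Nat.le_self_pow (fun h0 => hlt.ne (le_antisymm hlt.le ?_)) p
      rw [h0, pow_zero, index_eq_one, subgroupOf_eq_top] at hi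
      exact hi
    refine Nat.le_of_mul_le_mul_left ?_ hpos
    calc p * (D ⊔ C).index ≤ C.relIndex (D ⊔ C) * (D ⊔ C).index := Nat.mul_le_mul_right _ h2
      _ = C.index := h1
      _ ≤ p ^ 3 := hidx
      _ = p * p ^ 2 := by ring

/-- A `p`-chief factor of a group of `p`-rank at most two, `p` odd, has order `p` or `p ^ 2`. -/
theorem relIndex_chief_of_rank_two {G : Type*} [Group G] [Finite G] (hodd : p ≠ 2)
    (hr : PRankLE p 2 G) (H K : Subgroup G) [H.Normal] [K.Normal] (hKH : K < H)
    (hpow : ∃ n : ℕ, K.relIndex H = p ^ n)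
    (hchief : ∀ L : Subgroup G, L.Normal → K ≤ L → L ≤ H → L = K ∨ L = H) :
    K.relIndex H = p ∨ K.relIndex H = p ^ 2 := by
  obtain ⟨n, hn⟩ := hpow
  obtain ⟨P⟩ : Nonempty (Sylow p ↥H) := inferInstance
  let P' : Subgroup G := (P : Subgroup ↥H).map H.subtype
  let N : Subgroup G := normalizer (P' : Set G)
  have hNH : N ⊔ H = ⊤ := Sylow.normalizer_sup_eq_top P
  have hP'H : P' ≤ H := map_subtype_le _
  have hHKP : K ⊔ P' = H := by
    refine le_antisymm (sup_le hKH.le hP'H) (relIndex_eq_one.mp ?_)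
    refine Nat.eq_one_of_dvd_coprimes (k := (K ⊔ P').relIndex H) ?_ dvd_rfl
      (b := (P : Subgroup ↥H).index) ?_ |>.trans rfl
    · exact Nat.Coprime.coprime_dvd_left (hn ▸ relIndex_dvd_of_le_left H le_sup_left)
        ((hp.out.coprime_iff_not_dvd.mpr P.not_dvd_index).pow_left n)
    · rw [show (P : Subgroup ↥H).index = P'.relIndex H by
        rw [relIndex, show P'.subgroupOf H = (P : Subgroup ↥H) from
          comap_map_eq_self_of_injective H.subtype_injective _]]
      exact relIndex_dvd_of_le_left H le_sup_right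
  obtain ⟨L, ⟨hLP, hLN, hLK⟩, hmin⟩ := Set.Finite.exists_minimal
    (s := {W : Subgroup G | W ≤ P' ∧ N ≤ normalizer (W : Set G) ∧ ¬ W ≤ K}) (Set.toFinite _)
    ⟨P', le_rfl, le_rfl, fun h => hKH.not_ge (hHKP ▸ sup_le le_rfl h)⟩
  haveI hKLn : (K ⊔ L).Normal := by
    rw [← normalizer_eq_top_iff, ← top_le_iff, ← hNH]
    have hN : N ≤ normalizer ((K ⊔ L : Subgroup G) : Set G) := by
      exact ConjFunctor.le_normalizer_sup' (by rw [normalizer_eq_top]; exact le_top) hLN
    refine sup_le hN ?_
    rw [← hHKP]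
    exact sup_le (le_sup_left.trans le_normalizer) (le_normalizer.trans hN)
  have hKL : K ⊔ L = H := (hchief _ hKLn le_sup_left (sup_le hKH.le (hLP.trans hP'H))).resolve_left
    fun h => hLK (h ▸ le_sup_right)
  have hrel : K.relIndex H = (K.subgroupOf L).index := by
    rw [← hKL, sup_comm, relIndex_sup_right]; rfl
  have hLp : IsPGroup p L := (P.2.map H.subtype).to_le hLP
  have hrL : PRankLE p 2 L := by
    intro X hX hXp
    rw [← card_map_of_injective L.subtype_injective]
    refine hr _ inferInstance ?_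
    rintro _ ⟨w, hw, rfl⟩
    rw [← map_pow, hXp w hw, map_one]
  have hne : K.subgroupOf L ≠ ⊤ := fun h => hLK (subgroupOf_eq_top.mp h)
  have hle := index_le_sq_of_char_le hodd hLp hrL (K.subgroupOf L) hne fun W hW => by
    by_cases hWK : W.map L.subtype ≤ K
    · exact Or.inl fun w hw => hWK (mem_map_of_mem _ hw)
    refine Or.inr ?_
    have hWmem : W.map L.subtype ∈ {W : Subgroup G | W ≤ P' ∧ N ≤ normalizer (W : Set G) ∧ ¬ W ≤ K} := by
      refine ⟨(map_subtype_le W).trans hLP, fun g hg => ?_, hWK⟩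
      have hfix : ∀ g' ∈ N, ∀ w ∈ W.map L.subtype, g' * w * g'⁻¹ ∈ W.map L.subtype := by
        rintro g' hg' _ ⟨w, hw, rfl⟩
        exact ⟨L.normalizerMonoidHom ⟨g', hLN hg'⟩ w,
          (characteristic_iff_map_eq.mp hW _).le (mem_map_of_mem _ hw), rfl⟩
      refine mem_normalizer_iff.mpr fun w => ⟨hfix g hg w, fun h => ?_⟩
      have := hfix g⁻¹ (inv_mem hg) _ h
      simpa [mul_assoc] using this
    have heq : W.map L.subtype = L := le_antisymm (map_subtype_le W) (hmin hWmem (map_subtype_le W))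
    refine map_injective L.subtype_injective ?_
    rw [heq, ← MonoidHom.range_eq_map, range_subtype]
  rw [← hrel, hn] at hle
  rw [hn]
  have hn2 := (Nat.pow_le_pow_iff_right hp.out.one_lt).mp hle
  rcases (show n = 0 ∨ n = 1 ∨ n = 2 by omega) with rfl | rfl | rfl
  · rw [pow_zero, relIndex_eq_one] at hn
    exact absurd hn hKH.not_ge
  · exact Or.inl (pow_one p)
  · exact Or.inr rfl

end Cfsg.Agent.Tech
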