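import Cfsg.Agent.Lib.Basics.Cores
import Cfsg.Agent.Lib.OddLocal.PiCore
import Cfsg.Agent.Lib.Transfer.SL2Props
import Cfsg.Agent.Lib.Transfer.ZJFusion
import Cfsg.Agent.Lib.Transfer.Residual
import Cfsg.Agent.Lib.Components.FFThompson

/-!
# Centralizers of self-centralizing normal subgroups of the Fitting subgroup of a Hall `π`-subgroup
-/

set_option autoImplicit false
set_option linter.style.haveILetI false
set_option linter.unusedSectionVars false
set_option linter.unusedVariables false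

namespace Cfsg.Agent.Tech

open Subgroup Cfsg
open scoped commutatorElement

universe u

variable {G : Type u} [Group G] [Finite G]

theorem conj_pow_of_commute {y v : G} (h : Commute y (v⁻¹ * (y * v * y⁻¹))) (n : ℕ) :
    y ^ n * v * (y ^ n)⁻¹ = v * (v⁻¹ * (y * v * y⁻¹)) ^ n := by
  induction n with
  | zero => simp
  | succ n ih =>
    rw [pow_succ' y, mul_inv_rev]
    calc y * y ^ n * v * ((y ^ n)⁻¹ * y⁻¹) = y * (y ^ n * v * (y ^ n)⁻¹) * y⁻¹ := by group
      _ = (y * v * y⁻¹) * (y * (v⁻¹ * (y * v * y⁻¹)) ^ n * y⁻¹) := by rw [ih]; group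
      _ = v * (v⁻¹ * (y * v * y⁻¹)) ^ (n + 1) := by
        rw [(h.pow_right n).eq, mul_inv_cancel_right, pow_succ', ← mul_assoc v, mul_inv_cancel_left]

/-- A coprime element acting quadratically on a `p`-group centralizes it. -/
theorem commute_of_quadratic_coprime {Q : Subgroup G} {p : ℕ} [hp : Fact p.Prime] (hQ : IsPGroup p Q)
    {y : G} (hy : (orderOf y).Coprime p) (hn : ∀ v ∈ Q, y * v * y⁻¹ ∈ Q)
    (h2 : ∀ v ∈ Q, Commute y (v⁻¹ * (y * v * y⁻¹))) {v : G} (hv : v ∈ Q) : Commute y v := by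
  set z := v⁻¹ * (y * v * y⁻¹) with hz
  have h : ∀ n : ℕ, y ^ n * v * (y ^ n)⁻¹ = v * z ^ n := conj_pow_of_commute (h2 v hv)
  have h1 := h (orderOf y)
  rw [pow_orderOf_eq_one, one_mul, inv_one, mul_one] at h1
  have hz1 : z = 1 := by
    obtain ⟨k, hk⟩ := isPGroup_iff_orderOf_dvd_pow.mp hQ ⟨z, mul_mem (inv_mem hv) (hn v hv)⟩
    rw [Subgroup.orderOf_mk] at hk
    exact orderOf_eq_one_iff.mp (Nat.eq_one_of_dvd_coprimes ((hy.symm.pow_left k))
      hk (orderOf_dvd_of_pow_eq_one (mul_eq_left.mp h1.symm)))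
  rw [hz, inv_mul_eq_one] at hz1
  exact (mul_inv_eq_iff_eq_mul.mp hz1.symm)

/-- In a finite solvable group an element of prime power order acting quadratically on `F(G)` lies in
`F(G)`, when the prime is at least `5` or divides no order in `F(G)`. -/
theorem mem_fittingSubgroup_of_quadratic [Group.IsSolvable G] {p : ℕ} [hp : Fact p.Prime] {c : G}
    (hc : ∃ k, orderOf c ∣ p ^ k) (h5 : 5 ≤ p ∨ pCore p G = ⊥)
    (h2 : ∀ v ∈ fittingSubgroup G, Commute c (v⁻¹ * (c * v * c⁻¹))) : c ∈ fittingSubgroup G := by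
  set P := pCore p G with hP
  have hPp : IsPGroup p P := Basics.pCore_isPGroup p
  -- `c` centralizes the other cores
  have hoth : ∀ q : Nat.Primes, (q : ℕ) ≠ p → c ∈ centralizer ((pCore (q : ℕ) G : Subgroup G) : Set G) := by
    intro q hq
    haveI : Fact (q : ℕ).Prime := ⟨q.2⟩
    obtain ⟨k, hk⟩ := hc
    refine mem_centralizer_iff.mpr fun v hv => (commute_of_quadratic_coprime (Basics.pCore_isPGroup (q : ℕ))
      (((Nat.coprime_primes hp.out q.2).mpr (Ne.symm hq)).pow_left k |>.coprime_dvd_left hk)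
      (fun w hw => (inferInstance : (pCore (q : ℕ) G).Normal).conj_mem w hw c)
      (fun w hw => h2 w (Basics.pCore_le_fittingSubgroup (q : ℕ) hw)) hv).eq.symm
  set K := ⨆ q : {q : Nat.Primes // (q : ℕ) ≠ p}, pCore ((q : Nat.Primes) : ℕ) G with hK
  set R₀ := (pCore p (G ⧸ centralizer (P : Set G))).comap (QuotientGroup.mk' (centralizer (P : Set G)))
  set R := R₀ ⊓ centralizer (K : Set G) with hR
  haveI : K.Normal := by
    rw [← normalizer_eq_top_iff, eq_top_iff]
    intro g _
    rw [← ConjFunctor.cj_eq_iff, ConjFunctor.cj, hK, Subgroup.map_iSup]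
    refine iSup_congr fun q => ?_
    exact ConjFunctor.cj_eq_iff.mpr (by rw [normalizer_eq_top]; exact mem_top g)
  haveI : R.Normal := Subgroup.normal_inf_normal _ _
  have hcK : c ∈ centralizer (K : Set G) := by
    rw [← zpowers_le, le_centralizer_iff]
    refine iSup_le fun q => ?_
    rw [le_centralizer_iff, zpowers_le]
    exact hoth q q.2
  have hcR₀ : c ∈ R₀ := by
    rcases h5 with h5 | hbot
    · haveI hps : IsPStableOn p P :=
        Transfer.isPStableOn_of_not_hasNatPair (by omega)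
          (fun hn => by
            obtain ⟨X, L, hL, ⟨e⟩⟩ := hn.exists_sl2_section
            obtain ⟨f, hf⟩ := Transfer.exists_surjective_of_section e
            exact Transfer.not_isPSolvable_of_surjective h5 f hf
              (Components.isPSolvable_of_isSolvable (Nat.card G) G le_rfl inferInstance)) P hPp
      refine hps c (eq_bot_iff.mpr (commutator_le.mpr fun x hx y hy => ?_))
      refine mem_bot.mpr (commutatorElement_eq_one_iff_commute.mpr ?_)
      obtain ⟨j, rfl⟩ := mem_zpowers_iff.mp hy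
      refine (?_ : Commute x c).zpow_right j
      suffices h : ⁅P, zpowers c⁆ ≤ centralizer ((zpowers c : Subgroup G) : Set G) from
        (mem_centralizer_iff.mp (h hx) c (mem_zpowers c)).symm
      refine commutator_le.mpr fun v hv y hy => ?_
      rw [zpowers_eq_closure, centralizer_closure, mem_centralizer_singleton_iff]
      obtain ⟨n, rfl⟩ := mem_powers_iff_mem_zpowers.mpr hy
      have hv' := h2 v⁻¹ (inv_mem (Basics.pCore_le_fittingSubgroup p hv))
      have e : ⁅v, c ^ n⁆ = (v⁻¹⁻¹ * (c * v⁻¹ * c⁻¹)) ^ n := by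
        rw [commutatorElement_def, mul_assoc v, mul_assoc v, conj_pow_of_commute hv' n, mul_inv_cancel_left]
      rw [e]
      exact (hv'.pow_right n).eq.symm
    · have htop : centralizer ((P : Subgroup G) : Set G) = ⊤ := by
        rw [hbot]; exact (eq_top_iff' _).mpr fun g => mem_centralizer_iff.mpr fun w hw => by
          rw [mem_bot.mp hw, one_mul, mul_one]
      show QuotientGroup.mk' (centralizer (P : Set G)) c ∈ pCore p (G ⧸ centralizer (P : Set G))
      rw [QuotientGroup.mk'_apply, (QuotientGroup.eq_one_iff c).mpr (htop.ge (mem_top c))]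
      exact one_mem _
  suffices hnil : Group.IsNilpotent R from Basics.le_fittingSubgroup hnil (mem_inf.mpr ⟨hcR₀, hcK⟩)
  have hF : fittingSubgroup G = P ⊔ K := by
    rw [Basics.fittingSubgroup_eq_iSup_pCore]
    refine le_antisymm (iSup_le fun q => ?_) (sup_le (le_iSup_of_le ⟨p, hp.out⟩ le_rfl)
      (iSup_le fun q => le_iSup (fun q : Nat.Primes => pCore (q : ℕ) G) q))
    by_cases hq : (q : ℕ) = p
    · rw [hq]; exact le_sup_left
    · exact le_trans (le_iSup (fun q : {q : Nat.Primes // (q : ℕ) ≠ p} => pCore ((q : Nat.Primes) : ℕ) G)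
        ⟨q, hq⟩) le_sup_right
  have hRZ : ∀ x ∈ R, ∃ n, x ^ p ^ n ∈ K := by
    intro x hx
    obtain ⟨k, hk⟩ := (Basics.pCore_isPGroup (G := G ⧸ centralizer (P : Set G)) p) ⟨_, (mem_inf.mp hx).1⟩
    have hk' : x ^ p ^ k ∈ centralizer (P : Set G) := (QuotientGroup.eq_one_iff _).mp (congrArg Subtype.val hk)
    have hxF : x ^ p ^ k ∈ fittingSubgroup G := by
      refine Basics.centralizer_fittingSubgroup_le ?_
      rw [hF, ← zpowers_le, le_centralizer_iff]
      refine sup_le ?_ ?_
      · rw [le_centralizer_iff, zpowers_le]; exact hk'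
      · rw [le_centralizer_iff, zpowers_le]; exact pow_mem (mem_inf.mp hx).2 _
    rw [hF] at hxF
    obtain ⟨u, hu, w, hw, huw⟩ := mem_sup_of_normal_left.mp hxF
    obtain ⟨j, hj⟩ := hPp ⟨u, hu⟩
    refine ⟨k + j, ?_⟩
    have hcom : Commute u w := by
      have : K ≤ centralizer (P : Set G) := iSup_le fun q => fun w hw => mem_centralizer_iff.mpr fun u hu => by
        haveI : Fact ((q : Nat.Primes) : ℕ).Prime := ⟨(q : Nat.Primes).2⟩
        exact (Basics.commute_pCore (Ne.symm q.2) hu hw).eq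
      exact mem_centralizer_iff.mp (this hw) u hu
    have hj' : u ^ p ^ j = 1 := congrArg Subtype.val hj
    rw [pow_add, pow_mul, ← huw, hcom.mul_pow, hj', one_mul]
    exact pow_mem hw _
  have hq : IsPGroup p (↥R ⧸ Subgroup.center ↥R) := by
    intro y
    obtain ⟨x, rfl⟩ := QuotientGroup.mk_surjective y
    obtain ⟨n, hn⟩ := hRZ x x.2
    refine ⟨n, ?_⟩
    rw [← QuotientGroup.mk_pow, QuotientGroup.eq_one_iff, mem_center_iff]
    intro r
    refine Subtype.ext ?_
    exact (mem_centralizer_iff.mp (mem_inf.mp r.2).2 _ hn).symm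
  haveI := hq.isNilpotent
  exact Group.of_quotient_center_nilpotent this

/-- A normal subgroup whose order is a `π`-number lies in every Hall `π`-subgroup. -/
theorem le_of_isPiHall {π : Set ℕ} {H N : Subgroup G} [N.Normal] (hH : IsPiHall π H)
    (hN : ∀ q : ℕ, q.Prime → q ∣ Nat.card N → q ∈ π) : N ≤ H := by
  refine le_of_le_of_eq le_sup_right (le_antisymm (relIndex_eq_one.mp ?_) le_sup_left : H ⊔ N = H)
  by_contra h1
  obtain ⟨q, hq, hd⟩ := Nat.exists_prime_and_dvd h1
  refine hH.2 q hq (hN q hq ?_) (hd.trans (relIndex_dvd_index_of_le le_sup_left))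
  have h2 : H.relIndex (H ⊔ N) ∣ Nat.card N := by
    have h3 := Basics.card_mul_card_eq_card_sup_mul_card_inf (N := N) (H := H)
      (by rw [normalizer_eq_top]; exact le_top)
    rw [sup_comm N H, inf_comm N H, mul_comm (Nat.card N)] at h3
    have h4 : Nat.card H * H.relIndex (H ⊔ N) = Nat.card (H ⊔ N : Subgroup G) := by
      rw [← Nat.card_congr (subgroupOfEquivOfLe (le_sup_left : H ≤ H ⊔ N)).toEquiv]
      exact card_mul_index _
    refine Dvd.intro (Nat.card (H ⊓ N : Subgroup G)) (Nat.eq_of_mul_eq_mul_left (Nat.card_pos (α := H)) ?_)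
    rw [← mul_assoc, h4, h3]
  exact hd.trans h2

theorem map_fitting_le {X Y : Type*} [Group X] [Finite X] [Group Y] [Finite Y] (e : X ≃* Y) :
    (fittingSubgroup X).map e.toMonoidHom ≤ fittingSubgroup Y := by
  haveI : ((fittingSubgroup X).map e.toMonoidHom).Normal := Normal.map inferInstance _ e.surjective
  exact Basics.le_fittingSubgroup
    (Group.nilpotent_of_mulEquiv ((fittingSubgroup X).equivMapOfInjective e.toMonoidHom e.injective))

/-- The reduced case: `O_{π'}(G) = 1`. -/
theorem centralizer_le_of_piCore_eq_bot [Group.IsSolvable G] {π : Set ℕ} (h2 : 2 ∉ π) (h3 : 3 ∉ π)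
    (hred : piCore πᶜ G = ⊥) {H : Subgroup G} (hH : IsPiHall π H) {A : Subgroup G}
    (hA : IsSCN ((fittingSubgroup H).map H.subtype) A) : centralizer (A : Set G) ≤ A := by
  obtain ⟨hAF, hFN, hAA⟩ := hA
  set FH := (fittingSubgroup H).map H.subtype with hFH
  set F := fittingSubgroup G with hF
  have hFpi : ∀ q : ℕ, q.Prime → q ∣ Nat.card F → q ∈ π := by
    intro q hq hd
    by_contra hnot
    haveI : Fact q.Prime := ⟨hq⟩
    obtain ⟨x, hx⟩ := exists_prime_orderOf_dvd_card' q hd
    let T : Sylow q F := Classical.arbitrary _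
    haveI hTn : (T : Subgroup F).Normal := Sylow.normal_of_normalizerCondition
      Group.normalizerCondition_of_isNilpotent T
    haveI := T.characteristic_of_normal hTn
    have hle : (T : Subgroup F).map F.subtype ≤ piCore πᶜ G := le_sSup ⟨inferInstance, fun r hr hrd => by
      obtain ⟨j, hj⟩ := T.2.exists_card_eq
      rw [card_map_of_injective F.subtype_injective, hj] at hrd
      rw [(Nat.prime_dvd_prime_iff_eq hr hq).mp (hr.dvd_of_dvd_pow hrd)]
      exact hnot⟩
    rw [hred, le_bot_iff, map_eq_bot_iff_of_injective _ F.subtype_injective] at hle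
    exact T.ne_bot_of_dvd_card hd hle
  have hFH' : F ≤ H := le_of_isPiHall hH hFpi
  have hFle : F ≤ FH := by
    have : F.subgroupOf H ≤ fittingSubgroup H :=
      Basics.le_fittingSubgroup (Group.nilpotent_of_mulEquiv (subgroupOfEquivOfLe hFH').symm)
    intro x hx
    exact ⟨⟨x, hFH' hx⟩, this hx, rfl⟩
  set C := centralizer (A : Set G) with hC
  have hquad : ∀ c ∈ C, ∀ v ∈ F, Commute c (v⁻¹ * (c * v * c⁻¹)) := by
    intro c hc v hv
    have hw : v⁻¹ * (c * v * c⁻¹) ∈ F :=
      mul_mem (inv_mem hv) ((inferInstance : F.Normal).conj_mem v hv c)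
    have hwA : v⁻¹ * (c * v * c⁻¹) ∈ A := by
      refine hAA.le (mem_inf.mpr ⟨hFle hw, mem_centralizer_iff.mpr fun a ha => ?_⟩)
      have ha' : v * a * v⁻¹ ∈ A := (mem_normalizer_iff.mp (hFN (hFle hv)) a).mp ha
      have hca : ∀ b ∈ A, c * b * c⁻¹ = b := fun b hb => by
        rw [← mem_centralizer_iff.mp hc b hb, mul_inv_cancel_right]
      have h1 : (c * v * c⁻¹) * a * (c * v * c⁻¹)⁻¹ = v * a * v⁻¹ := by
        calc (c * v * c⁻¹) * a * (c * v * c⁻¹)⁻¹ = c * (v * (c⁻¹ * a * c) * v⁻¹) * c⁻¹ := by group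
          _ = c * (v * a * v⁻¹) * c⁻¹ := by rw [mul_assoc c⁻¹, mem_centralizer_iff.mp hc a ha, inv_mul_cancel_left]
          _ = v * a * v⁻¹ := hca _ ha'
      calc a * (v⁻¹ * (c * v * c⁻¹)) = v⁻¹ * (v * a * v⁻¹) * (c * v * c⁻¹) := by group
        _ = v⁻¹ * (c * v * c⁻¹) * a := by rw [← h1]; group
    exact (mem_centralizer_iff.mp hc _ hwA).symm
  have hCF : ∀ c ∈ C, c ∈ F := by
    suffices h : ∀ n, ∀ c ∈ C, orderOf c = n → c ∈ F from fun c hc => h _ c hc rfl
    intro n
    induction n using Nat.strong_induction_on with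
    | _ n ih =>
    intro c hc hn
    by_cases h1 : c = 1
    · rw [h1]; exact one_mem _
    obtain ⟨p, hp, hpc⟩ := Nat.exists_prime_and_dvd (fun e => h1 (orderOf_eq_one_iff.mp e))
    haveI : Fact p.Prime := ⟨hp⟩
    obtain ⟨a, b, ha, hb, hab, hap, hbp⟩ := Transfer.exists_pPart_mul (p := p) c
    have haC : a ∈ C := zpowers_le.mpr hc ha
    have hbC : b ∈ C := zpowers_le.mpr hc hb
    rw [← hab]
    refine mul_mem (mem_fittingSubgroup_of_quadratic hap ?_ (hquad a haC)) (ih _ ?_ b hbC rfl)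
    · by_cases hpπ : p ∈ π
      · refine Or.inl ?_
        rcases Nat.lt_or_ge p 5 with h | h
        · have h2le := hp.two_le
          interval_cases p
          · exact absurd hpπ h2
          · exact absurd hpπ h3
          · exact absurd hp (by norm_num)
        · exact h
      · refine Or.inr (le_bot_iff.mp (hred ▸ le_sSup ⟨inferInstance, fun r hr hrd => ?_⟩))
        obtain ⟨j, hj⟩ := (Basics.pCore_isPGroup (G := G) p).exists_card_eq
        rw [hj] at hrd
        rw [(Nat.prime_dvd_prime_iff_eq hr hp).mp (hr.dvd_of_dvd_pow hrd)]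
        exact hpπ
    · rw [← hn]
      refine lt_of_le_of_ne (Nat.le_of_dvd (orderOf_pos c) (orderOf_dvd_of_mem_zpowers hb)) fun e => ?_
      exact hp.not_dvd_one ((hbp.coprime_dvd_left dvd_rfl) ▸ Nat.dvd_gcd (e ▸ hpc) dvd_rfl)
  intro c hc
  exact hAA.le (mem_inf.mpr ⟨hFle (hCF c hc), hc⟩)

/-- The general case. -/
theorem exists_complement_centralizer_scn [Group.IsSolvable G] (π : Set ℕ) (h2 : 2 ∉ π) (h3 : 3 ∉ π)
    (H : Subgroup G) (hH : IsPiHall π H) (A : Subgroup G)
    (hA : IsSCN ((fittingSubgroup H).map H.subtype) A) :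
    ∃ D : Subgroup G, D ≤ centralizer (A : Set G) ∧
      (∀ c ∈ centralizer (A : Set G), ∀ d ∈ D, c * d * c⁻¹ ∈ D) ∧
      A ⊓ D = ⊥ ∧ A ⊔ D = centralizer (A : Set G) ∧
      ∀ q : ℕ, q.Prime → q ∣ Nat.card D → q ∉ π := by
  obtain ⟨hAF, hFN, hAA⟩ := hA
  set D₀ := piCore πᶜ G with hD₀
  set φ := QuotientGroup.mk' D₀ with hφ
  have hD₀p : ∀ q : ℕ, q.Prime → q ∣ Nat.card D₀ → q ∉ π := fun q hq hd => OddLocal.piCore_primes πᶜ hq hd
  have hAH : A ≤ H := hAF.trans (map_subtype_le _)
  have hHD : ∀ x ∈ H, x ∈ D₀ → x = 1 := by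
    intro x hxH hxD
    by_contra hx
    obtain ⟨q, hq, hd⟩ := Nat.exists_prime_and_dvd (fun e => hx (orderOf_eq_one_iff.mp e))
    exact hD₀p q hq (hd.trans (Subgroup.orderOf_mk x hxD ▸ orderOf_dvd_natCard _))
      (hH.1 q hq (hd.trans (Subgroup.orderOf_mk x hxH ▸ orderOf_dvd_natCard _)))
  have hinj : Function.Injective (φ.subgroupMap H) := by
    rw [← MonoidHom.ker_eq_bot_iff, eq_bot_iff_forall]
    intro x hx
    exact Subtype.ext (hHD x x.2 ((QuotientGroup.eq_one_iff (x : G)).mp (congrArg Subtype.val hx)))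
  let e : ↥H ≃* ↥(H.map φ) := MulEquiv.ofBijective _ ⟨hinj, φ.subgroupMap_surjective H⟩
  have hHall : IsPiHall π (H.map φ) :=
    ⟨fun q hq hd => hH.1 q hq (hd.trans (card_map_dvd H φ)),
      fun q hq hqπ hd => hH.2 q hq hqπ (hd.trans (H.index_map_dvd (QuotientGroup.mk'_surjective D₀)))⟩
  have hFeq : (fittingSubgroup ↥(H.map φ)).map (H.map φ).subtype =
      ((fittingSubgroup H).map H.subtype).map φ := by
    have h1 : fittingSubgroup ↥(H.map φ) = (fittingSubgroup H).map e.toMonoidHom := by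
      refine le_antisymm (fun y hy => ?_) (map_fitting_le e)
      exact ⟨e.symm y, map_fitting_le e.symm ⟨y, hy, rfl⟩, e.apply_symm_apply y⟩
    rw [h1, map_map, map_map]
    rfl
  have hred : piCore πᶜ (G ⧸ D₀) = ⊥ := by
    set E := piCore πᶜ (G ⧸ D₀) with hE
    have hle : E.comap φ ≤ D₀ := le_sSup ⟨Normal.comap inferInstance φ, fun r hr hd => by
      have h1 : Nat.card (E.comap φ) = Nat.card D₀ * Nat.card E := by
        have h2 := (φ.comp (E.comap φ).subtype).ker.card_mul_index
        rw [index_ker, MonoidHom.range_comp, range_subtype,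
          map_comap_eq_self_of_surjective (QuotientGroup.mk'_surjective D₀)] at h2
        rw [← h2, show (φ.comp (E.comap φ).subtype).ker = D₀.subgroupOf (E.comap φ) from
          Subgroup.ext fun w => QuotientGroup.eq_one_iff (N := D₀) (w : G),
          Nat.card_congr (subgroupOfEquivOfLe (show D₀ ≤ E.comap φ from fun w hw => by
            rw [mem_comap, hφ, QuotientGroup.mk'_apply, (QuotientGroup.eq_one_iff w).mpr hw]
            exact one_mem _)).toEquiv]
      rw [h1] at hd
      rcases hr.dvd_mul.mp hd with h | h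
      · exact hD₀p r hr h
      · exact OddLocal.piCore_primes πᶜ hr h⟩
    rw [← map_comap_eq_self_of_surjective (f := φ) (QuotientGroup.mk'_surjective D₀) E,
      Subgroup.map_eq_bot_iff, QuotientGroup.ker_mk']
    exact hle
  have hSCN : IsSCN ((fittingSubgroup ↥(H.map φ)).map (H.map φ).subtype) (A.map φ) := by
    rw [hFeq]
    refine ⟨map_mono hAF, (map_mono hFN).trans (le_normalizer_map φ), ?_⟩
    refine le_antisymm ?_ (le_inf (map_mono hAF) ?_)
    · intro y hy
      obtain ⟨⟨x, hx, rfl⟩, hxc⟩ := mem_inf.mp hy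
      refine mem_map_of_mem φ (hAA.le (mem_inf.mpr ⟨hx, mem_centralizer_iff.mpr fun a ha => ?_⟩))
      have h1 : φ (a * x) = φ (x * a) := by
        rw [map_mul, map_mul]; exact mem_centralizer_iff.mp hxc _ (mem_map_of_mem φ ha)
      have h2 : (a * x)⁻¹ * (x * a) ∈ D₀ := QuotientGroup.eq.mp h1
      have hxH : x ∈ H := map_subtype_le _ hx
      exact inv_mul_eq_one.mp (hHD _ (mul_mem (inv_mem (mul_mem (hAH ha) hxH)) (mul_mem hxH (hAH ha))) h2)
    · exact (map_mono (hAA.ge.trans inf_le_right)).trans (map_centralizer_le_centralizer_image _ φ)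
  have key : centralizer ((A.map φ : Subgroup (G ⧸ D₀)) : Set (G ⧸ D₀)) ≤ A.map φ :=
    centralizer_le_of_piCore_eq_bot h2 h3 hred hHall hSCN
  have hAC : A ≤ centralizer (A : Set G) := hAA.ge.trans inf_le_right
  refine ⟨centralizer (A : Set G) ⊓ D₀, inf_le_left, fun c hc d hd => mem_inf.mpr
    ⟨mul_mem (mul_mem hc (mem_inf.mp hd).1) (inv_mem hc),
      (inferInstance : D₀.Normal).conj_mem d (mem_inf.mp hd).2 c⟩, ?_, ?_, ?_⟩
  · refine (eq_bot_iff_forall _).mpr fun x hx => hHD x (hAH (mem_inf.mp hx).1) (mem_inf.mp (mem_inf.mp hx).2).2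
  · refine le_antisymm (sup_le hAC inf_le_left) fun c hc => ?_
    obtain ⟨a, ha, hac⟩ := key (map_centralizer_le_centralizer_image _ φ (mem_map_of_mem φ hc))
    have h1 : a⁻¹ * c ∈ D₀ := QuotientGroup.eq.mp hac
    rw [← mul_inv_cancel_left a c]
    exact mul_mem_sup ha (mem_inf.mpr ⟨mul_mem (inv_mem (hAC ha)) hc, h1⟩)
  · exact fun q hq hd => hD₀p q hq (hd.trans (card_dvd_of_le inf_le_right))

end Cfsg.Agent.Tech
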