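import Cfsg.Agent.Lib.Transfer.Residual

/-!
# Thompson's sign argument for elements acting semiregularly on cosets
-/

set_option autoImplicit false

namespace Cfsg.Agent.Tech

open Subgroup Cfsg

theorem sign_of_semiregular {α : Type*} [Fintype α] [DecidableEq α] (σ : Equiv.Perm α) {k m : ℕ}
    (hσ : σ ^ 2 ^ (k + 1) = 1) (hfree : ∀ a : α, (σ ^ 2 ^ k) a ≠ a) (hm : Odd m)
    (hcard : Fintype.card α = 2 ^ (k + 1) * m) : Equiv.Perm.sign σ = -1 := by
  have hct : ∀ n ∈ σ.cycleType, n = 2 ^ (k + 1) := by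
    intro n hn
    obtain ⟨c, τ, rfl, hdis, hc, hcn⟩ := Equiv.Perm.mem_cycleType_iff.mp hn
    have hdvd : n ∣ 2 ^ (k + 1) := by
      rw [← hcn, ← hc.orderOf]
      refine orderOf_dvd_of_pow_eq_one ?_
      rw [hdis.commute.mul_pow] at hσ
      exact (Equiv.Perm.Disjoint.mul_eq_one_iff (hdis.pow_disjoint_pow _ _)).mp hσ |>.1
    obtain ⟨j, hj, rfl⟩ := (Nat.dvd_prime_pow Nat.prime_two).mp hdvd
    rcases Nat.lt_or_ge j (k + 1) with hlt | hge
    · exfalso
      obtain ⟨a, ha⟩ := Finset.card_pos.mp (show 0 < c.support.card by rw [hcn]; positivity)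
      refine hfree a ?_
      have h1 : c ^ 2 ^ k = 1 := by
        refine orderOf_dvd_iff_pow_eq_one.mp ?_
        rw [hc.orderOf, hcn]
        exact pow_dvd_pow 2 (by omega)
      have hτ : τ a = a := (hdis a).resolve_left (Equiv.Perm.mem_support.mp ha)
      rw [hdis.commute.mul_pow, h1, one_mul]
      exact Equiv.Perm.pow_apply_eq_self_of_apply_eq_self hτ _
    · rw [show j = k + 1 by omega]
  have hsupp : σ.support = Finset.univ := by
    refine Finset.eq_univ_iff_forall.mpr fun a => Equiv.Perm.mem_support.mpr fun h => hfree a ?_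
    exact Equiv.Perm.pow_apply_eq_self_of_apply_eq_self h _
  have hsum : σ.cycleType.sum = 2 ^ (k + 1) * m := by
    rw [Equiv.Perm.sum_cycleType, hsupp, Finset.card_univ, hcard]
  have hlen : Multiset.card σ.cycleType = m := by
    have h1 : σ.cycleType.sum = Multiset.card σ.cycleType * 2 ^ (k + 1) := by
      conv_lhs => rw [Multiset.eq_replicate_card.mpr hct]
      rw [Multiset.sum_replicate, smul_eq_mul]
    rw [hsum, mul_comm] at h1
    exact (Nat.eq_of_mul_eq_mul_right (by positivity) h1).symm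
  rw [Equiv.Perm.sign_of_cycleType, hsum, hlen, pow_add, pow_mul]
  have h2 : ((-1 : ℤˣ) ^ 2 ^ (k + 1)) = 1 := by
    rw [pow_succ', pow_mul, Int.units_sq, one_pow]
  rw [h2, one_pow, one_mul, hm.neg_one_pow]

variable {G : Type*} [Group G] [Finite G]

/-- The sign of the action on the cosets of `Q`. -/
noncomputable def cosetSign (Q : Subgroup G) : G →* ℤˣ :=
  letI := Fintype.ofFinite (G ⧸ Q)
  letI := Classical.decEq (G ⧸ Q)
  Equiv.Perm.sign.comp (MulAction.toPermHom G (G ⧸ Q))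

theorem cosetSign_eq_neg_one (Q : Subgroup G) (c : G) {k : ℕ} (hc : c ^ 2 ^ (k + 1) = 1)
    (hidx : ∃ m, Odd m ∧ Q.index = 2 ^ (k + 1) * m)
    (hfree : ∀ g : G, g * c ^ 2 ^ k * g⁻¹ ∉ Q) : cosetSign Q c = -1 := by
  letI := Fintype.ofFinite (G ⧸ Q)
  letI := Classical.decEq (G ⧸ Q)
  obtain ⟨m, hm, hm'⟩ := hidx
  refine sign_of_semiregular (MulAction.toPermHom G (G ⧸ Q) c) (k := k) (m := m) ?_ ?_ hm ?_
  · rw [← map_pow, hc, map_one]
  · intro a
    obtain ⟨g, rfl⟩ := Quotient.exists_rep a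
    rw [← map_pow]
    intro h
    have h1 : ((c ^ 2 ^ k * g : G) : G ⧸ Q) = (g : G ⧸ Q) := h
    have h2 := QuotientGroup.eq.mp h1.symm
    refine hfree g⁻¹ ?_
    rw [inv_inv, mul_assoc]
    exact h2
  · rw [← Nat.card_eq_fintype_card]
    exact hm'

theorem exists_sign_kernel (Q : Subgroup G) (c : G) {k : ℕ} (hc : c ^ 2 ^ (k + 1) = 1)
    (hidx : ∃ m, Odd m ∧ Q.index = 2 ^ (k + 1) * m)
    (hfree : ∀ g : G, g * c ^ 2 ^ k * g⁻¹ ∉ Q) :
    ∃ f : G →* ℤˣ, f c = -1 :=
  ⟨cosetSign Q, cosetSign_eq_neg_one Q c hc hidx hfree⟩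

/-- An element of odd order is in the kernel of any map to `ℤˣ`. -/
theorem pResidual_le_ker_units (f : G →* ℤˣ) : pResidual 2 G ≤ f.ker := by
  refine (closure_le _).mpr fun g hg => ?_
  rw [SetLike.mem_coe, MonoidHom.mem_ker]
  have h1 : orderOf (f g) ∣ 2 := orderOf_dvd_of_pow_eq_one (Int.units_sq _)
  have h2 : (orderOf g).Coprime 2 := hg
  exact orderOf_eq_one_iff.mp (Nat.eq_one_of_dvd_coprimes h2 (orderOf_map_dvd f g) h1)

/-- Inductive form: a cyclic 2-subgroup acting freely splits off `O²`. -/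
theorem residual_card_le_of_cyclic (T : Subgroup G) (hT2 : IsPGroup 2 T) :
    ∀ (k : ℕ) (H : Subgroup G) (c : G), T ≤ H → c ∈ H → orderOf c = 2 ^ k →
      (∀ g ∈ H, c ^ 2 ^ (k - 1) ≠ 1 → g * c ^ 2 ^ (k - 1) * g⁻¹ ∉ T) →
      (∃ m, Odd m ∧ Nat.card H = Nat.card T * 2 ^ k * m) →
      pResidual 2 G ≤ H → T ≤ pResidual 2 G →
      ∃ H' : Subgroup G, pResidual 2 G ≤ H' ∧ ∃ m, Odd m ∧ Nat.card H' = Nat.card T * m := by
  intro k
  induction k with
  | zero =>
    intro H c _ _ _ _ ⟨m, hm, hH⟩ hR _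
    exact ⟨H, hR, m, hm, by simpa using hH⟩
  | succ k ih =>
    intro H c hTH hcH hc hfree ⟨m, hm, hH⟩ hR hTR
    rw [Nat.add_sub_cancel] at hfree
    have hidx : (T.subgroupOf H).index = 2 ^ (k + 1) * m := by
      have h1 := (T.subgroupOf H).card_mul_index
      rw [Nat.card_congr (subgroupOfEquivOfLe hTH).toEquiv, hH, mul_assoc] at h1
      exact Nat.eq_of_mul_eq_mul_left Nat.card_pos h1
    have hck : c ^ 2 ^ k ≠ 1 := pow_ne_one_of_lt_orderOf (pow_ne_zero _ two_ne_zero)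
      (by rw [hc]; exact Nat.pow_lt_pow_right one_lt_two (by omega))
    obtain ⟨f, hf⟩ := exists_sign_kernel (T.subgroupOf H) (⟨c, hcH⟩ : H) (k := k)
      (Subtype.ext (by simp [← hc, pow_orderOf_eq_one]))
      ⟨m, hm, hidx⟩ (fun g hg => hfree g g.2 hck (by simpa [mem_subgroupOf] using hg))
    set H1 := f.ker.map H.subtype with hH1
    have hsurj : Function.Surjective f := by
      intro u
      rcases Int.units_eq_one_or u with rfl | rfl
      · exact ⟨1, map_one f⟩
      · exact ⟨_, hf⟩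
    have hcard : Nat.card H1 * 2 = Nat.card H := by
      rw [hH1, card_map_of_injective H.subtype_injective, ← f.ker.card_mul_index, index_ker,
        MonoidHom.range_eq_top.mpr hsurj, card_top, Nat.card_eq_fintype_card (α := ℤˣ),
        Fintype.card_units_int]
    have hR1 : pResidual 2 G ≤ H1 := by
      refine (closure_le _).mpr fun g hg => ?_
      have hgH : g ∈ H := hR (subset_closure hg)
      exact ⟨⟨g, hgH⟩, pResidual_le_ker_units f (subset_closure
        (show (orderOf (⟨g, hgH⟩ : H)).Coprime 2 by rw [orderOf_mk]; exact hg)), rfl⟩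
    have hc2 : c ^ 2 ∈ H1 := ⟨(⟨c, hcH⟩ : H) ^ 2,
      show f _ = 1 by rw [map_pow, Int.units_sq], rfl⟩
    refine ih H1 (c ^ 2) (hTR.trans hR1) hc2 ?_ ?_ ⟨m, hm, ?_⟩ hR1 hTR
    · rw [orderOf_pow' _ two_ne_zero, hc, pow_succ, Nat.gcd_mul_left_left,
        Nat.mul_div_cancel _ two_pos]
    · intro g hg hne
      rcases k with _ | j
      · exfalso
        apply hne
        simp [← orderOf_dvd_iff_pow_eq_one, hc]
      · rw [← pow_mul, ← pow_succ', Nat.add_sub_cancel]
        exact hfree g (map_subtype_le _ hg) hck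
    · have : Nat.card H1 * 2 = Nat.card T * 2 ^ k * m * 2 := by rw [hcard, hH, pow_succ]; ring
      exact Nat.eq_of_mul_eq_mul_right two_pos this

end Cfsg.Agent.Tech
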