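import Cfsg.Agent.Lib.Tech.CyclicBlockPairing
import Cfsg.Agent.Lib.Basics.CoprimeAction
import Cfsg.Agent.Lib.Transfer.Fusion
import Cfsg.Agent.Lib.ClassK.AxB
import Cfsg.Agent.Lib.Transfer.MaxAbelian

/-!
# Class two groups with a single fixed line

A `p`-group of exponent `p` and class at most two on which an element `b` of order `p` has at most
`p` fixed points is centralized by every `p'`-group `Q` normalized fixed-point-freely by `b`,
provided `Q` centralizes the fixed points of `b`.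
-/

set_option autoImplicit false
set_option linter.style.haveILetI false
set_option linter.unusedSectionVars false
set_option linter.unusedVariables false

namespace Cfsg.Agent.Tech

open Subgroup
open scoped commutatorElement

variable {G : Type*} [Group G] [Finite G] {p : ℕ} [hp : Fact p.Prime]

theorem fixed_point_ne_one {b : G} (hb : b ^ p = 1) {V : Subgroup G} (hV : IsPGroup p V)
    (hbV : b ∈ normalizer (V : Set G)) (hne : V ≠ ⊥) :
    ∃ x ∈ V ⊓ centralizer ({b} : Set G), x ≠ 1 := by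
  obtain ⟨n, hn, hn1, hfix⟩ := ClassK.exists_mem_commutator_le (Q := (⊥ : Subgroup G))
    (IsPGroup.of_card_dvd_pow (n := 1) (G := zpowers b)
      (by rw [Nat.card_zpowers, pow_one]; exact orderOf_dvd_of_pow_eq_one hb)) hV
    (zpowers_le.mpr hbV) (fun h => hne (le_bot_iff.mp h))
  refine ⟨n, mem_inf.mpr ⟨hn, mem_centralizer_singleton_iff.mpr ?_⟩, fun h => hn1 (mem_bot.mpr h)⟩
  have h1 := mem_bot.mp (hfix b (mem_zpowers b))
  have h2 : b * n * b⁻¹ = n := (inv_mul_eq_one.mp h1).symm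
  calc n * b = b * n * b⁻¹ * b := by rw [h2]
    _ = b * n := by rw [inv_mul_cancel_right]

/-- With at most `p` fixed points of `b` on an abelian `V`, either `Q` centralizes `V` or fixes
nothing in it. -/
theorem inf_centralizer_eq_bot_of_commutator_ne_bot {b : G} (hb : b ^ p = 1) {Q V : Subgroup G}
    [IsMulCommutative V] (hV : IsPGroup p V) (hbV : b ∈ normalizer (V : Set G))
    (hbQ : b ∈ normalizer (Q : Set G)) (hQV : Q ≤ normalizer (V : Set G))
    (hQ : (Nat.card Q).Coprime p) (hfix : Nat.card ↥(V ⊓ centralizer ({b} : Set G)) ≤ p)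
    (hne : ⁅V, Q⁆ ≠ ⊥) : V ⊓ centralizer (Q : Set G) = ⊥ := by
  obtain ⟨k, hk⟩ := hV.exists_card_eq
  have hcop : (Nat.card Q).Coprime (Nat.card V) := hk ▸ hQ.pow_right k
  by_contra hC
  have hCV : ⁅V, Q⁆ ≤ V := le_normalizer_iff_commutator_le_left.mp hQV
  have hbC : b ∈ normalizer (V ⊓ centralizer (Q : Set G) : Set G) :=
    inf_normalizer_le_normalizer_inf ⟨hbV, Transfer.normalizer_le_normalizer_centralizer' _ hbQ⟩
  have hbc : b ∈ normalizer ((⁅V, Q⁆ : Subgroup G) : Set G) := by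
    refine mem_normalizer_iff_map_conj_eq.mpr ?_
    rw [Subgroup.map_commutator, mem_normalizer_iff_map_conj_eq.mp hbV,
      mem_normalizer_iff_map_conj_eq.mp hbQ]
  obtain ⟨x, hx, hx1⟩ := fixed_point_ne_one hb (hV.to_le inf_le_left) hbC hC
  obtain ⟨y, hy, hy1⟩ := fixed_point_ne_one hb (hV.to_le hCV) hbc hne
  set X := V ⊓ centralizer ({b} : Set G)
  have hXp : IsPGroup p X := hV.to_le inf_le_left
  have hsub : ∀ W : Subgroup G, W ≤ X → W ≠ ⊥ → X ≤ W := fun W hW hW1 => by
    obtain ⟨j, hj⟩ := (hXp.to_le hW).exists_card_eq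
    refine (eq_of_le_of_card_ge hW (hfix.trans ?_)).ge
    rcases j with _ | j
    · exact absurd (card_eq_one.mp hj) hW1
    · rw [hj]; exact Nat.le_self_pow (Nat.succ_ne_zero j) p
  have hxX : x ∈ X := mem_inf.mpr ⟨(mem_inf.mp (mem_inf.mp hx).1).1, (mem_inf.mp hx).2⟩
  have hyX : y ∈ X := mem_inf.mpr ⟨hCV (mem_inf.mp hy).1, (mem_inf.mp hy).2⟩
  have h1 := hsub (⁅V, Q⁆ ⊓ centralizer ({b} : Set G)) (le_inf (inf_le_left.trans hCV) inf_le_right)
    (fun h => hy1 (mem_bot.mp (h ▸ hy)))
  have h2 : x ∈ (V ⊓ centralizer (Q : Set G)) ⊓ ⁅V, Q⁆ :=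
    mem_inf.mpr ⟨(mem_inf.mp hx).1, (mem_inf.mp (h1 hxX)).1⟩
  rw [Basics.inf_centralizer_inf_commutator_eq_bot Q V hQV hcop] at h2
  exact hx1 (mem_bot.mp h2)

/-- The class-two step. -/
theorem centralizes_of_single_fixed (hodd : p ≠ 2) (D : Subgroup G) [D.Normal] (hD : IsPGroup p D)
    (hexp : ∀ x ∈ D, x ^ p = 1) (hclass : ⁅D, D⁆ ≤ centralizer (D : Set G)) {b : G}
    (hb : b ^ p = 1) (Q : Subgroup G) (hbQ : b ∈ normalizer (Q : Set G))
    (hQ : (Nat.card Q).Coprime p) (hfpf : ∀ y ∈ Q, b * y = y * b → y = 1)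
    (hfix : Nat.card ↥(D ⊓ centralizer ({b} : Set G)) ≤ p)
    (hfixQ : D ⊓ centralizer ({b} : Set G) ≤ centralizer (Q : Set G)) :
    Q ≤ centralizer (D : Set G) := by
  set Z := D ⊓ centralizer (D : Set G) with hZdef
  haveI : Z.Normal := inferInstance
  haveI hZc : IsMulCommutative Z := ⟨⟨fun u v => Subtype.ext
    (mem_centralizer_iff.mp (mem_inf.mp v.2).2 (u : G) (mem_inf.mp u.2).1)⟩⟩
  have hQN : ∀ W : Subgroup G, W.Normal → Q ≤ normalizer (W : Set G) := fun W hW => by
    haveI := hW; rw [normalizer_eq_top]; exact le_top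
  have hbN : ∀ W : Subgroup G, W.Normal → b ∈ normalizer (W : Set G) := fun W hW => by
    haveI := hW; rw [normalizer_eq_top]; exact mem_top b
  -- `Q` centralizes `Z`
  have hQZ : Q ≤ centralizer (Z : Set G) := by
    rcases eq_or_ne Z ⊥ with hZ | hZ
    · intro q _
      exact mem_centralizer_iff.mpr fun z hz => by
        rw [SetLike.mem_coe, hZ, mem_bot] at hz; rw [hz, one_mul, mul_one]
    by_contra hne
    have hne' : ⁅Z, Q⁆ ≠ ⊥ := fun h => hne (commutator_eq_bot_iff_le_centralizer.mp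
      (by rw [Subgroup.commutator_comm]; exact h))
    have h1 := inf_centralizer_eq_bot_of_commutator_ne_bot hb (hD.to_le inf_le_left)
      (hbN Z inferInstance) hbQ (hQN Z inferInstance) hQ
      ((card_le_of_le (inf_le_inf_right _ inf_le_left)).trans hfix) hne'
    obtain ⟨z, hz, hz1⟩ := fixed_point_ne_one hb (hD.to_le (inf_le_left : Z ≤ D))
      (hbN Z inferInstance) hZ
    exact hz1 (mem_bot.mp (h1 ▸ mem_inf.mpr ⟨(mem_inf.mp hz).1,
      hfixQ (mem_inf.mpr ⟨(mem_inf.mp (mem_inf.mp hz).1).1, (mem_inf.mp hz).2⟩)⟩))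
  -- the quotient `D / Z`
  set π := QuotientGroup.mk' Z with hπ
  have hπs : Function.Surjective π := QuotientGroup.mk'_surjective Z
  set V := D.map π with hVdef
  haveI hVn : V.Normal := Normal.map inferInstance π hπs
  have hDD : ⁅D, D⁆ ≤ Z := le_inf (commutator_le_self D) hclass
  haveI hVc : IsMulCommutative V := by
    rw [← le_centralizer_iff_isMulCommutative, ← commutator_eq_bot_iff_le_centralizer, hVdef,
      ← map_commutator, Subgroup.map_eq_bot_iff, QuotientGroup.ker_mk']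
    exact hDD
  have hVp : IsPGroup p V := hD.map π
  have hb' : (π b) ^ p = 1 := by rw [← map_pow, hb, map_one]
  have hbQ' : π b ∈ normalizer ((Q.map π : Subgroup (G ⧸ Z)) : Set (G ⧸ Z)) :=
    le_normalizer_map π (mem_map_of_mem π hbQ)
  have hQV : Q.map π ≤ normalizer (V : Set (G ⧸ Z)) := by rw [normalizer_eq_top]; exact le_top
  have hbV : π b ∈ normalizer (V : Set (G ⧸ Z)) := by rw [normalizer_eq_top]; exact mem_top _
  have hQ' : (Nat.card ↥(Q.map π)).Coprime p := hQ.coprime_dvd_left (card_map_dvd _ _)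
  -- at most `p` fixed points in `D / Z`
  have hfix' : Nat.card ↥(V ⊓ centralizer ({π b} : Set (G ⧸ Z))) ≤ p := by
    let W : Subgroup G :=
      { carrier := {w | w ∈ D ∧ ⁅b, w⁆ ∈ Z}
        one_mem' := ⟨one_mem _, by rw [commutatorElement_one_right]; exact one_mem Z⟩
        mul_mem' := fun {u v} hu hv => ⟨mul_mem hu.1 hv.1, by
          rw [show ⁅b, u * v⁆ = ⁅b, u⁆ * (u * ⁅b, v⁆ * u⁻¹) by
            simp only [commutatorElement_def]; group]
          exact mul_mem hu.2 ((inferInstance : Z.Normal).conj_mem _ hv.2 u)⟩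
        inv_mem' := fun {u} hu => ⟨inv_mem hu.1, by
          rw [show ⁅b, u⁻¹⁆ = u⁻¹ * ⁅b, u⁆⁻¹ * u⁻¹⁻¹ by simp only [commutatorElement_def]; group]
          exact (inferInstance : Z.Normal).conj_mem _ (inv_mem hu.2) u⁻¹⟩ }
    have hWmap : V ⊓ centralizer ({π b} : Set (G ⧸ Z)) ≤ W.map π := by
      rintro _ hx
      obtain ⟨⟨w, hw, rfl⟩, hc⟩ := mem_inf.mp hx
      refine ⟨w, ⟨hw, ?_⟩, rfl⟩
      rw [← QuotientGroup.eq_one_iff (N := Z), ← QuotientGroup.mk'_apply, map_commutatorElement]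
      exact commutatorElement_eq_one_iff_mul_comm.mpr (mem_centralizer_singleton_iff.mp hc).symm
    let δ : W →* Z :=
      { toFun := fun w => ⟨⁅b, (w : G)⁆, w.2.2⟩
        map_one' := Subtype.ext (commutatorElement_one_right b)
        map_mul' := fun u v => Subtype.ext (by
          show ⁅b, (u : G) * v⁆ = ⁅b, (u : G)⁆ * ⁅b, (v : G)⁆
          rw [show ⁅b, (u : G) * v⁆ = ⁅b, (u : G)⁆ * ((u : G) * ⁅b, (v : G)⁆ * (u : G)⁻¹) by
            simp only [commutatorElement_def]; group,
            mem_centralizer_iff.mp (mem_inf.mp v.2.2).2 (u : G) u.2.1, mul_inv_cancel_right]) }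
    have hk : Nat.card δ.ker ≤ p := by
      refine le_trans (Nat.card_le_card_of_injective (fun w => (⟨((w : W) : G), mem_inf.mpr
        ⟨(w : W).2.1, mem_centralizer_singleton_iff.mpr ?_⟩⟩ :
          ↥(D ⊓ centralizer ({b} : Set G)))) fun u v h => Subtype.ext (Subtype.ext
            (congrArg (fun z : ↥(D ⊓ centralizer ({b} : Set G)) => (z : G)) h))) hfix
      exact (commutatorElement_eq_one_iff_mul_comm.mp (congrArg Subtype.val w.2)).symm
    have hWc : Nat.card W ≤ p * Nat.card Z := by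
      rw [← δ.ker.card_mul_index, index_ker]
      exact Nat.mul_le_mul hk (card_le_card_group _)
    have hπW : Nat.card ↥(W.map π) * Nat.card Z = Nat.card W := by
      have h1 := (π.comp W.subtype).ker.card_mul_index
      rw [index_ker, MonoidHom.range_comp, range_subtype] at h1
      have hker : (π.comp W.subtype).ker = Z.subgroupOf W :=
        Subgroup.ext fun w => QuotientGroup.eq_one_iff (N := Z) (w : G)
      rw [hker, Basics.card_subgroupOf] at h1
      · rw [mul_comm]; exact h1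
      · intro z hz
        refine ⟨(mem_inf.mp hz).1, ?_⟩
        rw [commutatorElement_def]
        exact mul_mem ((inferInstance : Z.Normal).conj_mem z hz b) (inv_mem hz)
    refine (card_le_of_le hWmap).trans (Nat.le_of_mul_le_mul_right ?_ (Nat.card_pos (α := Z)))
    rw [hπW]
    exact hWc
  rcases eq_or_ne ⁅V, Q.map π⁆ ⊥ with hVQ | hVQ
  · obtain ⟨k, hk⟩ := hD.exists_card_eq
    refine Basics.le_centralizer_of_commutator_commutator_eq_bot Q D (hQN D inferInstance)
      (hk ▸ hQ.pow_right k) (Or.inr (by haveI := hD.isNilpotent; infer_instance)) ?_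
    rw [hVdef, ← map_commutator, Subgroup.map_eq_bot_iff, QuotientGroup.ker_mk'] at hVQ
    rw [eq_bot_iff]
    refine (commutator_mono hVQ le_rfl).trans ?_
    rw [Subgroup.commutator_comm]
    exact (commutator_eq_bot_iff_le_centralizer.mpr hQZ).le
  exfalso
  have hVC := inf_centralizer_eq_bot_of_commutator_ne_bot hb' hVp hbV hbQ' hQV hQ' hfix' hVQ
  -- the additive model
  set Z' := Z.subgroupOf D
  haveI hDZc : IsMulCommutative (↥D ⧸ Z') := by
    refine Normal.quotient_commutative_iff_commutator_le.mpr ?_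
    rw [← map_le_map_iff_of_injective D.subtype_injective, map_subtype_commutator,
      subgroupOf_map_subtype]
    exact le_inf hDD (commutator_le_self D)
  letI : CommGroup (↥D ⧸ Z') := open scoped IsMulCommutative in inferInstance
  let mk : ↥D → Additive (↥D ⧸ Z') := fun a => Additive.ofMul (QuotientGroup.mk a)
  have hmk : Function.Surjective mk := fun y => QuotientGroup.mk_surjective (Additive.toMul y)
  have hcmap : ∀ x : G, Z' ≤ Z'.comap (MulAut.conjNormal (H := D) x).toMonoidHom := fun x v hv => by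
    rw [mem_comap, mem_subgroupOf]
    show ((MulAut.conjNormal x v : ↥D) : G) ∈ Z
    rw [MulAut.conjNormal_apply]
    exact (inferInstance : Z.Normal).conj_mem _ (mem_subgroupOf.mp hv) x
  let Φ : G → AddMonoid.End (Additive (↥D ⧸ Z')) := fun x =>
    MonoidHom.toAdditive (QuotientGroup.map _ _ (MulAut.conjNormal x).toMonoidHom (hcmap x))
  have hΦapp : ∀ x a, Φ x (mk a) = mk (MulAut.conjNormal x a) := fun x a => rfl
  let Ψ : G →* AddMonoid.End (Additive (↥D ⧸ Z')) :=
    { toFun := Φ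
      map_one' := by
        ext z
        obtain ⟨a, rfl⟩ := hmk z
        rw [hΦapp, map_one]
        rfl
      map_mul' := fun x y => by
        ext z
        obtain ⟨a, rfl⟩ := hmk z
        rw [end_mul_apply, hΦapp, hΦapp, hΦapp, map_mul]
        rfl }
  have hΨfix : ∀ (x : G) (a : ↥D), Ψ x (mk a) = mk a → π x * π a = π a * π x := by
    intro x a h
    have h1 := mem_subgroupOf.mp (QuotientGroup.eq.mp (Additive.ofMul.injective h))
    simp only [Subgroup.coe_mul, Subgroup.coe_inv, MulAut.conjNormal_apply] at h1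
    have h2 : π ((x * a * x⁻¹)⁻¹ * a) = 1 := (QuotientGroup.eq_one_iff _).mpr h1
    rw [map_mul, map_inv, map_mul, map_mul, map_inv, inv_mul_eq_one] at h2
    exact mul_inv_eq_iff_eq_mul.mp h2
  have hfpf' : ∀ i, 0 < i → i < p → ∀ y ∈ Q, b ^ i * y = y * b ^ i → y = 1 := by
    intro i hi hip y hy hc
    refine hfpf y hy ?_
    obtain ⟨j, hj⟩ := exists_pow_eq_self_of_coprime (x := b) (n := i)
      ((Nat.coprime_of_lt_prime hi.ne' hip hp.out).symm.coprime_dvd_right
        (orderOf_dvd_of_pow_eq_one hb))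
    conv_lhs => rw [← hj]
    conv_rhs => rw [← hj]
    exact (show Commute (b ^ i) y from hc).pow_left j
  let σ : ↥Q → ↥Q := fun y => ⟨b * y * b⁻¹, (mem_normalizer_iff.mp hbQ _).mp y.2⟩
  have hσi : ∀ (i : ℕ) (y : ↥Q), ((σ^[i] y : ↥Q) : G) = b ^ i * y * (b ^ i)⁻¹ := by
    intro i y
    induction i with
    | zero => simp
    | succ i ih =>
      rw [Function.iterate_succ_apply']
      show b * ((σ^[i] y : ↥Q) : G) * b⁻¹ = _
      rw [ih, pow_succ']
      group
  -- the pairing
  set D' := ⁅D, D⁆ with hD'def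
  set E := ⁅D', zpowers b⁆ with hEdef
  have hD'Z : D' ≤ Z := hDD
  haveI hD'c : IsMulCommutative D' := ⟨⟨fun u v => by
    apply Subtype.ext
    have h := congrArg Subtype.val (mul_comm' (⟨_, hD'Z u.2⟩ : Z) ⟨_, hD'Z v.2⟩)
    exact h⟩⟩
  letI : CommGroup ↥D' := open scoped IsMulCommutative in inferInstance
  let val : ↥D → ↥D → Additive (↥D' ⧸ E.subgroupOf D') := fun u v =>
    Additive.ofMul (QuotientGroup.mk (⟨⁅(u : G), (v : G)⁆, commutator_mem_commutator u.2 v.2⟩ : ↥D'))
  have hcen : ∀ (u v w : ↥D), (w : G) * ⁅(u : G), (v : G)⁆ = ⁅(u : G), (v : G)⁆ * w := fun u v w =>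
    mem_centralizer_iff.mp (hclass (commutator_mem_commutator u.2 v.2)) (w : G) w.2
  have hvl : ∀ u u' v, val (u * u') v = val u v + val u' v := by
    intro u u' v
    refine congrArg Additive.ofMul ((congrArg QuotientGroup.mk (Subtype.ext ?_)).trans
      (QuotientGroup.mk_mul _ _ _))
    show ⁅(u : G) * u', (v : G)⁆ = ⁅(u : G), (v : G)⁆ * ⁅(u' : G), (v : G)⁆
    rw [show ⁅(u : G) * u', (v : G)⁆ = u * ⁅(u' : G), (v : G)⁆ * (u : G)⁻¹ * ⁅(u : G), (v : G)⁆ by
      simp only [commutatorElement_def]; group, hcen u' v u, mul_inv_cancel_right]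
    exact mem_centralizer_iff.mp (hclass (commutator_mem_commutator u.2 v.2)) _
      (commutator_le_self D (commutator_mem_commutator u'.2 v.2))
  have hvr : ∀ u v v', val u (v * v') = val u v + val u v' := by
    intro u v v'
    refine congrArg Additive.ofMul ((congrArg QuotientGroup.mk (Subtype.ext ?_)).trans
      (QuotientGroup.mk_mul _ _ _))
    show ⁅(u : G), (v : G) * v'⁆ = ⁅(u : G), (v : G)⁆ * ⁅(u : G), (v' : G)⁆
    rw [show ⁅(u : G), (v : G) * v'⁆ = ⁅(u : G), (v : G)⁆ * (v * ⁅(u : G), (v' : G)⁆ * (v : G)⁻¹) by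
      simp only [commutatorElement_def]; group, hcen u v' v, mul_inv_cancel_right]
  have hv0 : ∀ u v : ↥D, ((u : G) ∈ Z ∨ (v : G) ∈ Z) → val u v = 0 := by
    intro u v huv
    have h1 : ⁅(u : G), (v : G)⁆ = 1 := by
      rw [commutatorElement_eq_one_iff_mul_comm]
      rcases huv with h | h
      · exact (mem_centralizer_iff.mp (mem_inf.mp h).2 (v : G) v.2).symm
      · exact mem_centralizer_iff.mp (mem_inf.mp h).2 (u : G) u.2
    refine congrArg Additive.ofMul ((QuotientGroup.eq_one_iff _).mpr ?_)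
    rw [mem_subgroupOf]
    show ⁅(u : G), (v : G)⁆ ∈ E
    rw [h1]; exact one_mem _
  have hwell : ∀ u u' v v' : ↥D, mk u = mk u' → mk v = mk v' → val u v = val u' v' := by
    intro u u' v v' h h'
    have e1 := QuotientGroup.eq.mp (Additive.ofMul.injective h)
    have e2 := QuotientGroup.eq.mp (Additive.ofMul.injective h')
    calc val u v = val u (v * (v⁻¹ * v')) := by
          rw [hvr, hv0 u (v⁻¹ * v') (Or.inr (mem_subgroupOf.mp e2)), add_zero]
      _ = val u v' := by rw [mul_inv_cancel_left]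
      _ = val (u * (u⁻¹ * u')) v' := by
          rw [hvl, hv0 (u⁻¹ * u') v' (Or.inl (mem_subgroupOf.mp e1)), add_zero]
      _ = val u' v' := by rw [mul_inv_cancel_left]
  let sec : Additive (↥D ⧸ Z') → ↥D := fun x => (hmk x).choose
  have hsec : ∀ x, mk (sec x) = x := fun x => (hmk x).choose_spec
  have hmkmul : ∀ u v : ↥D, mk (u * v) = mk u + mk v := fun u v => rfl
  let f : Additive (↥D ⧸ Z') →+ Additive (↥D ⧸ Z') →+ Additive (↥D' ⧸ E.subgroupOf D') :=
    AddMonoidHom.mk' (fun x => AddMonoidHom.mk' (fun y => val (sec x) (sec y)) fun y y' => by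
      rw [← hvr]; exact hwell _ _ _ _ rfl (by rw [hmkmul, hsec, hsec, hsec]))
      fun x x' => AddMonoidHom.ext fun y => by
        show val (sec (x + x')) (sec y) = val (sec x) (sec y) + val (sec x') (sec y)
        rw [← hvl]; exact hwell _ _ _ _ (by rw [hmkmul, hsec, hsec, hsec]) rfl
  have hfapp : ∀ u v, f (mk u) (mk v) = val u v := fun u v => hwell _ _ _ _ (hsec _) (hsec _)
  have hf0 : f = 0 := by
    refine pairing_eq_zero (p := p) (Ψ b) (Ψ.comp Q.subtype) σ (fun x => ?_) (fun c hc => ?_)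
      (by rw [← map_pow, hb, map_one]) hQ (fun y => ?_) (fun i hi hip => ?_) (fun x hx => ?_) ?_
      f (fun x => ?_) (fun x y => ?_) (fun z x y => ?_)
    · obtain ⟨a, rfl⟩ := hmk x
      show p • mk a = 0
      rw [← ofMul_pow, ← QuotientGroup.mk_pow, show a ^ p = 1 from Subtype.ext (hexp a a.2)]
      rfl
    · obtain ⟨c', rfl⟩ := Additive.ofMul.surjective c
      obtain ⟨k, hk⟩ := ((hD.to_le (commutator_le_self D)).to_quotient (E.subgroupOf D')) c'
      have h2 : c' ^ 2 = 1 := by rw [sq]; exact congrArg Additive.toMul hc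
      refine congrArg Additive.ofMul (LocalEvenA.eq_one_of_pPow_of_coprime (p := p) (k := k) hk ?_)
      exact ((Nat.coprime_primes Nat.prime_two hp.out).mpr (Ne.symm hodd)).coprime_dvd_left
        (orderOf_dvd_of_pow_eq_one h2)
    · show Ψ b * Ψ (y : G) = Ψ (b * y * b⁻¹) * Ψ b
      rw [← map_mul, ← map_mul, inv_mul_cancel_right]
    · refine Finite.injective_iff_bijective.mp fun y w h => ?_
      have h1 : (y : G)⁻¹ * (b ^ i * y * (b ^ i)⁻¹) = (w : G)⁻¹ * (b ^ i * w * (b ^ i)⁻¹) := by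
        rw [← hσi, ← hσi]; exact congrArg Subtype.val h
      have h2 : (w : G) * (y : G)⁻¹ = 1 := by
        refine hfpf' i hi hip _ (mul_mem w.2 (inv_mem y.2)) ?_
        calc b ^ i * ((w : G) * (y : G)⁻¹)
            = (w : G) * ((w : G)⁻¹ * (b ^ i * w * (b ^ i)⁻¹)) * b ^ i * (y : G)⁻¹ := by group
          _ = (w : G) * ((y : G)⁻¹ * (b ^ i * y * (b ^ i)⁻¹)) * b ^ i * (y : G)⁻¹ := by rw [h1]
          _ = (w : G) * (y : G)⁻¹ * b ^ i := by group
      exact Subtype.ext (mul_inv_eq_one.mp h2).symm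
    · obtain ⟨a, rfl⟩ := hmk x
      have h1 : π a ∈ V ⊓ centralizer ((Q.map π : Subgroup (G ⧸ Z)) : Set (G ⧸ Z)) :=
        mem_inf.mpr ⟨mem_map_of_mem π a.2, mem_centralizer_iff.mpr fun _ ⟨q, hq, e⟩ =>
          e ▸ hΨfix q a (hx ⟨q, hq⟩)⟩
      rw [hVC, mem_bot] at h1
      exact congrArg Additive.ofMul ((QuotientGroup.eq_one_iff _).mpr
        (mem_subgroupOf.mpr ((QuotientGroup.eq_one_iff _).mp h1)))
    · refine le_trans (Nat.card_le_card_of_injective
        (fun x => (⟨π (sec x.1), mem_inf.mpr ⟨mem_map_of_mem π (sec x.1).2,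
          mem_centralizer_singleton_iff.mpr ?_⟩⟩ :
          ↥(V ⊓ centralizer ({π b} : Set (G ⧸ Z))))) ?_) hfix'
      · exact (hΨfix b (sec x.1) (by rw [hsec]; exact x.2)).symm
      · intro x x' h
        refine Subtype.ext ?_
        rw [← hsec x.1, ← hsec x'.1]
        refine congrArg Additive.ofMul (QuotientGroup.eq.mpr (mem_subgroupOf.mpr ?_))
        exact QuotientGroup.eq.mp (congrArg Subtype.val h : π (sec x.1) = π (sec x'.1))
    · obtain ⟨a, rfl⟩ := hmk x
      rw [hfapp]
      refine congrArg Additive.ofMul ((QuotientGroup.eq_one_iff _).mpr (mem_subgroupOf.mpr ?_))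
      show ⁅(a : G), (a : G)⁆ ∈ E
      rw [commutatorElement_self]; exact one_mem _
    · obtain ⟨u, rfl⟩ := hmk x
      obtain ⟨v, rfl⟩ := hmk y
      show f (mk (MulAut.conjNormal b u)) (mk (MulAut.conjNormal b v)) = _
      rw [hfapp, hfapp]
      refine congrArg Additive.ofMul (QuotientGroup.eq.mpr (mem_subgroupOf.mpr ?_))
      show (⁅((MulAut.conjNormal b u : ↥D) : G), ((MulAut.conjNormal b v : ↥D) : G)⁆)⁻¹ *
        ⁅(u : G), (v : G)⁆ ∈ E
      rw [MulAut.conjNormal_apply, MulAut.conjNormal_apply,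
        show ⁅b * (u : G) * b⁻¹, b * v * b⁻¹⁆⁻¹ * ⁅(u : G), (v : G)⁆ =
          ⁅b, ⁅(u : G), (v : G)⁆⁻¹⁆ by simp only [commutatorElement_def]; group]
      rw [hEdef, Subgroup.commutator_comm]
      exact commutator_mem_commutator (mem_zpowers b) (inv_mem (commutator_mem_commutator u.2 v.2))
    · obtain ⟨u, rfl⟩ := hmk x
      obtain ⟨v, rfl⟩ := hmk y
      show f (mk (MulAut.conjNormal (z : G) u)) (mk (MulAut.conjNormal (z : G) v)) = _
      rw [hfapp, hfapp]
      refine congrArg Additive.ofMul (congrArg QuotientGroup.mk (Subtype.ext ?_))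
      show ⁅((MulAut.conjNormal (z : G) u : ↥D) : G), ((MulAut.conjNormal (z : G) v : ↥D) : G)⁆ = _
      rw [MulAut.conjNormal_apply, MulAut.conjNormal_apply,
        show ⁅(z : G) * u * (z : G)⁻¹, (z : G) * v * (z : G)⁻¹⁆ =
          z * ⁅(u : G), (v : G)⁆ * (z : G)⁻¹ by simp only [commutatorElement_def]; group,
        ← mem_centralizer_iff.mp (hQZ z.2) _ (hD'Z (commutator_mem_commutator u.2 v.2)),
        mul_inv_cancel_right]
  -- so `D' = [D', b]`, whence `D' = 1`
  have hD'E : D' ≤ E := commutator_le.mpr fun u hu v hv => by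
    have h1 : val ⟨u, hu⟩ ⟨v, hv⟩ = 0 := by rw [← hfapp, hf0]; rfl
    exact mem_subgroupOf.mp ((QuotientGroup.eq_one_iff _).mp (Additive.ofMul.injective h1))
  have hbD' : zpowers b ≤ normalizer (D' : Set G) :=
    zpowers_le.mpr (hbN D' inferInstance)
  have hsp : IsPGroup p (D' ⊔ zpowers b : Subgroup G) := (hD.to_le (commutator_le_self D)).to_sup_of_normal_left'
    (IsPGroup.of_card_dvd_pow (n := 1)
      (by rw [Nat.card_zpowers, pow_one]; exact orderOf_dvd_of_pow_eq_one hb)) hbD'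
  haveI := hsp.isNilpotent
  have hD'bot : D' ≤ ⊥ := Transfer.le_of_le_sup_commutator (S := D' ⊔ zpowers b) le_sup_left
    (by rw [normalizer_eq_top]; exact le_top) (hD'E.trans ((commutator_mono le_rfl le_sup_right).trans le_sup_right))
  -- then `D` is abelian and equals `Z`
  have hDZ : D ≤ Z := le_inf le_rfl
    (commutator_eq_bot_iff_le_centralizer.mp (le_bot_iff.mp hD'bot))
  apply hVQ
  rw [hVdef, ← map_commutator, Subgroup.map_eq_bot_iff, QuotientGroup.ker_mk']
  exact (le_normalizer_iff_commutator_le_left.mp (hQN D inferInstance)).trans hDZ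

end Cfsg.Agent.Tech
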