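import Cfsg.Agent.Lib.LocalEvenB.FixedOrder
import Cfsg.Agent.Lib.LocalEvenA.Core
import Cfsg.Agent.Lib.Transfer.Fusion
import Mathlib.GroupTheory.Nilpotent

/-!
Normal `p`-complements and elements of order `p` (or dividing 4 for `p = 2`).
-/

set_option autoImplicit false

namespace Cfsg.Agent.Tech

open Subgroup
open scoped commutatorElement

variable {G : Type*} [Group G] [Finite G] {p : ℕ} [hp : Fact p.Prime]

/-- `y` has order dividing `p`, or dividing 4 with `p = 2`. -/
def Small (p : ℕ) (y : G) : Prop := y ^ p = 1 ∨ (p = 2 ∧ y ^ 4 = 1)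

omit [Finite G] hp in
theorem Small.conj {y : G} (h : Small p y) (z : G) : Small p (z * y * z⁻¹) := by
  rcases h with h | ⟨h2, h⟩
  · exact Or.inl (by rw [conj_pow, h, mul_one, mul_inv_cancel])
  · exact Or.inr ⟨h2, by rw [conj_pow, h, mul_one, mul_inv_cancel]⟩

/-- If a Sylow subgroup controls the fusion of its small order elements, then `p'`-elements
normalizing a subgroup of it centralize that subgroup. -/
theorem commute_of_small_fusion {P D : Subgroup G} (hPp : IsPGroup p P)
    (h : ∀ a ∈ P, Small p a → ∀ g : G, g * a * g⁻¹ ∈ P →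
      ∃ x ∈ P, g * a * g⁻¹ = x * a * x⁻¹)
    (hD : D ≤ P) {g : G} (hg : g ∈ normalizer (D : Set G)) (ho : (orderOf g).Coprime p) :
    ∀ y ∈ D, Commute g y := by
  haveI : Group.IsNilpotent P := hPp.isNilpotent
  obtain ⟨n, hn⟩ := (Subgroup.isNilpotent_iff_lowerCentralSeries P).mp inferInstance
  suffices H : ∀ k i, n ≤ i + k → ∀ y ∈ D, y ∈ P.lowerCentralSeries i → Small p y → Commute g y by
    refine LocalEvenB.commute_of_omega (hPp.to_le hD) hg ho fun y hy hs => ?_
    exact H n 0 (by omega) y hy (by rw [Subgroup.lowerCentralSeries_zero]; exact hD hy) hs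
  intro k
  induction k with
  | zero =>
    intro i hi y _ hyi _
    have : y ∈ P.lowerCentralSeries n := Subgroup.lowerCentralSeries_antitone P (by omega) hyi
    rw [hn, mem_bot] at this
    rw [this]; exact Commute.one_right g
  | succ k ih =>
    intro i hi y hy hyi hs
    let C : Subgroup G :=
      ⨅ j : ℤ, (D ⊓ P.lowerCentralSeries (i + 1)).comap (MulAut.conj (g ^ j)).toMonoidHom
    have hmemC : ∀ c, c ∈ C ↔ ∀ j : ℤ,
        g ^ j * c * (g ^ j)⁻¹ ∈ D ⊓ P.lowerCentralSeries (i + 1) := fun c => by
      rw [Subgroup.mem_iInf]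
      exact forall_congr' fun j => Iff.rfl
    have hCle : C ≤ D ⊓ P.lowerCentralSeries (i + 1) := fun c hc => by
      simpa using (hmemC c).mp hc 0
    have hgC : g ∈ normalizer (C : Set G) := by
      refine mem_normalizer_iff.mpr fun c => ?_
      simp only [hmemC]
      constructor
      · intro H j
        have := H (j + 1)
        rw [zpow_add, zpow_one] at this
        simpa [mul_assoc] using this
      · intro H j
        have := H (j - 1)
        rw [zpow_sub, zpow_one] at this
        simpa [mul_assoc] using this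
    -- every conjugate of `y` under a power of `g` lies in the same coset of the next term
    have key : ∀ j : ℤ, g ^ j * y * (g ^ j)⁻¹ ∈ D ∧
        g ^ j * y * (g ^ j)⁻¹ ∈ P.lowerCentralSeries i := by
      intro j
      have hjD : g ^ j * y * (g ^ j)⁻¹ ∈ D :=
        (mem_normalizer_iff.mp (zpow_mem hg j) y).mp hy
      refine ⟨hjD, ?_⟩
      obtain ⟨z, hz, hzy⟩ := h y (hD hy) hs (g ^ j) (hD hjD)
      rw [hzy]
      exact (mem_normalizer_iff.mp (Subgroup.self_le_normalizer_lowerCentralSeries P i hz) y).mp hyi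
    have hc : y⁻¹ * (g * y * g⁻¹) ∈ C := by
      refine (hmemC _).mpr fun j => ?_
      obtain ⟨hjD, hjL⟩ := key j
      set a := g ^ j * y * (g ^ j)⁻¹ with ha
      have hgaD : g * a * g⁻¹ ∈ D := (mem_normalizer_iff.mp hg a).mp hjD
      obtain ⟨z, hz, hzy⟩ := h a (hD hjD) (Small.conj hs _) g (hD hgaD)
      have e : g ^ j * (y⁻¹ * (g * y * g⁻¹)) * (g ^ j)⁻¹ = a⁻¹ * (g * a * g⁻¹) := by
        rw [ha]
        group
      rw [e]
      refine Subgroup.mem_inf.mpr ⟨mul_mem (inv_mem hjD) hgaD, ?_⟩
      rw [hzy, Subgroup.lowerCentralSeries_succ]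
      have := commutator_mem_commutator (H₁ := P.lowerCentralSeries i) (H₂ := P) (inv_mem hjL) hz
      simpa [commutatorElement_def, mul_assoc] using this
    have hcC : Commute g (y⁻¹ * (g * y * g⁻¹)) := by
      refine LocalEvenB.commute_of_omega (hPp.to_le ((hCle.trans inf_le_left).trans hD)) hgC ho
        (fun w hw hws => ?_) _ hc
      exact ih (i + 1) (by omega) w (hCle hw).1 (hCle hw).2 hws
    obtain ⟨m, hm⟩ := hPp.to_le hD ⟨_, (hCle hc).1⟩
    exact LocalEvenA.comm_of_coprime_chain ho ⟨m, congrArg Subtype.val hm⟩ hcC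

/-- A Sylow subgroup controlling the fusion of small order elements gives a normal `p`-complement. -/
theorem hasNormalPComplement_of_small_fusion (P : Sylow p G)
    (h : ∀ a ∈ (P : Subgroup G), Small p a → ∀ g : G, g * a * g⁻¹ ∈ (P : Subgroup G) →
      ∃ x ∈ (P : Subgroup G), g * a * g⁻¹ = x * a * x⁻¹) :
    Cfsg.HasNormalPComplement p G := by
  refine Transfer.hasNormalPComplement_of_frobenius fun D hD g hg ho => ?_
  obtain ⟨R, hR⟩ := hD.exists_le_sylow
  obtain ⟨t, ht⟩ := MulAction.exists_smul_eq G R P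
  let c : G ≃* G := MulAut.conj t
  have hDP : D.map c.toMonoidHom ≤ (P : Subgroup G) := by
    rw [← ht, Sylow.coe_subgroup_smul]
    exact map_mono hR
  have hg' : c g ∈ normalizer ((D.map c.toMonoidHom : Subgroup G) : Set G) :=
    Subgroup.le_normalizer_map _ (mem_map_of_mem c.toMonoidHom hg)
  have hcomm := commute_of_small_fusion P.2 h hDP hg' (by rw [MulEquiv.orderOf_eq]; exact ho)
  intro y hy
  have := (hcomm (c y) (mem_map_of_mem c.toMonoidHom hy)).map (c.symm : G ≃* G).toMonoidHom
  simpa using this.symm.eq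

/-- If the small order elements lie in a term of the upper central series, there is a normal
`p`-complement. -/
theorem hasNormalPComplement_of_small_mem_upperCentralSeries (n : ℕ)
    (h : ∀ a : G, Small p a → a ∈ Subgroup.upperCentralSeries G n) :
    Cfsg.HasNormalPComplement p G := by
  refine Transfer.hasNormalPComplement_of_frobenius fun D hD g hg ho => ?_
  suffices H : ∀ i, ∀ y ∈ D, y ∈ Subgroup.upperCentralSeries G i → Small p y → Commute g y by
    intro y hy
    exact (LocalEvenB.commute_of_omega hD hg ho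
      (fun w hw hws => H n w hw (h w hws) hws) y hy).symm.eq
  intro i
  induction i with
  | zero =>
    intro y _ hyi _
    rw [Subgroup.upperCentralSeries_zero, mem_bot] at hyi
    rw [hyi]; exact Commute.one_right g
  | succ i ih =>
    intro y hy hyi hs
    have hCn : g ∈ normalizer ((D ⊓ Subgroup.upperCentralSeries G i : Subgroup G) : Set G) := by
      refine mem_normalizer_iff.mpr fun c => ?_
      exact and_congr (mem_normalizer_iff.mp hg c)
        (mem_normalizer_iff.mp (by rw [normalizer_eq_top]; exact mem_top g) c)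
    have hgy : g * y * g⁻¹ ∈ D := (mem_normalizer_iff.mp hg y).mp hy
    have hc : y⁻¹ * (g * y * g⁻¹) ∈ D ⊓ Subgroup.upperCentralSeries G i := by
      refine Subgroup.mem_inf.mpr ⟨mul_mem (inv_mem hy) hgy, ?_⟩
      have := Subgroup.mem_upperCentralSeries_succ_iff.mp (inv_mem hyi) g
      simpa [commutatorElement_def, mul_assoc] using this
    have hcC : Commute g (y⁻¹ * (g * y * g⁻¹)) :=
      LocalEvenB.commute_of_omega (hD.to_le inf_le_left) hCn ho
        (fun w hw hws => ih w hw.1 hw.2 hws) _ hc
    obtain ⟨m, hm⟩ := hD ⟨_, hc.1⟩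
    exact LocalEvenA.comm_of_coprime_chain ho ⟨m, congrArg Subtype.val hm⟩ hcC

end Cfsg.Agent.Tech
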