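import Cfsg.Agent.Lib.Tech.StrongEmbLocal
import Cfsg.Agent.Lib.ConjFunctor.Socle

/-!
# A strong form of Alperin's fusion theorem
-/

set_option autoImplicit false
set_option linter.style.haveILetI false
set_option linter.unusedSectionVars false
set_option linter.unusedVariables false

namespace Cfsg.Agent.Tech

open Subgroup Cfsg
open Cfsg.Agent.ConjFunctor (cj IsSylIn nS IsFN)

variable {G : Type*} [Group G] [Finite G] {p : ℕ} [hp : Fact p.Prime]

/-- The conditions on one factor in the strong fusion theorem. -/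
def SAGood (P : Sylow p G) (H X : Subgroup G) (x : G) : Prop :=
  H ≤ (P : Subgroup G) ∧
  ¬ p ∣ ((P : Subgroup G) ⊓ normalizer (H : Set G)).relIndex (normalizer (H : Set G)) ∧
  (P : Subgroup G) ⊓ centralizer (H : Set G) ≤ H ∧
  (pPrimePCore p ↥(normalizer (H : Set G))).map (normalizer (H : Set G)).subtype =
    H ⊔ centralizer (H : Set G) ∧
  ¬ IsSylowChainConnected p (↥(normalizer (H : Set G)) ⧸ H.subgroupOf (normalizer (H : Set G))) ∧
  (H ≤ X ∧ X ≤ normalizer (H : Set G) ∧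
    (X.subgroupOf (normalizer (H : Set G))).Normal ∧ p ∣ H.relIndex X ∧
    ∀ Y : Subgroup G, H ≤ Y → Y ≤ normalizer (H : Set G) →
      (Y.subgroupOf (normalizer (H : Set G))).Normal → p ∣ H.relIndex Y → X ≤ Y) ∧
  x ∈ (pResidual p ↥X).map X.subtype

theorem sylowChainConnected_iff_of_equiv {X Y : Type*} [Group X] [Finite X] [Group Y] [Finite Y]
    (e : X ≃* Y) (h : ¬ IsSylowChainConnected p X) : ¬ IsSylowChainConnected p Y := by
  obtain ⟨H, hH, hdvd, hse⟩ := (Cfsg.Agent.S3056.result p).mp h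
  refine (Cfsg.Agent.S3056.result p).mpr ⟨H.map e.toMonoidHom, fun h1 => hH ?_, ?_, fun g hg hd => ?_⟩
  · refine map_injective (f := e.toMonoidHom) e.injective ?_
    rw [h1, ← MonoidHom.range_eq_map]
    exact (MonoidHom.range_eq_top.mpr e.surjective).symm
  · rwa [card_map_of_injective e.injective]
  · obtain ⟨g, rfl⟩ := e.surjective g
    refine hse g (fun h1 => hg (mem_map_of_mem _ h1)) ?_
    have h1 : (H ⊓ H.map (MulAut.conj g).toMonoidHom).map e.toMonoidHom =
        H.map e.toMonoidHom ⊓ (H.map e.toMonoidHom).map (MulAut.conj (e g)).toMonoidHom := by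
      rw [map_inf _ _ _ e.injective, map_map, map_map]
      congr 2
      ext a
      simp
    rw [← card_map_of_injective (f := e.toMonoidHom) e.injective, h1]
    exact hd

theorem cj_centralizer (g : G) (H : Subgroup G) :
    cj g (centralizer (H : Set G)) = centralizer ((cj g H : Subgroup G) : Set G) := by
  ext x
  rw [ConjFunctor.mem_cj, mem_centralizer_iff, mem_centralizer_iff]
  constructor
  · rintro h _ ⟨w, hw, rfl⟩
    have h1 := h w hw
    show g * w * g⁻¹ * x = x * (g * w * g⁻¹)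
    calc g * w * g⁻¹ * x = g * (w * (g⁻¹ * x * g)) * g⁻¹ := by group
      _ = x * (g * w * g⁻¹) := by rw [h1]; group
  · intro h w hw
    have h1 : g * w * g⁻¹ * x = x * (g * w * g⁻¹) := h _ (ConjFunctor.conj_mem_cj hw)
    calc w * (g⁻¹ * x * g) = g⁻¹ * (g * w * g⁻¹ * x) * g := by group
      _ = g⁻¹ * x * g * w := by rw [h1]; group

theorem SAGood.conj {P : Sylow p G} {H X : Subgroup G} {x y : G}
    (hy : y ∈ normalizer ((P : Subgroup G) : Set G)) (h : SAGood P H X x) :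
    SAGood P (cj y H) (cj y X) (y * x * y⁻¹) := by
  obtain ⟨h1, h2, h3, h4, h5, ⟨h6, h7, h8, h9, h10⟩, h11⟩ := h
  have hP : cj y (P : Subgroup G) = (P : Subgroup G) := ConjFunctor.cj_eq_iff.mpr hy
  set N := normalizer (H : Set G) with hN
  have hN' : normalizer ((cj y H : Subgroup G) : Set G) = cj y N := (ConjFunctor.cj_normalizer y H).symm
  let e : ↥N ≃* ↥(normalizer ((cj y H : Subgroup G) : Set G)) :=
    (N.equivMapOfInjective (MulAut.conj y).toMonoidHom (MulAut.conj y).injective).trans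
      (MulEquiv.subgroupCongr hN'.symm)
  have he : ∀ w : ↥N, (e w : G) = y * w * y⁻¹ := fun w => rfl
  refine ⟨(ConjFunctor.cj_le_cj.mpr h1).trans hP.le, ?_, ?_, ?_, ?_, ⟨ConjFunctor.cj_le_cj.mpr h6, ?_, ?_, ?_, ?_⟩, ?_⟩
  · rw [hN', show (P : Subgroup G) ⊓ cj y N = cj y ((P : Subgroup G) ⊓ N) by rw [ConjFunctor.cj_inf, hP],
      ConjFunctor.cj_relIndex]
    exact h2
  · rw [← cj_centralizer, ← hP, ← ConjFunctor.cj_inf]
    exact ConjFunctor.cj_le_cj.mpr h3
  · rw [← map_pPrimePCore_equiv e, map_map, ← cj_centralizer]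
    show _ = H.map _ ⊔ (centralizer (H : Set G)).map _
    rw [← Subgroup.map_sup, ← h4, map_map]
    congr 1
  · have he2 : (H.subgroupOf N).map e.toMonoidHom =
        (cj y H).subgroupOf (normalizer ((cj y H : Subgroup G) : Set G)) := by
      ext w
      constructor
      · rintro ⟨v, hv, rfl⟩
        exact ⟨v, hv, (he v).symm⟩
      · rintro ⟨v, hv, hvw⟩
        refine ⟨⟨v, le_normalizer hv⟩, hv, Subtype.ext ?_⟩
        exact (he _).trans hvw
    exact sylowChainConnected_iff_of_equiv (QuotientGroup.congr _ _ e he2) h5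
  · rw [hN']; exact ConjFunctor.cj_le_cj.mpr h7
  · have h7' : cj y X ≤ normalizer ((cj y H : Subgroup G) : Set G) := by
      rw [hN']; exact ConjFunctor.cj_le_cj.mpr h7
    rw [normal_subgroupOf_iff_le_normalizer h7', hN', ← ConjFunctor.cj_normalizer]
    exact ConjFunctor.cj_le_cj.mpr ((normal_subgroupOf_iff_le_normalizer h7).mp h8)
  · rwa [ConjFunctor.cj_relIndex]
  · intro Y hY1 hY2 hY3 hY4
    have hY1' : H ≤ cj y⁻¹ Y := by
      rw [← ConjFunctor.cj_inv_cj y H]; exact ConjFunctor.cj_le_cj.mpr hY1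
    have hY2' : cj y⁻¹ Y ≤ N := by
      rw [← ConjFunctor.cj_inv_cj y N, ← hN']; exact ConjFunctor.cj_le_cj.mpr hY2
    rw [← ConjFunctor.cj_cj_inv y Y]
    refine ConjFunctor.cj_le_cj.mpr (h10 _ hY1' hY2' ?_ ?_)
    · rw [normal_subgroupOf_iff_le_normalizer hY2', ← ConjFunctor.cj_inv_cj y N, ← hN',
        ← ConjFunctor.cj_normalizer y⁻¹ Y]
      exact ConjFunctor.cj_le_cj.mpr ((normal_subgroupOf_iff_le_normalizer hY2).mp hY3)
    · rwa [← ConjFunctor.cj_relIndex y, ConjFunctor.cj_cj_inv]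
  · obtain ⟨v, hv, rfl⟩ := h11
    let f := X.equivMapOfInjective (MulAut.conj y).toMonoidHom (MulAut.conj y).injective
    exact ⟨f v, (LocalEvenA.pResidual_map_iso f).le (mem_map_of_mem _ hv), rfl⟩

/-- A sequence of factors. -/
def SAChain (P : Sylow p G) : Set G → List (Subgroup G × Subgroup G × G) → Prop
  | _, [] => True
  | A, s :: l => (SAGood P s.1 s.2.1 s.2.2 ∧ A ⊆ (s.1 : Set G)) ∧
      SAChain P ((fun a => s.2.2⁻¹ * a * s.2.2) '' A) l

/-- The product of the factors. -/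
abbrev saProd (l : List (Subgroup G × Subgroup G × G)) : G := (l.map fun s => s.2.2).prod

/-- `g` has a decomposition at `A`. -/
def SAReal (P : Sylow p G) (A : Set G) (g : G) : Prop :=
  ∃ (l : List (Subgroup G × Subgroup G × G)) (c y : G), c ∈ centralizer A ∧
    y ∈ normalizer ((P : Subgroup G) : Set G) ∧ g = c * saProd l * y ∧ SAChain P A l

theorem SAChain.mono (P : Sylow p G) : ∀ (l : List (Subgroup G × Subgroup G × G)) {A B : Set G},
    A ⊆ B → SAChain P B l → SAChain P A l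
  | [], _, _, _, _ => trivial
  | _ :: l, _, _, hAB, h =>
    ⟨⟨h.1.1, hAB.trans h.1.2⟩, SAChain.mono P l (Set.image_mono hAB) h.2⟩

theorem SAChain.append (P : Sylow p G) : ∀ (l l' : List (Subgroup G × Subgroup G × G)) {A : Set G},
    SAChain P A l →
    SAChain P ((fun a => (saProd l)⁻¹ * a * saProd l) '' A) l' →
    SAChain P A (l ++ l')
  | [], l', A, _, h => by simpa [saProd] using h
  | s :: l, l', A, h, h' =>
    ⟨h.1, SAChain.append P l l' h.2 (by simpa [saProd, Set.image_image, mul_assoc] using h')⟩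

theorem SAChain.spec (P : Sylow p G) : ∀ (l : List (Subgroup G × Subgroup G × G)) {A : Set G},
    SAChain P A l → ∀ (i : ℕ) (hi : i < l.length), SAGood P l[i].1 l[i].2.1 l[i].2.2 ∧
      (fun a => (((l.map fun s => s.2.2).take i).prod)⁻¹ * a * ((l.map fun s => s.2.2).take i).prod) '' A ⊆
        (l[i].1 : Set G)
  | s :: l, A, h, 0, _ => by
    refine ⟨h.1.1, ?_⟩
    simpa using h.1.2
  | s :: l, A, h, i + 1, hi => by
    have := SAChain.spec P l h.2 i (by simpa using hi)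
    simpa [Set.image_image, mul_assoc] using this

theorem SAChain.conj (P : Sylow p G) {y : G} (hy : y ∈ normalizer ((P : Subgroup G) : Set G)) :
    ∀ (l : List (Subgroup G × Subgroup G × G)) {A : Set G}, SAChain P A l →
      SAChain P ((fun a => y * a * y⁻¹) '' A) (l.map fun s => (cj y s.1, cj y s.2.1, y * s.2.2 * y⁻¹))
  | [], _, _ => trivial
  | s :: l, A, h => by
    refine ⟨⟨h.1.1.conj hy, ?_⟩, ?_⟩
    · rintro _ ⟨a, ha, rfl⟩
      exact ConjFunctor.conj_mem_cj (h.1.2 ha)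
    · have := SAChain.conj P hy l h.2
      simpa [Set.image_image, mul_assoc] using this

theorem saProd_append (a b : List (Subgroup G × Subgroup G × G)) :
    saProd (a ++ b) = saProd a * saProd b := by simp [saProd]

theorem saProd_conj (y : G) : ∀ l : List (Subgroup G × Subgroup G × G),
    saProd (l.map fun s => (cj y s.1, cj y s.2.1, y * s.2.2 * y⁻¹)) = y * saProd l * y⁻¹
  | [] => by simp [saProd]
  | s :: l => by
    have := saProd_conj y l
    simp only [saProd, List.map_cons, List.prod_cons] at this ⊢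
    rw [this]; group

theorem SAReal.mono {P : Sylow p G} {A B : Set G} {g : G} (hAB : A ⊆ B) (h : SAReal P B g) :
    SAReal P A g := by
  obtain ⟨l, c, y, hc, hy, hg, hl⟩ := h
  exact ⟨l, c, y, centralizer_le hAB hc, hy, hg, SAChain.mono P l hAB hl⟩

theorem SAReal.mul {P : Sylow p G} {A : Set G} {g₁ g₂ : G} (h₁ : SAReal P A g₁)
    (h₂ : SAReal P ((fun a => g₁⁻¹ * a * g₁) '' A) g₂) : SAReal P A (g₁ * g₂) := by
  obtain ⟨l₁, c₁, y₁, hc₁, hy₁, rfl, hl₁⟩ := h₁
  obtain ⟨l₂, c₂, y₂, hc₂, hy₂, rfl, hl₂⟩ := h₂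
  set w := saProd l₁ with hw
  have hcomm : ∀ a ∈ A, c₁⁻¹ * a * c₁ = a := fun a ha => by
    rw [mul_assoc, mem_centralizer_iff.mp hc₁ a ha, inv_mul_cancel_left]
  refine ⟨l₁ ++ l₂.map (fun s => (cj y₁ s.1, cj y₁ s.2.1, y₁ * s.2.2 * y₁⁻¹)),
    c₁ * (w * y₁ * c₂ * y₁⁻¹ * w⁻¹), y₁ * y₂, mul_mem hc₁ (mem_centralizer_iff.mpr fun a ha => ?_),
    mul_mem hy₁ hy₂, ?_, ?_⟩
  · have h1 : (c₁ * w * y₁)⁻¹ * a * (c₁ * w * y₁) * c₂ = c₂ * ((c₁ * w * y₁)⁻¹ * a * (c₁ * w * y₁)) :=
      mem_centralizer_iff.mp hc₂ _ ⟨a, ha, rfl⟩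
    rw [show (c₁ * w * y₁)⁻¹ * a * (c₁ * w * y₁) = y₁⁻¹ * w⁻¹ * (c₁⁻¹ * a * c₁) * w * y₁ by group,
      hcomm a ha] at h1
    calc a * (w * y₁ * c₂ * y₁⁻¹ * w⁻¹)
        = w * y₁ * (y₁⁻¹ * w⁻¹ * a * w * y₁ * c₂) * y₁⁻¹ * w⁻¹ := by group
      _ = w * y₁ * c₂ * y₁⁻¹ * w⁻¹ * a := by rw [h1]; group
  · rw [saProd_append, saProd_conj, ← hw]
    group
  · refine SAChain.append P _ _ hl₁ (SAChain.mono P _ ?_ (SAChain.conj P hy₁ l₂ hl₂))
    rintro _ ⟨a, ha, rfl⟩
    refine ⟨_, ⟨a, ha, rfl⟩, ?_⟩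
    show y₁ * ((c₁ * w * y₁)⁻¹ * a * (c₁ * w * y₁)) * y₁⁻¹ = w⁻¹ * a * w
    rw [show y₁ * ((c₁ * w * y₁)⁻¹ * a * (c₁ * w * y₁)) * y₁⁻¹ = w⁻¹ * (c₁⁻¹ * a * c₁) * w by group,
      hcomm a ha]

theorem SAReal.of_centralizer (P : Sylow p G) {A : Set G} {g : G} (hg : g ∈ centralizer A) :
    SAReal P A g := ⟨[], g, 1, hg, one_mem _, by simp [saProd], trivial⟩

theorem SAReal.of_normalizer (P : Sylow p G) {A : Set G} {g : G}
    (hg : g ∈ normalizer ((P : Subgroup G) : Set G)) : SAReal P A g :=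
  ⟨[], 1, g, one_mem _, hg, by simp [saProd], trivial⟩

theorem SAReal.of_good {P : Sylow p G} {A : Set G} {H X : Subgroup G} {x : G}
    (h : SAGood P H X x) (hA : A ⊆ (H : Set G)) : SAReal P A x :=
  ⟨[(H, X, x)], 1, 1, one_mem _, one_mem _, by simp [saProd], ⟨h, hA⟩, trivial⟩

theorem cj_inv_eq_image (g : G) (T : Subgroup G) :
    ((cj g⁻¹ T : Subgroup G) : Set G) = (fun a => g⁻¹ * a * g) '' (T : Set G) := by
  ext x
  constructor
  · rintro ⟨a, ha, rfl⟩
    exact ⟨a, ha, by simp⟩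
  · rintro ⟨a, ha, rfl⟩
    exact ⟨a, ha, by simp⟩

/-- The normalizer case. -/
theorem saReal_normalizer (P : Sylow p G) {U : Subgroup G} (hUne : U ≠ ⊥)
    (hfn : IsFN p (P : Subgroup G) U) (hUP : U ≠ (P : Subgroup G))
    (ih : ∀ (R : Subgroup G) (g : G), U < R → R ≤ (P : Subgroup G) → cj g⁻¹ R ≤ (P : Subgroup G) →
      SAReal P (R : Set G) g) :
    ∀ n ∈ normalizer (U : Set G), SAReal P (U : Set G) n := by
  set N := normalizer (U : Set G) with hN
  set C := centralizer (U : Set G) with hC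
  have hUle : U ≤ (P : Subgroup G) := hfn.1
  have hUp : IsPGroup p U := P.2.to_le hUle
  have hSyl := hfn.sylIn P.2
  set S := nS (P : Subgroup G) U with hS
  have hUS : U < S := ConjFunctor.lt_nS P.2 hUle hUP
  have hmul : ∀ {a b : G}, a ∈ N → SAReal P (U : Set G) a → SAReal P (U : Set G) b →
      SAReal P (U : Set G) (a * b) := by
    intro a b ha h1 h2
    refine h1.mul ?_
    rw [← cj_inv_eq_image, ConjFunctor.cj_eq_iff.mpr (inv_mem ha)]
    exact h2
  let L : Subgroup G :=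
    { carrier := {n | n ∈ N ∧ SAReal P (U : Set G) n}
      one_mem' := ⟨one_mem _, SAReal.of_centralizer P (one_mem _)⟩
      mul_mem' := fun ha hb => ⟨mul_mem ha.1 hb.1, hmul ha.1 ha.2 hb.2⟩
      inv_mem' := fun {a} ha => by
        have hpow : ∀ k : ℕ, a ^ k ∈ N ∧ SAReal P (U : Set G) (a ^ k) := fun k => by
          induction k with
          | zero => rw [pow_zero]; exact ⟨one_mem _, SAReal.of_centralizer P (one_mem _)⟩
          | succ k ih => rw [pow_succ]; exact ⟨mul_mem ih.1 ha.1, hmul ih.1 ih.2 ha.2⟩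
        have hinv : a⁻¹ = a ^ (orderOf a - 1) := inv_eq_of_mul_eq_one_right (by
          rw [← pow_succ', Nat.sub_add_cancel (orderOf_pos a), pow_orderOf_eq_one])
        show a⁻¹ ∈ N ∧ SAReal P (U : Set G) a⁻¹
        rw [hinv]
        exact hpow _ }
  have hmemL : ∀ {n : G}, n ∈ L ↔ n ∈ N ∧ SAReal P (U : Set G) n := Iff.rfl
  suffices hL : L = N from fun n hn => (hmemL.mp (hL.ge hn)).2
  have hnorm : ∀ R : Subgroup G, U < R → R ≤ (P : Subgroup G) → N ⊓ normalizer (R : Set G) ≤ L := by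
    intro R hUR hR m hm
    obtain ⟨hmN, hmR⟩ := mem_inf.mp hm
    exact hmemL.mpr ⟨hmN, (ih R m hUR hR
      (by rw [ConjFunctor.cj_eq_iff.mpr (inv_mem hmR)]; exact hR)).mono hUR.le⟩
  have hCL : C ≤ L := fun c hc => hmemL.mpr ⟨centralizer_le_normalizer _ hc, SAReal.of_centralizer P hc⟩
  have hemb : IsEmbedding p U S L := ⟨hSyl, hUS.le, fun n hn => (hmemL.mp hn).1,
    fun s hs => hnorm S hUS inf_le_left (mem_inf.mpr ⟨(mem_inf.mp hs).2, le_normalizer hs⟩),
    fun R hUR hRS => hnorm R hUR (hRS.trans inf_le_left)⟩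
  by_contra hne
  -- Frattini extension through an `N`-invariant `Y ≤ C ⊔ U`-part
  have hext : ∀ {Y : Subgroup G}, Y ≤ L → N ≤ normalizer (Y : Set G) → U < U ⊔ (S ⊓ Y) → False := by
    intro Y hYL hNY hlt
    refine hne (le_antisymm hemb.le_N fun n hn => ?_)
    obtain ⟨y, hy, hyn⟩ := exists_mul_mem_normalizer
      (isSylIn_inf_of_normalized hSyl (hYL.trans hemb.le_N) hNY) (hNY hn)
    have hynN : y * n ∈ N := mul_mem (hemb.le_N (hYL hy)) hn
    have h1 : y * n ∈ L := hnorm _ hlt (sup_le hUle (inf_le_left.trans inf_le_left)) (mem_inf.mpr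
      ⟨hynN, ConjFunctor.le_normalizer_sup' (H := N ⊓ normalizer ((S ⊓ Y : Subgroup G) : Set G))
        inf_le_left inf_le_right (mem_inf.mpr ⟨hynN, hyn⟩)⟩)
    have h2 := mul_mem (inv_mem (hYL hy)) h1
    rwa [inv_mul_cancel_left] at h2
  have hCN : C ≤ N := centralizer_le_normalizer _
  have hNC : N ≤ normalizer (C : Set G) := fun n hn => ConjFunctor.cj_eq_iff.mp (by
    rw [hC, cj_centralizer, ConjFunctor.cj_eq_iff.mpr hn])
  have hCU : (P : Subgroup G) ⊓ C ≤ U := by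
    by_contra hnle
    refine hext hCL hNC (lt_of_le_of_ne le_sup_left fun e => hnle fun c hc => ?_)
    rw [e]
    exact mem_sup_right (mem_inf.mpr ⟨mem_inf.mpr ⟨(mem_inf.mp hc).1, hCN (mem_inf.mp hc).2⟩, (mem_inf.mp hc).2⟩)
  -- the local structure
  have hSC : S ⊓ C = U ⊓ C := le_antisymm
    (le_inf (fun x hx => hCU (mem_inf.mpr ⟨(mem_inf.mp (mem_inf.mp hx).1).1, (mem_inf.mp hx).2⟩)) inf_le_right)
    (inf_le_inf_right C hUS.le)
  have hCsyl : ¬ p ∣ (U ⊓ C).relIndex C := hSC ▸ (isSylIn_inf_of_normalized hSyl hCN hNC).2.2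
  let U' : Subgroup ↥N := U.subgroupOf N
  have hU'p : IsPGroup p U' := hUp.of_equiv (subgroupOfEquivOfLe le_normalizer).symm
  have hC' : centralizer (U' : Set ↥N) = C.subgroupOf N := by
    ext w
    rw [mem_centralizer_iff, mem_subgroupOf, hC, mem_centralizer_iff]
    exact ⟨fun h u hu => congrArg Subtype.val (h ⟨u, le_normalizer hu⟩ hu),
      fun h u hu => Subtype.ext (h u hu)⟩
  have hC'syl : ¬ p ∣ (U' ⊓ centralizer (U' : Set ↥N)).relIndex (centralizer (U' : Set ↥N)) := by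
    rw [hC', show U' ⊓ C.subgroupOf N = (U ⊓ C).subgroupOf N from rfl, relIndex_subgroupOf hCN]
    exact hCsyl
  obtain ⟨hUM, hCM, hMeq⟩ := pPrimePCore_eq_sup_centralizer U' hU'p hC'syl
  set M := (pPrimePCore p ↥N).map N.subtype with hM
  have hMN : M ≤ N := map_subtype_le _
  have hNM : N ≤ normalizer (M : Set G) :=
    (normal_subgroupOf_iff_le_normalizer hMN).mp (by
      rw [subgroupOf, comap_map_eq_self_of_injective N.subtype_injective]; infer_instance)
  have hUM' : U ≤ M := fun u hu => ⟨⟨u, le_normalizer hu⟩, hUM hu, rfl⟩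
  have hMU : ¬ p ∣ U.relIndex M := by
    intro hd
    have hlt : U < S ⊓ M := lt_of_le_of_ne (le_inf hUS.le hUM') fun e =>
      (isSylIn_inf_of_normalized hSyl hMN hNM).2.2 (e ▸ hd)
    -- `M = K (S ⊓ M)` with `K ≤ C`
    refine hext (Y := M) ?_ hNM ?_
    · rw [hM]
      rintro _ ⟨m, hm, rfl⟩
      have h1 := isSylIn_inf_of_normalized hSyl hMN hNM
      have hsup : (pPrimeCore p ↥N).map N.subtype ⊔ (S ⊓ M) = M := by
        refine le_antisymm (sup_le (map_mono Components.pPrimeCore_le_pPrimePCore) inf_le_right)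
          (relIndex_eq_one.mp ?_)
        obtain ⟨-, j, hj⟩ := OddLocal.le_pPrimePCore_iff_relIndex (G := ↥N) (p := p)
        refine Nat.eq_one_of_dvd_coprimes ((hp.out.coprime_iff_not_dvd.mpr h1.2.2).pow_left j) ?_
          (relIndex_dvd_of_le_left M le_sup_right)
        rw [← hj, ← relIndex_map_map_of_injective _ _ N.subtype_injective, ← hM]
        exact relIndex_dvd_of_le_left M le_sup_left
      refine (hsup ▸ sup_le ?_ (inf_le_left.trans hemb.S_le) : M ≤ L) (mem_map_of_mem _ hm)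
      rintro _ ⟨k, hk, rfl⟩
      refine hCL (mem_centralizer_iff.mpr fun u hu => ?_)
      obtain ⟨j, hj⟩ := hU'p.exists_card_eq
      exact congrArg Subtype.val (commute_of_normal_of_disjoint U' (pPrimeCore p ↥N) inferInstance
        inferInstance (disjoint_iff.mpr (inf_eq_bot_of_coprime
          (hj ▸ (Components.pPrimeCore_coprime.pow_right j).symm))) ⟨u, le_normalizer hu⟩ k hu hk).eq
    · exact hlt.trans_le le_sup_right
  have hMU' : ¬ p ∣ U'.relIndex (pPrimePCore p ↥N) := by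
    rwa [← relIndex_map_map_of_injective _ _ N.subtype_injective, subgroupOf_map_subtype,
      inf_of_le_left le_normalizer]
  have hMC : M = U ⊔ C := by
    rw [hM, hMeq hMU', Subgroup.map_sup, hC', subgroupOf_map_subtype, subgroupOf_map_subtype,
      inf_of_le_left le_normalizer, inf_of_le_left hCN]
  obtain ⟨X, hX, hleast, hXL⟩ := hemb.exists_least hUS hne
  refine hXL fun x hx => hmemL.mpr ⟨hX.2.1 (map_subtype_le _ hx), SAReal.of_good (X := X) ?_ subset_rfl⟩
  exact ⟨hUle, hfn.2, hCU, hMC, fun hcon => hne (hemb.eq_of_connected hUS hcon),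
    ⟨hX.1, hX.2.1, hX.2.2.1, hX.2.2.2, fun Y h1 h2 h3 h4 => hleast Y ⟨h1, h2, h3, h4⟩⟩, hx⟩

/-- A strong form of the Alperin-Goldschmidt fusion theorem. -/
theorem strongAlperin (P : Sylow p G) : ∀ (T : Subgroup G) (g : G), T ≠ ⊥ → T ≤ (P : Subgroup G) →
    cj g⁻¹ T ≤ (P : Subgroup G) → SAReal P (T : Set G) g := by
  suffices h : ∀ (n : ℕ) (T : Subgroup G) (g : G), Nat.card (P : Subgroup G) - Nat.card T = n → T ≠ ⊥ →
      T ≤ (P : Subgroup G) → cj g⁻¹ T ≤ (P : Subgroup G) → SAReal P (T : Set G) g from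
    fun T g => h _ T g rfl
  intro n
  induction n using Nat.strong_induction_on with
  | _ n ih =>
  intro T g hn hT hTP hgT
  by_cases hTt : T = (P : Subgroup G)
  · subst hTt
    refine SAReal.of_normalizer P (inv_mem_iff.mp (ConjFunctor.cj_eq_iff.mp ?_))
    exact eq_of_le_of_card_ge hgT (ConjFunctor.cj_card _ _).ge
  -- larger subgroups are done
  have hbig : ∀ (R : Subgroup G) (h : G), Nat.card T < Nat.card R → R ≤ (P : Subgroup G) →
      cj h⁻¹ R ≤ (P : Subgroup G) → SAReal P (R : Set G) h := by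
    intro R h hlt hR hhR
    refine ih _ ?_ R h rfl ?_ hR hhR
    · have := card_le_of_le hR
      omega
    · intro e
      rw [e, card_bot] at hlt
      have := Nat.card_pos (α := T)
      omega
  obtain ⟨a, hfn⟩ := ConjFunctor.exists_isFN P hTP
  set U := cj a T with hU
  have hUc : Nat.card U = Nat.card T := ConjFunctor.cj_card a T
  have hUt : U ≠ (P : Subgroup G) := fun e => hTt (eq_of_le_of_card_ge hTP (hUc ▸ e ▸ le_rfl))
  have hUne : U ≠ ⊥ := fun e => hT (ConjFunctor.cj_eq_bot.mp e)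
  have hN := saReal_normalizer P hUne hfn hUt fun R h hlt hR hhR =>
    hbig R h (hUc ▸ Basics.card_lt_of_lt hlt) hR hhR
  -- moving `T` to `U`
  obtain ⟨n₁, -, hk₁, hk₁'⟩ := ConjFunctor.exists_conj_nS P.2 hfn a rfl
  set k₁ := n₁ * a
  have hT1 : T < nS (P : Subgroup G) T := ConjFunctor.lt_nS P.2 hTP hTt
  have h1 : SAReal P (T : Set G) k₁⁻¹ := (hbig (nS (P : Subgroup G) T) k₁⁻¹ (Basics.card_lt_of_lt hT1)
    inf_le_left (by rw [inv_inv]; exact hk₁'.trans inf_le_left)).mono hT1.le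
  -- moving `U` to the image of `T`
  set T₂ := cj g⁻¹ T with hT₂
  have hT₂c : Nat.card T₂ = Nat.card T := ConjFunctor.cj_card _ _
  have hT₂t : T₂ ≠ (P : Subgroup G) := fun e => hTt (eq_of_le_of_card_ge hTP (hT₂c ▸ e ▸ le_rfl))
  obtain ⟨n₂, -, hk₂, hk₂'⟩ := ConjFunctor.exists_conj_nS (T := T₂) P.2 hfn (a * g) (by
    rw [ConjFunctor.cj_mul, hT₂, ConjFunctor.cj_cj_inv])
  set k₂ := n₂ * (a * g)
  have hT2 : T₂ < nS (P : Subgroup G) T₂ := ConjFunctor.lt_nS P.2 hgT hT₂t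
  have hR2 : Nat.card T < Nat.card (cj k₂ (nS (P : Subgroup G) T₂) : Subgroup G) := by
    rw [ConjFunctor.cj_card, ← hT₂c]; exact Basics.card_lt_of_lt hT2
  have h2 : SAReal P (U : Set G) k₂ := (hbig _ k₂ hR2 (hk₂'.trans inf_le_left)
    (by rw [ConjFunctor.cj_inv_cj]; exact inf_le_left)).mono (by
      rw [← hk₂]; exact ConjFunctor.cj_le_cj.mpr hT2.le)
  -- the middle factor
  set m := k₁ * g * k₂⁻¹ with hm
  have hmN : m⁻¹ ∈ normalizer (U : Set G) := by
    refine ConjFunctor.cj_eq_iff.mp ?_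
    conv_lhs => rw [← hk₁]
    rw [← ConjFunctor.cj_mul, show m⁻¹ * k₁ = k₂ * g⁻¹ by rw [hm]; group, ConjFunctor.cj_mul]
    exact hk₂
  have h3 : SAReal P (U : Set G) (m * k₂) := by
    refine (hN m (inv_mem_iff.mp hmN)).mul ?_
    rw [← cj_inv_eq_image, ConjFunctor.cj_eq_iff.mpr hmN]
    exact h2
  have h4 : SAReal P (T : Set G) (k₁⁻¹ * (m * k₂)) := by
    refine h1.mul ?_
    rw [← cj_inv_eq_image, inv_inv, hk₁]
    exact h3
  rwa [show k₁⁻¹ * (m * k₂) = g by rw [hm]; group] at h4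

end Cfsg.Agent.Tech
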