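import Cfsg.Agent.Lib.ConjFunctor.Basic
import Cfsg.Agent.Lib.Components.PPrimeCore
import Cfsg.Agent.Lib.Components.Fitting
import Cfsg.Agent.Lib.Components.PConstrained
import Cfsg.Agent.Lib.OddLocal.MaxP
import Cfsg.Agent.Lib.Components.Subnormal
import Cfsg.Agent.Lib.Transfer.Residual
import Cfsg.Agent.Lib.Basics.CoprimeGen
import Cfsg.Agent.S3056

/-!
# Local analysis for the strong form of Alperin's fusion theorem

`U` is a `p`-subgroup, `S` a Sylow `p`-subgroup of `N(U)` above `U`, and `L` a subgroup of `N(U)`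
containing `S` and `N_{N(U)}(R)` for all `U < R ≤ S`.
-/

set_option autoImplicit false
set_option linter.style.haveILetI false
set_option linter.unusedSectionVars false
set_option linter.unusedVariables false

namespace Cfsg.Agent.Tech

open Subgroup Cfsg
open scoped Pointwise
open Cfsg.Agent.ConjFunctor (cj IsSylIn nS)

variable {G : Type*} [Group G] [Finite G] {p : ℕ} [hp : Fact p.Prime]

theorem mem_pPrimePCore_equiv {X Y : Type*} [Group X] [Finite X] [Group Y] [Finite Y] (f : X ≃* Y)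
    {a : X} (ha : a ∈ pPrimePCore p X) : f a ∈ pPrimePCore p Y := by
  let f' := QuotientGroup.congr (pPrimeCore p X) (pPrimeCore p Y) f (Components.map_pPrimeCore_equiv f)
  have h1 : f' (QuotientGroup.mk' _ a) ∈ (pCore p (X ⧸ pPrimeCore p X)).map f'.toMonoidHom :=
    mem_map_of_mem _ (show QuotientGroup.mk' _ a ∈ pCore p (X ⧸ pPrimeCore p X) from ha)
  rw [Components.map_pCore_equiv f'] at h1
  exact h1

theorem map_pPrimePCore_equiv {X Y : Type*} [Group X] [Finite X] [Group Y] [Finite Y] (e : X ≃* Y) :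
    (pPrimePCore p X).map e.toMonoidHom = pPrimePCore p Y :=
  le_antisymm (map_le_iff_le_comap.mpr fun _ ha => mem_pPrimePCore_equiv e ha) fun b hb =>
    ⟨e.symm b, mem_pPrimePCore_equiv e.symm hb, e.apply_symm_apply b⟩

/-- In a group with a normal `p`-subgroup `U` containing a Sylow subgroup of its centralizer,
`C(U) ≤ U O_{p'}`; and `O_{p',p} = U C(U)` as soon as `U` is Sylow in `O_{p',p}`. -/
theorem pPrimePCore_eq_sup_centralizer {X : Type*} [Group X] [Finite X] (U : Subgroup X) [U.Normal]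
    (hU : IsPGroup p U) (hC : ¬ p ∣ (U ⊓ centralizer (U : Set X)).relIndex (centralizer (U : Set X))) :
    U ≤ pPrimePCore p X ∧ centralizer (U : Set X) ≤ pPrimePCore p X ∧
      (¬ p ∣ U.relIndex (pPrimePCore p X) →
        pPrimePCore p X = U ⊔ centralizer (U : Set X)) := by
  set C := centralizer (U : Set X) with hCdef
  set K := pPrimeCore p X with hKdef
  set M := pPrimePCore p X with hMdef
  have hKM : K ≤ M := Components.pPrimeCore_le_pPrimePCore
  have hUM : U ≤ M := fun u hu =>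
    (Components.le_pCore (Normal.map inferInstance _ (QuotientGroup.mk'_surjective K))
      (hU.map (QuotientGroup.mk' K))) ⟨u, hu, rfl⟩
  obtain ⟨k, hk⟩ := hU.exists_card_eq
  have hKC : K ≤ C := fun x hx => mem_centralizer_iff.mpr fun u hu =>
    (commute_of_normal_of_disjoint U K inferInstance inferInstance
      (disjoint_iff.mpr (inf_eq_bot_of_coprime (hk ▸ (Components.pPrimeCore_coprime.pow_right k).symm)))
      u x hu hx).eq
  let Z : Subgroup ↥C := (U ⊓ C).subgroupOf C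
  have hcent : ∀ z ∈ Z, ∀ b : ↥C, z * b = b * z := fun z hz b =>
    Subtype.ext (mem_centralizer_iff.mp b.2 z (mem_inf.mp (mem_subgroupOf.mp hz)).1)
  haveI : Z.Normal := ⟨fun z hz b => by rwa [← hcent z hz b, mul_inv_cancel_right]⟩
  have hZp : IsPGroup p Z :=
    (hU.to_le inf_le_left).of_equiv (subgroupOfEquivOfLe inf_le_right).symm
  have hidx : Z.index.Coprime p := ((hp.out.coprime_iff_not_dvd).mpr hC).symm
  obtain ⟨j, hj⟩ := hZp.exists_card_eq
  obtain ⟨L, hL⟩ := exists_right_complement'_of_coprime (N := Z) (hj ▸ (hidx.pow_right j).symm)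
  haveI : L.Normal := ⟨fun l hl b => by
    have hb : b ∈ ((Z : Set ↥C) * (L : Set ↥C)) := by
      rw [hL.mul_eq]; trivial
    obtain ⟨z, hz, l', hl', rfl⟩ := Set.mem_mul.mp hb
    have h2 : z * l' * l * (z * l')⁻¹ = z * (l' * l * l'⁻¹) * z⁻¹ := by group
    rw [h2, hcent z hz, mul_inv_cancel_right]
    exact mul_mem (mul_mem hl' hl) (inv_mem hl')⟩
  have hLK : L.map C.subtype ≤ K := by
    refine (map_mono (Components.le_pPrimeCore inferInstance (hL.symm.index_eq_card ▸ hidx))).trans ?_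
    rw [Components.map_subtype_pPrimeCore_of_subnormal (Components.isSubnormal_of_normal C)]
    exact inf_le_left
  have hCle : C ≤ U ⊔ K := fun c hc => by
    have hb : (⟨c, hc⟩ : ↥C) ∈ ((Z : Set ↥C) * (L : Set ↥C)) := by
      rw [hL.mul_eq]; trivial
    obtain ⟨z, hz, l, hl, e⟩ := Set.mem_mul.mp hb
    rw [show c = (z : X) * (l : X) from (congrArg Subtype.val e).symm]
    exact mul_mem_sup (mem_inf.mp (mem_subgroupOf.mp hz)).1 (hLK ⟨l, hl, rfl⟩)
  refine ⟨hUM, hCle.trans (sup_le hUM hKM), fun hUS => ?_⟩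
  refine le_antisymm ?_ (sup_le hUM (hCle.trans (sup_le hUM hKM)))
  refine le_trans ?_ (sup_le_sup_left hKC U)
  obtain ⟨-, n, hn⟩ := OddLocal.le_pPrimePCore_iff_relIndex (G := X) (p := p)
  refine relIndex_eq_one.mp ?_
  exact Nat.eq_one_of_dvd_coprimes ((hp.out.coprime_iff_not_dvd.mpr hUS).pow_left n)
    (hn ▸ relIndex_dvd_of_le_left M le_sup_right) (relIndex_dvd_of_le_left M le_sup_left)

/-- Frattini: if `n` normalizes `Y` and `T` is a Sylow subgroup of `Y`, some `y * n` normalizes `T`. -/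
theorem exists_mul_mem_normalizer {Y T : Subgroup G} (hT : IsSylIn p T Y) {n : G}
    (hn : n ∈ normalizer (Y : Set G)) : ∃ y ∈ Y, y * n ∈ normalizer (T : Set G) := by
  have h2 := ConjFunctor.isSylIn_map hT n
  rw [ConjFunctor.cj_eq_iff.mpr hn] at h2
  obtain ⟨y, hy, hye⟩ := ConjFunctor.isSylIn_conj hT h2
  exact ⟨y, hy, ConjFunctor.cj_eq_iff.mp (by rw [ConjFunctor.cj_mul]; exact hye)⟩

/-- A Sylow subgroup of `H` meets a subgroup normalized by `H` in a Sylow subgroup. -/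
theorem isSylIn_inf_of_normalized {S H Y : Subgroup G} (hS : IsSylIn p S H) (hYH : Y ≤ H)
    (hH : H ≤ normalizer (Y : Set G)) : IsSylIn p (S ⊓ Y) Y := by
  obtain ⟨T, hT⟩ := ConjFunctor.exists_isSylIn (p := p) Y
  obtain ⟨h, hh, hle⟩ := ConjFunctor.exists_conj_le_of_isSylIn hS (hT.1.trans hYH) hT.2.1
  have h2 := ConjFunctor.isSylIn_map hT h
  rw [ConjFunctor.cj_eq_iff.mpr (hH hh)] at h2
  rw [ConjFunctor.eq_of_isSylIn_of_le h2 (le_inf hle h2.1) inf_le_right (hS.2.1.to_le inf_le_left)]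
  exact h2

/-- The hypotheses on the subgroup `L`. -/
structure IsEmbedding (p : ℕ) (U S L : Subgroup G) : Prop where
  sylow : IsSylIn p S (normalizer (U : Set G))
  le_S : U ≤ S
  le_N : L ≤ normalizer (U : Set G)
  S_le : S ≤ L
  norm_le : ∀ R : Subgroup G, U < R → R ≤ S →
    normalizer (U : Set G) ⊓ normalizer (R : Set G) ≤ L

variable {U S L : Subgroup G}

theorem IsEmbedding.mem_of_le (h : IsEmbedding p U S L) : ∀ (R : Subgroup G) (q : G), U < R → R ≤ S →
    q ∈ normalizer (U : Set G) → cj q R ≤ S → q ∈ L := by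
  suffices h' : ∀ (n : ℕ) (R : Subgroup G) (q : G), Nat.card S - Nat.card R = n → U < R → R ≤ S →
      q ∈ normalizer (U : Set G) → cj q R ≤ S → q ∈ L from fun R q => h' _ R q rfl
  intro n
  induction n using Nat.strong_induction_on with
  | _ n ih =>
  intro R q hn hUR hRS hq hqR
  by_cases hRt : R = S
  · subst hRt
    have h1 : cj q R = R := eq_of_le_of_card_ge hqR (ConjFunctor.cj_card q R).ge
    exact h.norm_le R hUR le_rfl (mem_inf.mpr ⟨hq, ConjFunctor.cj_eq_iff.mp h1⟩)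
  have hR1 : R < nS S R := ConjFunctor.lt_nS h.sylow.2.1 hRS hRt
  have hUq : U < cj q R := by
    have h1 : cj q U = U := ConjFunctor.cj_eq_iff.mpr hq
    rw [← h1]
    exact lt_of_le_of_ne (ConjFunctor.cj_le_cj.mpr hUR.le) fun e =>
      hUR.ne (map_injective (MulAut.conj q).injective e)
  have hle : cj q (nS S R) ≤ L := by
    refine le_trans ?_ (h.norm_le _ hUq hqR)
    refine le_inf ?_ ?_
    · rw [← ConjFunctor.cj_eq_iff.mpr (le_normalizer hq)]
      exact ConjFunctor.cj_le_cj.mpr (inf_le_left.trans h.sylow.1)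
    · rw [← ConjFunctor.cj_normalizer]
      exact ConjFunctor.cj_le_cj.mpr inf_le_right
  obtain ⟨m, hm, hmle⟩ := ConjFunctor.exists_conj_le_of_isSylIn
    (ConjFunctor.isSylIn_of_le h.sylow h.S_le h.le_N) hle
    (ConjFunctor.cj_isPGroup q h.sylow.2.1.to_inf_left)
  have hlt : Nat.card S - Nat.card (nS S R) < n := by
    rw [← hn]
    have h1 : Nat.card R < Nat.card (nS S R : Subgroup G) := Basics.card_lt_of_lt hR1
    have h2 : Nat.card (nS S R : Subgroup G) ≤ Nat.card S := card_le_of_le inf_le_left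
    omega
  have h3 := ih _ hlt (nS S R) (m * q) rfl (hUR.trans hR1) inf_le_left (mul_mem (h.le_N hm) hq)
    (by rw [ConjFunctor.cj_mul]; exact hmle)
  have h4 := mul_mem (inv_mem hm) h3
  rwa [inv_mul_cancel_left] at h4

theorem IsEmbedding.mem_of_embedded (h : IsEmbedding p U S L) {R : Subgroup G} {q : G}
    (hRp : IsPGroup p R) (hUR : U < R) (hRL : R ≤ L) (hq : q ∈ normalizer (U : Set G))
    (hqR : cj q R ≤ L) : q ∈ L := by
  have hSL := ConjFunctor.isSylIn_of_le h.sylow h.S_le h.le_N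
  obtain ⟨l, hl, hlR⟩ := ConjFunctor.exists_conj_le_of_isSylIn hSL hRL hRp
  obtain ⟨m, hm, hmR⟩ := ConjFunctor.exists_conj_le_of_isSylIn hSL hqR (ConjFunctor.cj_isPGroup q hRp)
  have hUl : U < cj l R := by
    rw [← ConjFunctor.cj_eq_iff.mpr (h.le_N hl)]
    exact lt_of_le_of_ne (ConjFunctor.cj_le_cj.mpr hUR.le) fun e =>
      hUR.ne (map_injective (MulAut.conj l).injective e)
  have h1 : m * q * l⁻¹ ∈ L := by
    refine h.mem_of_le (cj l R) _ hUl hlR (mul_mem (mul_mem (h.le_N hm) hq) (inv_mem (h.le_N hl))) ?_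
    rw [← ConjFunctor.cj_mul, inv_mul_cancel_right, ConjFunctor.cj_mul]
    exact hmR
  have h2 := mul_mem (mul_mem (inv_mem hm) h1) hl
  rwa [mul_assoc m q, inv_mul_cancel_left, inv_mul_cancel_right] at h2

/-- The Sylow subgroups of `N(U)/U` are chain connected only if `L = N(U)`. -/
theorem IsEmbedding.eq_of_connected (h : IsEmbedding p U S L) (hUS : U < S)
    (hcon : IsSylowChainConnected p
      (↥(normalizer (U : Set G)) ⧸ U.subgroupOf (normalizer (U : Set G)))) :
    L = normalizer (U : Set G) := by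
  by_contra hne
  set N := normalizer (U : Set G) with hN
  set π := QuotientGroup.mk' (U.subgroupOf N) with hπ
  have hUN : U ≤ N := le_normalizer
  have hback : ∀ {A : Subgroup G}, U ≤ A → ∀ w : ↥N, π w ∈ (A.subgroupOf N).map π → (w : G) ∈ A := by
    intro A hA w hw
    obtain ⟨a, ha, hae⟩ := hw
    have h1 := (QuotientGroup.mk'_eq_mk' _).mp hae
    obtain ⟨u, hu, rfl⟩ := h1
    exact mul_mem ha (hA hu)
  have hUL : U ≤ L := h.le_S.trans h.S_le
  refine (Cfsg.Agent.S3056.result p).mpr ⟨(L.subgroupOf N).map π, ?_, ?_, ?_⟩ hcon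
  · intro e
    exact hne (le_antisymm h.le_N fun x hx => hback hUL ⟨x, hx⟩ (e ▸ mem_top _))
  · obtain ⟨x, hxS, hxU⟩ := SetLike.exists_of_lt hUS
    refine dvd_trans ?_ (card_dvd_of_le (map_mono (fun w hw => h.S_le hw : S.subgroupOf N ≤ L.subgroupOf N)))
    obtain ⟨j, hj⟩ := ((h.sylow.2.1.of_equiv (subgroupOfEquivOfLe h.sylow.1).symm).map π).exists_card_eq
    rw [hj]
    refine dvd_pow_self p fun h0 => hxU ?_
    rw [h0, pow_zero] at hj
    refine hback le_rfl ⟨x, h.sylow.1 hxS⟩ ?_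
    have h1 : π ⟨x, h.sylow.1 hxS⟩ ∈ (S.subgroupOf N).map π := mem_map_of_mem _ hxS
    rw [Subgroup.card_eq_one.mp hj, mem_bot] at h1
    rw [h1]
    exact one_mem _
  · intro g hg hdvd
    obtain ⟨g, rfl⟩ := QuotientGroup.mk'_surjective (U.subgroupOf N) g
    obtain ⟨x, hx⟩ := exists_prime_orderOf_dvd_card' p hdvd
    obtain ⟨hx1, hx2⟩ := mem_inf.mp x.2
    obtain ⟨y, hy, hyx⟩ := hx1
    obtain ⟨_, ⟨z, hz, rfl⟩, hzx⟩ := hx2
    have hxne : (x : ↥N ⧸ U.subgroupOf N) ≠ 1 := fun e => by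
      rw [OneMemClass.coe_eq_one] at e
      rw [e, orderOf_one] at hx
      exact hp.out.one_lt.ne hx
    have hyU : (y : G) ∉ U := fun e => hxne (by
      rw [← hyx]; exact (QuotientGroup.eq_one_iff y).mpr e)
    let R : Subgroup G := U ⊔ zpowers (y : G)
    have hyN : zpowers (y : G) ≤ normalizer (U : Set G) := zpowers_le.mpr y.2
    have hRp : IsPGroup p R := by
      refine (h.sylow.2.1.to_le h.le_S).to_sup_of_normal_left' ?_ hyN
      have hyp : (y : G) ^ p ∈ U := by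
        have h1 : π (y ^ p) = 1 := by
          rw [map_pow, hyx, ← SubmonoidClass.coe_pow, ← hx, pow_orderOf_eq_one]
          rfl
        have h2 := (QuotientGroup.eq_one_iff (y ^ p)).mp h1
        exact h2
      obtain ⟨k, hk⟩ := (h.sylow.2.1.to_le h.le_S) ⟨_, hyp⟩
      refine IsPGroup.of_card_dvd_pow (n := k + 1) ?_
      rw [Nat.card_zpowers]
      refine orderOf_dvd_of_pow_eq_one ?_
      rw [pow_succ', pow_mul]
      exact congrArg Subtype.val hk
    have hRL : R ≤ L := sup_le hUL (zpowers_le.mpr hy)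
    have hUR : U < R := lt_of_le_of_ne le_sup_left fun e =>
      hyU (e ▸ mem_sup_right (mem_zpowers (y : G)) : (y : G) ∈ U)
    have hgy : (g : G)⁻¹ * y * g ∈ L := by
      refine hback hUL (g⁻¹ * y * g) ?_
      refine ⟨z, hz, ?_⟩
      rw [map_mul, map_mul, map_inv, hyx, ← hzx]
      show π z = (π g)⁻¹ * (π g * π z * (π g)⁻¹) * π g
      group
    have hginv : (g : G)⁻¹ ∈ L := h.mem_of_embedded hRp hUR hRL (inv_mem g.2) (by
      show cj (g : G)⁻¹ R ≤ L
      rw [map_le_iff_le_comap]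
      refine sup_le (fun u hu => hUL ?_) (zpowers_le.mpr ?_)
      · show (g : G)⁻¹ * u * (g : G)⁻¹⁻¹ ∈ U
        exact (mem_normalizer_iff.mp (inv_mem g.2) u).mp hu
      · show (g : G)⁻¹ * y * (g : G)⁻¹⁻¹ ∈ L
        rwa [inv_inv])
    exact hg (mem_map_of_mem π (show (g : G) ∈ L by simpa using inv_mem hginv))

/-- `Y` is normal in `N(U)`, contains `U`, and `p` divides `|Y : U|`. -/
def IsPOver (p : ℕ) (U Y : Subgroup G) : Prop :=
  U ≤ Y ∧ Y ≤ normalizer (U : Set G) ∧
    (Y.subgroupOf (normalizer (U : Set G))).Normal ∧ p ∣ U.relIndex Y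

theorem IsPOver.le_normalizer {Y : Subgroup G} (hY : IsPOver p U Y) :
    normalizer (U : Set G) ≤ normalizer (Y : Set G) :=
  (normal_subgroupOf_iff_le_normalizer hY.2.1).mp hY.2.2.1

theorem IsPOver.lt_inf (h : IsEmbedding p U S L) {Y : Subgroup G} (hY : IsPOver p U Y) :
    U < S ⊓ Y := by
  refine lt_of_le_of_ne (le_inf h.le_S hY.1) fun e => ?_
  have h1 := (isSylIn_inf_of_normalized h.sylow hY.2.1 hY.le_normalizer).2.2
  rw [← e] at h1
  exact h1 hY.2.2.2

/-- An `N(U)`-invariant subgroup `Y ≤ L` with `p ∣ |Y : U|` forces `L = N(U)`. -/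
theorem IsPOver.eq_of_le (h : IsEmbedding p U S L) {Y : Subgroup G} (hY : IsPOver p U Y) (hYL : Y ≤ L) :
    L = normalizer (U : Set G) := by
  refine le_antisymm h.le_N fun n hn => ?_
  obtain ⟨y, hy, hyn⟩ := exists_mul_mem_normalizer
    (isSylIn_inf_of_normalized h.sylow hY.2.1 hY.le_normalizer) (hY.le_normalizer hn)
  have h1 : y * n ∈ L := h.norm_le _ (hY.lt_inf h) inf_le_left
    (mem_inf.mpr ⟨mul_mem (hY.2.1 hy) hn, hyn⟩)
  have h2 := mul_mem (inv_mem (hYL hy)) h1
  rwa [inv_mul_cancel_left] at h2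

theorem IsPOver.inf (h : IsEmbedding p U S L) (hne : L ≠ normalizer (U : Set G)) {Y₁ Y₂ : Subgroup G}
    (h₁ : IsPOver p U Y₁) (h₂ : IsPOver p U Y₂) : IsPOver p U (Y₁ ⊓ Y₂) := by
  set N := normalizer (U : Set G) with hN
  set I := Y₁ ⊓ Y₂ with hI
  have hIN : I ≤ N := inf_le_left.trans h₁.2.1
  have hNI : N ≤ normalizer (I : Set G) :=
    (le_inf h₁.le_normalizer h₂.le_normalizer).trans inf_normalizer_le_normalizer_inf
  refine ⟨le_inf h₁.1 h₂.1, hIN, (normal_subgroupOf_iff_le_normalizer hIN).mpr hNI, ?_⟩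
  by_contra hdvd
  have hUI : IsSylIn p U I := ⟨le_inf h₁.1 h₂.1, h.sylow.2.1.to_le h.le_S, hdvd⟩
  have hSI : S ⊓ I = U := ConjFunctor.eq_of_isSylIn_of_le hUI (le_inf h.le_S hUI.1) inf_le_right
    (h.sylow.2.1.to_le inf_le_left)
  set π := QuotientGroup.mk' (U.subgroupOf N) with hπ
  have hUp : IsPGroup p U := h.sylow.2.1.to_le h.le_S
  have hpick : ∀ {Y : Subgroup G}, IsPOver p U Y → ∃ a ∈ S ⊓ Y, a ∉ U ∧ a ^ p ∈ U := by
    intro Y hY
    obtain ⟨a, ha, haU⟩ := SetLike.exists_of_lt (hY.lt_inf h)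
    obtain ⟨k, hk⟩ := (h.sylow.2.1.to_le inf_le_left : IsPGroup p ↥(S ⊓ Y)) ⟨a, ha⟩
    have hk' : a ^ p ^ k = 1 := congrArg Subtype.val hk
    classical
    have hex : ∃ j, a ^ p ^ j ∈ U := ⟨k, hk' ▸ one_mem _⟩
    obtain ⟨j, hj⟩ : ∃ j, Nat.find hex = j + 1 := ⟨Nat.find hex - 1, by
      have h1 : Nat.find hex ≠ 0 := fun e => haU (by
        have h2 := Nat.find_spec hex
        rwa [e, pow_zero, pow_one] at h2)
      omega⟩
    refine ⟨a ^ p ^ j, pow_mem ha _, Nat.find_min hex (by omega), ?_⟩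
    rw [← pow_mul, ← pow_succ, ← hj]
    exact Nat.find_spec hex
  obtain ⟨a, ha, haU, hap⟩ := hpick h₁
  obtain ⟨b, hb, hbU, hbp⟩ := hpick h₂
  have haN : a ∈ N := h₁.2.1 (mem_inf.mp ha).2
  have hbN : b ∈ N := h₂.2.1 (mem_inf.mp hb).2
  have hab : a * b * a⁻¹ * b⁻¹ ∈ U := by
    refine hSI.le (mem_inf.mpr ⟨?_, mem_inf.mpr ⟨?_, ?_⟩⟩)
    · exact mul_mem (mul_mem (mul_mem (mem_inf.mp ha).1 (mem_inf.mp hb).1) (inv_mem (mem_inf.mp ha).1))
        (inv_mem (mem_inf.mp hb).1)
    · rw [mul_assoc a b, mul_assoc a (b * a⁻¹)]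
      exact mul_mem (mem_inf.mp ha).2
        ((mem_normalizer_iff.mp (h₁.le_normalizer hbN) a⁻¹).mp (inv_mem (mem_inf.mp ha).2))
    · exact mul_mem ((mem_normalizer_iff.mp (h₂.le_normalizer haN) b).mp (mem_inf.mp hb).2)
        (inv_mem (mem_inf.mp hb).2)
  let a' : ↥N ⧸ U.subgroupOf N := π ⟨a, haN⟩
  let b' : ↥N ⧸ U.subgroupOf N := π ⟨b, hbN⟩
  have hcomm : a' * b' = b' * a' := by
    have h1 : π (⟨a, haN⟩ * ⟨b, hbN⟩ * (⟨a, haN⟩ : ↥N)⁻¹ * (⟨b, hbN⟩ : ↥N)⁻¹) = 1 :=
      (QuotientGroup.eq_one_iff _).mpr hab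
    rw [map_mul, map_mul, map_mul, map_inv, map_inv] at h1
    exact mul_inv_eq_one.mp (by rw [mul_inv_rev, ← mul_assoc]; exact h1)
  let E : Subgroup (↥N ⧸ U.subgroupOf N) := closure {a', b'}
  haveI hEc : IsMulCommutative E := isMulCommutative_closure (by
    rintro x (rfl | rfl) y (rfl | rfl)
    · rfl
    · exact hcomm
    · exact hcomm.symm
    · rfl)
  have ha'p : a' ^ p = 1 := by
    rw [← map_pow]; exact (QuotientGroup.eq_one_iff _).mpr hap
  have hb'p : b' ^ p = 1 := by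
    rw [← map_pow]; exact (QuotientGroup.eq_one_iff _).mpr hbp
  have ha'1 : a' ≠ 1 := fun e => haU ((QuotientGroup.eq_one_iff (N := U.subgroupOf N) _).mp e)
  have hb'1 : b' ≠ 1 := fun e => hbU ((QuotientGroup.eq_one_iff (N := U.subgroupOf N) _).mp e)
  have hEexp : ∀ e ∈ E, e ^ p = 1 := fun e he => by
    refine closure_induction (p := fun x _ => x ^ p = 1) ?_ (one_pow p) ?_ ?_ he
    · rintro x (rfl | rfl)
      · exact ha'p
      · exact hb'p
    · intro x y hx hy hx' hy'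
      have hxy : Commute x y := congrArg Subtype.val (mul_comm' (⟨x, hx⟩ : E) ⟨y, hy⟩)
      rw [hxy.mul_pow, hx', hy', one_mul]
    · intro x _ hx'
      rw [inv_pow, hx', inv_one]
  have hEnc : ¬ IsCyclic E := by
    intro hc
    obtain ⟨g, hg⟩ := hc.exists_generator
    have ha2 : zpowers a' = E := by
      refine eq_of_le_of_card_ge (zpowers_le.mpr (subset_closure (Set.mem_insert _ _))) ?_
      rw [← card_top (G := ↥E), ← (eq_top_iff' _).mpr hg, Nat.card_zpowers, Nat.card_zpowers,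
        orderOf_eq_prime ha'p ha'1]
      exact Nat.le_of_dvd hp.out.pos (orderOf_dvd_of_pow_eq_one (Subtype.ext (hEexp g g.2)))
    obtain ⟨i, hi⟩ := mem_zpowers_iff.mp (ha2.ge (subset_closure (Set.mem_insert_of_mem _ rfl) : b' ∈ E))
    refine hbU (hSI.le (mem_inf.mpr ⟨(mem_inf.mp hb).1, mem_inf.mpr ⟨?_, (mem_inf.mp hb).2⟩⟩))
    have h1 : π (⟨a, haN⟩ ^ i) = π ⟨b, hbN⟩ := by rw [map_zpow]; exact hi
    obtain ⟨u, hu, hub⟩ := (QuotientGroup.mk'_eq_mk' _).mp h1
    have h2 : a ^ i * (u : G) = b := congrArg Subtype.val hub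
    rw [← h2]
    exact mul_mem (zpow_mem (mem_inf.mp ha).2 i) (h₁.1 hu)
  haveI hInn : (I.subgroupOf N).Normal := (normal_subgroupOf_iff_le_normalizer hIN).mpr hNI
  let Ib : Subgroup (↥N ⧸ U.subgroupOf N) := (I.subgroupOf N).map π
  haveI : Ib.Normal := Normal.map inferInstance π (QuotientGroup.mk'_surjective _)
  have hIcard : (Nat.card Ib).Coprime p := by
    refine ((hp.out.coprime_iff_not_dvd).mpr hdvd).symm.coprime_dvd_left ?_
    have h1 := (π.comp (I.subgroupOf N).subtype).ker.card_mul_index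
    have h2 : (π.comp (I.subgroupOf N).subtype).ker.index = Nat.card Ib := by
      rw [index_ker, MonoidHom.range_comp, range_subtype]
    rw [← h2, show (π.comp (I.subgroupOf N).subtype).ker = (U.subgroupOf N).subgroupOf (I.subgroupOf N) from
      Subgroup.ext fun w => QuotientGroup.eq_one_iff (N := U.subgroupOf N) (w : ↥N)]
    exact dvd_of_eq (relIndex_subgroupOf hIN)
  have hEp : IsPGroup p E := fun e => ⟨1, Subtype.ext (by rw [SubmonoidClass.coe_pow, pow_one]; exact hEexp e e.2)⟩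
  obtain ⟨i, hi⟩ := hEp.exists_card_eq
  have hgen := Basics.iSup_inf_centralizer_eq E Ib hEnc (by rw [normalizer_eq_top]; exact le_top)
    (hi ▸ (hIcard.pow_right i).symm)
  have hES : E ≤ (S.subgroupOf N).map π := (closure_le _).mpr (by
    rintro x (rfl | rfl)
    · exact mem_map_of_mem π (show a ∈ S from (mem_inf.mp ha).1)
    · exact mem_map_of_mem π (show b ∈ S from (mem_inf.mp hb).1))
  have hUL : U ≤ L := h.le_S.trans h.S_le
  have hIbL : Ib ≤ (L.subgroupOf N).map π := by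
    rw [← hgen]
    refine iSup₂_le fun e ⟨he, he1⟩ x hx => ?_
    obtain ⟨⟨w, hw, rfl⟩, hwc⟩ := mem_inf.mp hx
    obtain ⟨s, hs, rfl⟩ := hES he
    refine mem_map_of_mem π ?_
    show (w : G) ∈ L
    let R : Subgroup G := U ⊔ zpowers (s : G)
    have hUR : U < R := lt_of_le_of_ne le_sup_left fun e =>
      he1 ((QuotientGroup.eq_one_iff _).mpr (e ▸ mem_sup_right (mem_zpowers (s : G)) : (s : G) ∈ U))
    refine h.norm_le R hUR (sup_le h.le_S (zpowers_le.mpr hs)) (mem_inf.mpr ⟨w.2, ?_⟩)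
    refine ConjFunctor.cj_eq_iff.mp (eq_of_le_of_card_ge ?_ (ConjFunctor.cj_card (w : G) R).ge)
    rw [map_le_iff_le_comap]
    refine sup_le (fun u hu => mem_sup_left ((mem_normalizer_iff.mp w.2 u).mp hu)) (zpowers_le.mpr ?_)
    show (w : G) * s * (w : G)⁻¹ ∈ R
    have h1 : π (w * s * w⁻¹) = π s := by
      rw [map_mul, map_mul, map_inv, mem_centralizer_singleton_iff.mp hwc, mul_inv_cancel_right]
    obtain ⟨u, hu, hue⟩ := (QuotientGroup.mk'_eq_mk' _).mp h1.symm
    have h2 : (s : G) * u = w * s * (w : G)⁻¹ := congrArg Subtype.val hue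
    rw [← h2]
    exact mul_mem (mem_sup_right (mem_zpowers _)) (mem_sup_left hu)
  have hIL : I ≤ L := fun x hx => by
    obtain ⟨l, hl, hle⟩ := hIbL (mem_map_of_mem π (show (⟨x, hIN hx⟩ : ↥N) ∈ I.subgroupOf N from hx))
    obtain ⟨u, hu, hue⟩ := (QuotientGroup.mk'_eq_mk' _).mp hle
    have h1 : ((l : G) * (u : G)) = x := congrArg Subtype.val hue
    rw [← h1]
    exact mul_mem hl (hUL hu)
  refine hne (h₂.eq_of_le h fun y hy => ?_)
  refine h.mem_of_embedded (h.sylow.2.1.to_le inf_le_left) (h₁.lt_inf h) (inf_le_left.trans h.S_le)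
    (h₂.2.1 hy) ?_
  rintro _ ⟨s, hs, rfl⟩
  obtain ⟨hsS, hs1⟩ := mem_inf.mp hs
  show y * s * y⁻¹ ∈ L
  have h1 : y * s * y⁻¹ * s⁻¹ ∈ I := mem_inf.mpr
    ⟨mul_mem ((mem_normalizer_iff.mp (h₁.le_normalizer (h₂.2.1 hy)) s).mp hs1) (inv_mem hs1),
      by
        rw [mul_assoc y s, mul_assoc y]
        exact mul_mem hy ((mem_normalizer_iff.mp (h₂.le_normalizer (h.sylow.1 hsS)) y⁻¹).mp (inv_mem hy))⟩
  have h2 := mul_mem (hIL h1) (h.S_le hsS)
  rwa [inv_mul_cancel_right] at h2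

/-- If `L ≠ N(U)` there is a least `X` over `U`, and it is not inside `L`; moreover neither is
`O^p(X)`. -/
theorem IsEmbedding.exists_least (h : IsEmbedding p U S L) (hUS : U < S)
    (hne : L ≠ normalizer (U : Set G)) :
    ∃ X : Subgroup G, IsPOver p U X ∧ (∀ Y, IsPOver p U Y → X ≤ Y) ∧
      ¬ (pResidual p ↥X).map X.subtype ≤ L := by
  have htop : IsPOver p U (normalizer (U : Set G)) := by
    refine ⟨Subgroup.le_normalizer, le_rfl, by rw [subgroupOf_self]; infer_instance, ?_⟩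
    obtain ⟨j, hj⟩ := h.sylow.2.1.index (U.subgroupOf S)
    refine dvd_trans ?_ (relIndex_dvd_of_le_left _ (le_refl U))
    rw [← relIndex_mul_relIndex U S _ h.le_S h.sylow.1]
    refine dvd_mul_of_dvd_left ?_ _
    rw [relIndex, hj]
    refine dvd_pow_self p fun h0 => hUS.ne (le_antisymm h.le_S ?_)
    rw [h0, pow_zero, index_eq_one, subgroupOf_eq_top] at hj
    exact hj
  obtain ⟨X, hX, hmin⟩ := Set.Finite.exists_minimal (s := {Y : Subgroup G | IsPOver p U Y})
    (Set.toFinite _) ⟨_, htop⟩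
  refine ⟨X, hX, fun Y hY => (hmin (hX.inf h hne hY) inf_le_left).trans inf_le_right, fun hle => ?_⟩
  refine hne (hX.eq_of_le h ?_)
  set O := (pResidual p ↥X).map X.subtype with hO
  have hsup : O ⊔ (S ⊓ X) = X := by
    refine le_antisymm (sup_le (map_subtype_le _) inf_le_right) (relIndex_eq_one.mp ?_)
    haveI hOn : (pResidual p ↥X).Normal := Transfer.pResidual_normal ↥X p
    obtain ⟨n, hn⟩ := (Transfer.isPGroup_quotient_of_pResidual_le (pResidual p ↥X) le_rfl).exists_card_eq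
    have h1 : O.relIndex X = p ^ n := by
      rw [relIndex, hO, subgroupOf, comap_map_eq_self_of_injective X.subtype_injective, index_eq_card]
      exact hn
    exact Nat.eq_one_of_dvd_coprimes
      ((hp.out.coprime_iff_not_dvd.mpr
        (isSylIn_inf_of_normalized h.sylow hX.2.1 hX.le_normalizer).2.2).pow_left n)
      (h1 ▸ relIndex_dvd_of_le_left X le_sup_left) (relIndex_dvd_of_le_left X le_sup_right)
  rw [← hsup]
  exact sup_le hle (inf_le_left.trans h.S_le)

end Cfsg.Agent.Tech
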