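import Cfsg.Agent.Lib.ConjFunctor.Basic
import Cfsg.Agent.Lib.Fusion.Saturation
import Cfsg.Agent.Lib.Basics.Tools
import Cfsg.Agent.Lib.LocalEvenA.Core

/-!
Two conjugates of a tightly embedded subgroup normalizing one another at the prime 2.
-/

set_option autoImplicit false

namespace Cfsg.Agent.Tech

open Subgroup
open Cfsg.Agent.ConjFunctor

variable {G : Type*} [Group G] [Finite G]

theorem tight_inf_eq_bot {Q Q' T : Subgroup G} (hodd : Odd (Nat.card ↥(Q ⊓ Q')))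
    (hT : IsPGroup 2 T) (hTQ' : T ≤ Q') : T ⊓ Q = ⊥ := by
  haveI : Fact (Nat.Prime 2) := ⟨Nat.prime_two⟩
  refine Subgroup.eq_bot_of_card_eq _ ?_
  obtain ⟨k, hk⟩ := IsPGroup.iff_card.mp (hT.to_le (inf_le_left : T ⊓ Q ≤ T))
  have hd : Nat.card ↥(T ⊓ Q) ∣ Nat.card ↥(Q ⊓ Q') :=
    card_dvd_of_le (le_inf inf_le_right (inf_le_left.trans hTQ'))
  rw [hk] at hd ⊢
  rcases Nat.eq_zero_or_pos k with rfl | hk0
  · simp
  · exact absurd ((dvd_pow_self 2 hk0.ne').trans hd) hodd.not_two_dvd_nat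

/-- The structure of `N_S(T)` for a Sylow 2-subgroup `T` of `Q' ∩ N(Q)`. -/
theorem tight_pair {Q Q' : Subgroup G} (hodd : Odd (Nat.card ↥(Q ⊓ Q')))
    (hte : ∀ x : G, x ∉ normalizer (Q' : Set G) →
      Odd (Nat.card ↥(Q' ⊓ Q'.map (MulAut.conj x).toMonoidHom)))
    (e : Q ≃* Q')
    {T : Subgroup G} (hT : IsSylIn 2 T (Q' ⊓ normalizer (Q : Set G))) (hT1 : T ≠ ⊥)
    {S : Subgroup G} (hS : IsSylIn 2 S (Q ⊔ T)) (hTS : T ≤ S) :
    T ⊓ Q = ⊥ ∧ ⁅T, S ⊓ normalizer (T : Set G) ⊓ Q⁆ = ⊥ ∧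
      T ⊔ (S ⊓ normalizer (T : Set G) ⊓ Q) = S ⊓ normalizer (T : Set G) ∧
      S ⊓ normalizer (T : Set G) ⊓ Q ≤ normalizer (Q' : Set G) ∧
      Nat.card T ≤ Nat.card ↥(S ⊓ normalizer (T : Set G) ⊓ Q) ∧
      (Nat.card ↥(S ⊓ normalizer (T : Set G) ⊓ Q) ≤ Nat.card T →
        Nonempty (↥(S ⊓ normalizer (T : Set G) ⊓ Q) ≃* T)) := by
  haveI : Fact (Nat.Prime 2) := ⟨Nat.prime_two⟩
  set U := S ⊓ normalizer (T : Set G) ⊓ Q with hU
  have hTQ' : T ≤ Q' := hT.1.trans inf_le_left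
  have hTN : T ≤ normalizer (Q : Set G) := hT.1.trans inf_le_right
  have hbot : T ⊓ Q = ⊥ := tight_inf_eq_bot hodd hT.2.1 hTQ'
  have hcomm : ∀ u ∈ U, ∀ t ∈ T, t * u = u * t := by
    intro u hu t ht
    obtain ⟨⟨-, huN⟩, huQ⟩ : (u ∈ S ∧ u ∈ normalizer (T : Set G)) ∧ u ∈ Q :=
      ⟨Subgroup.mem_inf.mp (Subgroup.mem_inf.mp hu).1, (Subgroup.mem_inf.mp hu).2⟩
    have h1 : t * u * t⁻¹ * u⁻¹ ∈ T ⊓ Q := by
      refine Subgroup.mem_inf.mpr ⟨?_, mul_mem ((mem_normalizer_iff.mp (hTN ht) u).mp huQ) (inv_mem huQ)⟩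
      rw [mul_assoc t u, mul_assoc t]
      exact mul_mem ht ((mem_normalizer_iff.mp huN _).mp (inv_mem ht))
    rw [hbot, mem_bot, mul_inv_eq_one, mul_inv_eq_iff_eq_mul] at h1
    exact h1
  have hsplit : ∀ s ∈ S ⊓ normalizer (T : Set G), ∃ a ∈ T, ∃ b ∈ U, s = b * a := by
    intro s hs
    obtain ⟨hsS, hsN⟩ := Subgroup.mem_inf.mp hs
    obtain ⟨q, hq, t, ht, rfl⟩ := (Basics.mem_sup_of_le_normalizer hTN).mp (hS.1 hsS)
    refine ⟨t, ht, q, Subgroup.mem_inf.mpr ⟨Subgroup.mem_inf.mpr ⟨?_, ?_⟩, hq⟩, rfl⟩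
    · simpa using mul_mem hsS (inv_mem (hTS ht))
    · simpa using mul_mem hsN (inv_mem (le_normalizer ht))
  have hsup : T ⊔ U = S ⊓ normalizer (T : Set G) := by
    refine le_antisymm (sup_le (le_inf hTS le_normalizer) inf_le_left) fun s hs => ?_
    obtain ⟨a, ha, b, hb, rfl⟩ := hsplit s hs
    exact mul_mem (mem_sup_right hb) (mem_sup_left ha)
  have hcen : ∀ t ∈ T, t ≠ 1 → ∀ x : G, x * t = t * x → x ∈ normalizer (Q' : Set G) := by
    intro t ht ht1 x hx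
    by_contra hxn
    have h1 := tight_inf_eq_bot (hte x hxn) (hT.2.1.to_le (zpowers_le.mpr ht))
      (zpowers_le.mpr (show t ∈ Q'.map (MulAut.conj x).toMonoidHom from
        ⟨t, hTQ' ht, by simp [hx]⟩))
    exact ht1 (mem_bot.mp (h1 ▸ Subgroup.mem_inf.mpr ⟨mem_zpowers t, hTQ' ht⟩))
  have hUN : U ≤ normalizer (Q' : Set G) := by
    obtain ⟨t, ht, ht1⟩ := (ne_bot_iff_exists_ne_one).mp hT1 |> fun ⟨t, h⟩ =>
      (⟨(t : G), t.2, fun h' => h (Subtype.ext h')⟩ : ∃ t ∈ T, t ≠ (1 : G))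
    exact fun u hu => hcen t ht ht1 u (hcomm u hu t ht).symm
  refine ⟨hbot, ?_, hsup, hUN, ?_⟩
  · rw [commutator_eq_bot_iff_le_centralizer]
    exact fun t ht => mem_centralizer_iff.mpr fun u hu => (hcomm u hu t ht).symm
  by_cases hSN : S ≤ normalizer (T : Set G)
  · -- `U` is a Sylow subgroup of `Q`
    have hUQ : U = S ⊓ Q := by rw [hU, inf_eq_left.mpr hSN]
    have hUsyl : IsSylIn 2 U Q := by
      refine ⟨inf_le_right, hS.2.1.to_le (inf_le_left.trans inf_le_left), ?_⟩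
      rw [hUQ, inf_relIndex_right]
      haveI : (Q.subgroupOf (Q ⊔ T)).Normal :=
        normal_subgroupOf_of_le_normalizer (sup_le le_normalizer hTN)
      intro hd
      let S₀ : Sylow 2 ↥(Q ⊔ T) := (hS.2.1.comap_subtype (K := Q ⊔ T)).toSylow hS.2.2
      obtain ⟨P₀, hP₀⟩ := LocalEvenA.exists_sylow_subgroupOf_normal S₀ (Q.subgroupOf (Q ⊔ T))
      refine P₀.not_dvd_index ?_
      rw [hP₀]
      show 2 ∣ (S.subgroupOf (Q ⊔ T)).relIndex (Q.subgroupOf (Q ⊔ T))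
      rwa [relIndex_subgroupOf le_sup_left]
    let R : Sylow 2 Q := (hUsyl.2.1.comap_subtype (K := Q)).toSylow hUsyl.2.2
    let R' : Sylow 2 Q' := R.mapSurjective (f := e.toMonoidHom) e.surjective
    obtain ⟨T', hT'⟩ := (hT.2.1.comap_subtype (K := Q')).exists_le_sylow
    have hcardT : Nat.card ↥(T.subgroupOf Q') = Nat.card T :=
      Nat.card_congr (subgroupOfEquivOfLe hTQ').toEquiv
    let e₁ : U ≃* (R' : Subgroup Q') := (subgroupOfEquivOfLe hUsyl.1).symm.trans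
      ((R : Subgroup Q).equivMapOfInjective e.toMonoidHom e.injective)
    have hUcard : Nat.card U = Nat.card (R' : Subgroup Q') := Nat.card_congr e₁.toEquiv
    have hTT : Nat.card T ≤ Nat.card (R' : Subgroup Q') := by
      rw [← hcardT, Nat.card_congr ((R'.equiv T').toEquiv)]
      exact card_le_of_le hT'
    refine ⟨hUcard ▸ hTT, fun hle => ?_⟩
    have heq : T.subgroupOf Q' = (T' : Subgroup Q') := eq_of_le_of_card_ge hT' (by
      rw [hcardT, ← Nat.card_congr ((R'.equiv T').toEquiv), ← hUcard]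
      exact hle)
    exact ⟨e₁.trans ((R'.equiv T').trans ((MulEquiv.subgroupCongr heq.symm).trans (subgroupOfEquivOfLe hTQ')))⟩
  · have hlt : S ⊓ normalizer (T : Set G) < S :=
      lt_of_le_not_ge inf_le_left fun h => hSN (h.trans inf_le_right)
    obtain ⟨s, hsS, hs0, hsN⟩ := Fusion.exists_mem_not_mem_normalizer hS.2.1 hlt
    have hsQ : s ∈ normalizer (Q : Set G) :=
      (sup_le le_normalizer hTN : Q ⊔ T ≤ normalizer (Q : Set G)) (hS.1 hsS)
    have hsT : s ∉ normalizer (T : Set G) := fun h => hs0 (Subgroup.mem_inf.mpr ⟨hsS, h⟩)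
    have hsQ' : s ∉ normalizer (Q' : Set G) := by
      intro h
      apply hsT
      have hsup' : IsPGroup 2 ↥(T ⊔ T.map (MulAut.conj s).toMonoidHom) := by
        refine hS.2.1.to_le (sup_le hTS ?_)
        rintro _ ⟨t, ht, rfl⟩
        exact mul_mem (mul_mem hsS (hTS ht)) (inv_mem hsS)
      have hle : T ⊔ T.map (MulAut.conj s).toMonoidHom ≤ Q' ⊓ normalizer (Q : Set G) := by
        refine sup_le hT.1 ?_
        rintro _ ⟨t, ht, rfl⟩
        exact Subgroup.mem_inf.mpr ⟨(mem_normalizer_iff.mp h t).mp (hTQ' ht),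
          mul_mem (mul_mem hsQ (hTN ht)) (inv_mem hsQ)⟩
      have h2 := eq_of_isSylIn_of_le hT le_sup_left hle hsup'
      exact cj_eq_iff.mp (eq_of_le_of_card_ge (le_sup_right.trans h2.le) (by rw [cj_card]))
    have hTs : ∀ t ∈ T, s * t * s⁻¹ ∈ T → t = 1 := by
      intro t ht hts
      by_contra ht1
      have h1 := tight_inf_eq_bot (hte s hsQ') (hT.2.1.to_le (zpowers_le.mpr hts))
        (zpowers_le.mpr (show s * t * s⁻¹ ∈ Q'.map (MulAut.conj s).toMonoidHom from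
          ⟨t, hTQ' ht, rfl⟩))
      have h2 : s * t * s⁻¹ = 1 :=
        mem_bot.mp (h1 ▸ Subgroup.mem_inf.mpr ⟨mem_zpowers _, hTQ' hts⟩)
      exact ht1 (conj_eq_one_iff.mp h2)
    have hmem : ∀ t : T, s * (t : G) * s⁻¹ ∈ S ⊓ normalizer (T : Set G) := fun t =>
      (mem_normalizer_iff.mp hsN (t : G)).mp (Subgroup.mem_inf.mpr ⟨hTS t.2, le_normalizer t.2⟩)
    choose a ha b hb hab using fun t : T => hsplit _ (hmem t)
    have huniq : ∀ {a₁ a₂ b₁ b₂ : G}, a₁ ∈ T → a₂ ∈ T → b₁ ∈ U → b₂ ∈ U →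
        b₁ * a₁ = b₂ * a₂ → b₁ = b₂ := by
      intro a₁ a₂ b₁ b₂ ha₁ ha₂ hb₁ hb₂ h
      have h1 : b₂⁻¹ * b₁ ∈ T ⊓ Q := by
        refine Subgroup.mem_inf.mpr ⟨?_, mul_mem (inv_mem (Subgroup.mem_inf.mp hb₂).2) (Subgroup.mem_inf.mp hb₁).2⟩
        have : b₂⁻¹ * b₁ = a₂ * a₁⁻¹ := by
          calc b₂⁻¹ * b₁ = b₂⁻¹ * (b₁ * a₁) * a₁⁻¹ := by group
            _ = a₂ * a₁⁻¹ := by rw [h]; group
        rw [this]; exact mul_mem ha₂ (inv_mem ha₁)
      rw [hbot, mem_bot, inv_mul_eq_one] at h1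
      exact h1.symm
    let φ : T →* U := MonoidHom.mk' (fun t => ⟨b t, hb t⟩) fun t₁ t₂ => Subtype.ext (by
      refine huniq (ha (t₁ * t₂)) (mul_mem (ha t₁) (ha t₂)) (hb _) (mul_mem (hb t₁) (hb t₂)) ?_
      rw [← hab]
      calc s * ((t₁ * t₂ : T) : G) * s⁻¹ = (s * (t₁ : G) * s⁻¹) * (s * (t₂ : G) * s⁻¹) := by
            rw [Subgroup.coe_mul]; group
        _ = b t₁ * (a t₁ * b t₂) * a t₂ := by rw [hab, hab]; simp [mul_assoc]
        _ = _ := by rw [hcomm _ (hb t₂) _ (ha t₁)]; simp [mul_assoc])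
    have hφ : Function.Injective φ := (injective_iff_map_eq_one φ).mpr fun t h => by
      have h1 : b t = 1 := congrArg Subtype.val h
      refine Subtype.ext (hTs t t.2 ?_)
      rw [hab t, h1, one_mul]
      exact ha t
    have hcard : Nat.card T ≤ Nat.card U := Nat.card_le_card_of_injective φ hφ
    exact ⟨hcard, fun hle => ⟨(MulEquiv.ofBijective φ
      (hφ.bijective_of_nat_card_le hle)).symm⟩⟩

end Cfsg.Agent.Tech
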