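import Mathlib

/-!
# Coprime action with two fixed-point subgroups: commutator step
-/

set_option autoImplicit false

namespace Cfsg.Agent.TwoFixed

open scoped commutatorElement

variable {S : Type*} [Group S]

theorem oneSide (N M P C₁ C₂ : Subgroup S) [N.Normal] [Finite S] (x : S)
    (hMN : ⁅M, P⁆ ≤ N) (hP₁ : C₁ ≤ P) (hP₂ : C₂ ≤ P) (hMP : M ≤ P)
    (hgen : M ≤ (M ⊓ C₁) ⊔ (M ⊓ C₂))
    (hM : ∀ a ∈ C₁, ∀ c ∈ C₂, ⁅a, c⁆ ∈ M)
    (hfix : ∀ u ∈ C₁, u * x = x * u) (hinv : ∀ u ∈ C₂, x * u * x⁻¹ ∈ C₂)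
    (hfree : ∀ u ∈ C₂, u * x = x * u → u = 1) :
    ∀ a ∈ C₁, ∀ c ∈ C₂, ∃ v ∈ C₂, QuotientGroup.mk' N ⁅a, c⁆ = QuotientGroup.mk' N v := by
  intro a ha c hc
  set π := QuotientGroup.mk' N
  let φ : ↥C₂ → ↥C₂ := fun b =>
    ⟨(b : S)⁻¹ * (x * b * x⁻¹), mul_mem (inv_mem b.2) (hinv b b.2)⟩
  have hinj : Function.Injective φ := by
    intro b b' h
    have h' : (b : S)⁻¹ * (x * b * x⁻¹) = (b' : S)⁻¹ * (x * b' * x⁻¹) := congrArg Subtype.val h
    have e : (b : S) * (b' : S)⁻¹ * x = x * ((b : S) * (b' : S)⁻¹) := by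
      calc (b : S) * (b' : S)⁻¹ * x
          = (b : S) * ((b' : S)⁻¹ * (x * b' * x⁻¹)) * (x * (b' : S)⁻¹) := by group
        _ = (b : S) * ((b : S)⁻¹ * (x * b * x⁻¹)) * (x * (b' : S)⁻¹) := by rw [h']
        _ = x * ((b : S) * (b' : S)⁻¹) := by group
    exact Subtype.ext (mul_inv_eq_one.1 (hfree _ (mul_mem b.2 (inv_mem b'.2)) e))
  obtain ⟨⟨b, hb⟩, hbc⟩ := Finite.surjective_of_injective hinj ⟨c, hc⟩
  have hcb : b⁻¹ * (x * b * x⁻¹) = c := congrArg Subtype.val hbc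
  have hcomm : ∀ m ∈ M, ∀ y ∈ P, π m * π y = π y * π m := by
    intro m hm y hy
    have : π ⁅m, y⁆ = 1 := (QuotientGroup.eq_one_iff _).2
      (hMN (Subgroup.commutator_mem_commutator hm hy))
    rwa [map_commutatorElement, commutatorElement_eq_one_iff_mul_comm] at this
  -- split `⁅a, b⁆` modulo `N`
  have hsplit : ∃ z₁ ∈ M ⊓ C₁, ∃ z₂ ∈ M ⊓ C₂, π ⁅a, b⁆ = π z₁ * π z₂ := by
    have h1 : π ⁅a, b⁆ ∈ ((M ⊓ C₁).map π) ⊔ ((M ⊓ C₂).map π) := by
      rw [← Subgroup.map_sup]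
      exact Subgroup.mem_map_of_mem _ (hgen (hM a ha b hb))
    have h2 : (M ⊓ C₁).map π ≤ Subgroup.normalizer (((M ⊓ C₂).map π : Subgroup _) : Set _) := by
      rintro _ ⟨m, hm, rfl⟩
      rw [Subgroup.mem_normalizer_iff]
      intro w
      have hcw : ∀ w ∈ (M ⊓ C₂).map π, π m * w * (π m)⁻¹ = w := by
        rintro _ ⟨n, hn, rfl⟩
        rw [hcomm m (Subgroup.mem_inf.1 hm).1 n (hP₂ (Subgroup.mem_inf.1 hn).2),
          mul_inv_cancel_right]
      constructor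
      · intro hw; rw [hcw w hw]; exact hw
      · intro hw
        have := hcw _ hw
        have e : w = π m * w * (π m)⁻¹ := by
          calc w = (π m)⁻¹ * (π m * w * (π m)⁻¹) * π m := by group
            _ = (π m)⁻¹ * (π m * (π m * w * (π m)⁻¹) * (π m)⁻¹) * π m := by rw [this]
            _ = π m * w * (π m)⁻¹ := by group
        rw [e]; exact hw
    rw [← SetLike.mem_coe, Subgroup.coe_mul_of_left_le_normalizer_right _ _ h2] at h1
    obtain ⟨_, ⟨z₁, hz₁, rfl⟩, _, ⟨z₂, hz₂, rfl⟩, he⟩ := h1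
    exact ⟨z₁, hz₁, z₂, hz₂, he.symm⟩
  obtain ⟨z₁, hz₁, z₂, hz₂, hz⟩ := hsplit
  have hz₂C : z₂ ∈ C₂ := (Subgroup.mem_inf.1 hz₂).2
  refine ⟨z₂⁻¹ * (x * z₂ * x⁻¹), mul_mem (inv_mem hz₂C) (hinv _ hz₂C), ?_⟩
  have hxa : x * a * x⁻¹ = a := by rw [← hfix a ha, mul_inv_cancel_right]
  have hid : ⁅a, c⁆ = b⁻¹ * (⁅a, b⁆⁻¹ * (x * ⁅a, b⁆ * x⁻¹)) * b := by
    have e1 : x * ⁅a, b⁆ * x⁻¹
        = (x * a * x⁻¹) * (x * b * x⁻¹) * (x * a * x⁻¹)⁻¹ * (x * b * x⁻¹)⁻¹ := by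
      rw [commutatorElement_def]; group
    rw [e1, hxa, ← hcb, commutatorElement_def, commutatorElement_def]
    group
  have hxz₁ : π x * π z₁ = π z₁ * π x := by
    rw [← map_mul, ← hfix z₁ (Subgroup.mem_inf.1 hz₁).2, map_mul]
  have hwM : ⁅a, b⁆⁻¹ * (x * ⁅a, b⁆ * x⁻¹) ∈ M := by
    have e1 : x * ⁅a, b⁆ * x⁻¹ = ⁅x * a * x⁻¹, x * b * x⁻¹⁆ := by
      rw [commutatorElement_def, commutatorElement_def]; group
    rw [e1, hxa]
    exact mul_mem (inv_mem (hM a ha b hb)) (hM a ha _ (hinv b hb))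
  calc π ⁅a, c⁆ = (π b)⁻¹ * (π (⁅a, b⁆⁻¹ * (x * ⁅a, b⁆ * x⁻¹)) * π b) := by
        rw [hid, map_mul, map_mul, map_inv, mul_assoc]
    _ = π (⁅a, b⁆⁻¹ * (x * ⁅a, b⁆ * x⁻¹)) := by
        rw [hcomm _ hwM b (hP₂ hb), inv_mul_cancel_left]
    _ = (π z₁ * π z₂)⁻¹ * (π x * π z₁ * π z₂ * (π x)⁻¹) := by
        simp only [map_mul, map_inv, hz, mul_assoc]
    _ = π (z₂⁻¹ * (x * z₂ * x⁻¹)) := by
        rw [hxz₁]; simp only [map_mul, map_inv]; group

/-- A coset fixed by `x` of a coprime subgroup contains a fixed point. -/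
theorem coset_mem (N C₁ C₂ : Subgroup S) [N.Normal] [Finite S] (x : S) {q : ℕ} [hq : Fact q.Prime]
    (hx : x ^ q = 1) (hcop : (Nat.card ↥(C₁ ⊓ N)).Coprime q)
    (hfix : ∀ u ∈ C₂, u * x = x * u) (hinv : ∀ u ∈ C₁, x * u * x⁻¹ ∈ C₁)
    (hfree : ∀ u ∈ C₁, u * x = x * u → u = 1)
    {u v : S} (hu : u ∈ C₁) (hv : v ∈ C₂)
    (huv : QuotientGroup.mk' N u = QuotientGroup.mk' N v) : u ∈ N := by
  classical
  set π := QuotientGroup.mk' N
  let Y := {w : S // w ∈ C₁ ∧ π w = π v}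
  haveI : Fintype Y := Fintype.ofFinite Y
  let f : Y → Y := fun w => ⟨x * w.1 * x⁻¹, hinv _ w.2.1, by
    rw [map_mul, map_mul, w.2.2, ← map_mul, ← map_mul, ← hfix v hv, mul_inv_cancel_right]⟩
  have hf : ∀ (n : ℕ) (w : Y), (f^[n] w).1 = x ^ n * w.1 * (x ^ n)⁻¹ := by
    intro n
    induction n with
    | zero => intro w; simp
    | succ n ih =>
      intro w
      rw [Function.iterate_succ_apply']
      show x * (f^[n] w).1 * x⁻¹ = _
      rw [ih, pow_succ']; group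
  have hper : ∀ w, f^[q] w = w := fun w => Subtype.ext (by rw [hf, hx]; group)
  let σ : Equiv.Perm Y :=
    ⟨f, f^[q - 1], fun w => by
      rw [← Function.iterate_succ_apply, show (q - 1).succ = q by have := hq.out.pos; omega]
      exact hper w, fun w => by
      rw [← Function.iterate_succ_apply' f, show (q - 1).succ = q by have := hq.out.pos; omega]
      exact hper w⟩
  have hσ : σ ^ q ^ 1 = 1 := by
    ext1 w
    rw [pow_one, Equiv.Perm.coe_pow]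
    exact hper w
  have hcard : Nat.card Y = Nat.card ↥(C₁ ⊓ N) := by
    refine Nat.card_congr
      { toFun := fun w => ⟨u⁻¹ * w.1, Subgroup.mem_inf.2 ⟨mul_mem (inv_mem hu) w.2.1,
          (QuotientGroup.eq_one_iff _).1 (show π (u⁻¹ * w.1) = 1 by
            rw [map_mul, map_inv, w.2.2, huv, inv_mul_cancel])⟩⟩
        invFun := fun n => ⟨u * n.1, mul_mem hu (Subgroup.mem_inf.1 n.2).1, by
          rw [map_mul, huv, show π (n : S) = 1 from (QuotientGroup.eq_one_iff _).2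
            (Subgroup.mem_inf.1 n.2).2, mul_one]⟩
        left_inv := fun w => Subtype.ext (mul_inv_cancel_left _ _)
        right_inv := fun n => Subtype.ext (inv_mul_cancel_left _ _) }
  have hndvd : ¬ q ∣ Fintype.card Y := by
    rw [← Nat.card_eq_fintype_card, hcard]
    exact (hq.out.coprime_iff_not_dvd).1 hcop.symm
  obtain ⟨w, hw⟩ := Equiv.Perm.exists_fixed_point_of_prime hndvd hσ
  have hw' : x * w.1 * x⁻¹ = w.1 := congrArg Subtype.val hw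
  have h1 : w.1 = 1 := hfree _ w.2.1 (mul_inv_eq_iff_eq_mul.1 hw').symm
  have h2 := w.2.2
  rw [h1, map_one] at h2
  exact (QuotientGroup.eq_one_iff _).1 (huv.trans h2.symm)

end Cfsg.Agent.TwoFixed
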